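import Mathlib

set_option autoImplicit false

namespace Cfsg.Agent.Helper67

open Pointwise

section cj

variable {G : Type*} [Group G]

/-- Conjugate of a subgroup: `g H g⁻¹`. -/
def cj (g : G) (H : Subgroup G) : Subgroup G := H.map (MulAut.conj g).toMonoidHom

theorem mem_cj {g y : G} {H : Subgroup G} : y ∈ cj g H ↔ g⁻¹ * y * g ∈ H := by
  unfold cj
  rw [Subgroup.mem_map]
  constructor
  · rintro ⟨x, hx, rfl⟩
    simpa [mul_assoc] using hx
  · intro h
    exact ⟨g⁻¹ * y * g, h, by simp [mul_assoc]⟩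

theorem conj_mem_cj {g x : G} {H : Subgroup G} (hx : x ∈ H) : g * x * g⁻¹ ∈ cj g H := by
  rw [mem_cj]; simpa [mul_assoc] using hx

theorem cj_mono {g : G} {H K : Subgroup G} (h : H ≤ K) : cj g H ≤ cj g K :=
  Subgroup.map_mono h

theorem cj_one (H : Subgroup G) : cj 1 H = H := by
  ext y; simp [mem_cj]

theorem cj_cj (g h : G) (H : Subgroup G) : cj g (cj h H) = cj (g * h) H := by
  ext y; simp [mem_cj, mul_assoc]

theorem cj_inv_cj (g : G) (H : Subgroup G) : cj g⁻¹ (cj g H) = H := by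
  rw [cj_cj, inv_mul_cancel, cj_one]

theorem cj_cj_inv (g : G) (H : Subgroup G) : cj g (cj g⁻¹ H) = H := by
  rw [cj_cj, mul_inv_cancel, cj_one]

theorem cj_injective (g : G) : Function.Injective (cj g : Subgroup G → Subgroup G) := by
  intro H K h
  have := congrArg (cj g⁻¹) h
  simpa [cj_inv_cj] using this

theorem cj_le_iff {g : G} {H K : Subgroup G} : cj g H ≤ K ↔ H ≤ cj g⁻¹ K := by
  constructor
  · intro h
    have := cj_mono (g := g⁻¹) h
    rwa [cj_inv_cj] at this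
  · intro h
    have := cj_mono (g := g) h
    rwa [cj_cj_inv] at this

theorem cj_sup (g : G) (H K : Subgroup G) : cj g (H ⊔ K) = cj g H ⊔ cj g K :=
  Subgroup.map_sup H K _

theorem cj_eq_self_of_mem_normalizer {g : G} {H : Subgroup G}
    (hg : g ∈ Subgroup.normalizer (H : Set G)) : cj g H = H := by
  ext y
  rw [mem_cj]
  have hg' : g⁻¹ ∈ Subgroup.normalizer (H : Set G) := inv_mem hg
  rw [Subgroup.mem_normalizer_iff] at hg'
  have := hg' y
  simp only [inv_inv] at this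
  exact this.symm

theorem isPGroup_cj {p : ℕ} {g : G} {H : Subgroup G} (h : IsPGroup p H) : IsPGroup p (cj g H) :=
  h.map _

theorem sylow_smul_coe {p : ℕ} (g : G) (Q : Sylow p G) :
    ((g • Q : Sylow p G) : Subgroup G) = cj g (Q : Subgroup G) := by
  ext y
  rw [mem_cj, Sylow.coe_subgroup_smul, Subgroup.mem_pointwise_smul_iff_inv_smul_mem]
  simp [MulAut.smul_def]

end cj

section BS

variable {G : Type*} [Group G] [Finite G] {p : ℕ} [Fact p.Prime]

/-- In a finite `p`-group, normalizers grow. -/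
theorem exists_mem_normalizer_not_mem {H E : Subgroup G} (hE : IsPGroup p E) (hHE : H < E) :
    ∃ e ∈ E, e ∉ H ∧ e ∈ Subgroup.normalizer (H : Set G) := by
  have : Group.IsNilpotent E := hE.isNilpotent
  have hnc : NormalizerCondition E := Group.normalizerCondition_of_isNilpotent
  have hlt : H.subgroupOf E < ⊤ := by
    rw [lt_top_iff_ne_top]
    intro h
    rw [Subgroup.subgroupOf_eq_top] at h
    exact (not_le_of_gt hHE) h
  obtain ⟨e', he'N, he'H⟩ := SetLike.exists_of_lt (hnc _ hlt)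
  refine ⟨(e' : G), e'.2, ?_, ?_⟩
  · intro h
    exact he'H (Subgroup.mem_subgroupOf.2 h)
  · rw [← Subgroup.subgroupOf_normalizer_eq hHE.le] at he'N
    exact Subgroup.mem_subgroupOf.1 he'N

theorem card_lt_card_of_lt {H K : Subgroup G} (h : H < K) : Nat.card H < Nat.card K := by
  rcases lt_or_ge (Nat.card H) (Nat.card K) with h1 | h1
  · exact h1
  · exfalso
    have := Subgroup.eq_of_le_of_card_ge h.le h1
    exact h.ne this

/-- Key step of the Alperin-Lyons argument inside a single `p`-group `P`. -/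
theorem exists_normalizing_member (P : Subgroup G) (hP : IsPGroup p P)
    (Y : Set (Subgroup G)) (hYP : ∀ Z ∈ Y, Z ≤ P) (hconj : ∀ Z ∈ Y, ∀ g ∈ P, cj g Z ∈ Y)
    (D : Subgroup G) (hD : D ≤ sSup {Z | Z ∈ Y ∧ Z ≤ D}) (Y0 : Subgroup G) (hY0 : Y0 ∈ Y)
    (hY0D : ¬ Y0 ≤ D) :
    ∃ Z ∈ Y, ¬ Z ≤ D ∧ Z ≤ Subgroup.normalizer (D : Set G) := by
  set E : Subgroup G := sSup Y with hEdef
  have hEP : E ≤ P := sSup_le hYP
  have hE : IsPGroup p E := hP.to_le hEP
  have hDE : D ≤ E := hD.trans (sSup_le_sSup (fun Z hZ => hZ.1))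
  have key : ∀ n : ℕ, ∀ H : Subgroup G, Nat.card E - Nat.card H = n → D ≤ H → H ≤ E →
      (∀ Z ∈ Y, Z ≤ H → Z ≤ D) → ∃ Z ∈ Y, ¬ Z ≤ D ∧ Z ≤ Subgroup.normalizer (D : Set G) := by
    intro n
    induction n using Nat.strong_induction_on with
    | _ n ih =>
      intro H hn hDH hHE hH
      have hne : H ≠ E := by
        rintro rfl
        exact hY0D (hH Y0 hY0 (le_sSup hY0))
      have hlt : H < E := lt_of_le_of_ne hHE hne
      obtain ⟨e, heE, heH, heN⟩ := exists_mem_normalizer_not_mem hE hlt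
      set H' : Subgroup G := Subgroup.normalizer (H : Set G) ⊓ E with hH'
      have hHH' : H < H' := by
        refine lt_of_le_of_ne (le_inf Subgroup.le_normalizer hHE) ?_
        intro h
        apply heH
        rw [h]
        exact ⟨heN, heE⟩
      by_cases hcase : ∀ Z ∈ Y, Z ≤ H' → Z ≤ D
      · have h1 : Nat.card H < Nat.card H' := card_lt_card_of_lt hHH'
        have h2 : Nat.card H' ≤ Nat.card E := Subgroup.card_le_of_le inf_le_right
        exact ih (Nat.card E - Nat.card H') (by omega) H' rfl (hDH.trans hHH'.le) inf_le_right hcase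
      · push Not at hcase
        obtain ⟨Z, hZY, hZH', hZD⟩ := hcase
        refine ⟨Z, hZY, hZD, ?_⟩
        -- every z ∈ Z conjugates D into D
        have hcjD : ∀ z ∈ Z, cj z D ≤ D := by
          intro z hz
          have hzN : z ∈ Subgroup.normalizer (H : Set G) := (hZH' hz).1
          have hzP : z ∈ P := hYP Z hZY hz
          rw [cj_le_iff]
          refine hD.trans (sSup_le ?_)
          rintro W ⟨hWY, hWD⟩
          rw [← cj_le_iff]
          apply hH _ (hconj W hWY z hzP)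
          calc cj z W ≤ cj z H := cj_mono (hWD.trans hDH)
            _ = H := cj_eq_self_of_mem_normalizer hzN
        intro z hz
        rw [Subgroup.mem_normalizer_iff]
        intro d
        constructor
        · intro hd
          exact hcjD z hz (conj_mem_cj hd)
        · intro hd
          have := hcjD z⁻¹ (inv_mem hz) (conj_mem_cj hd)
          simpa [mul_assoc] using this
  exact key _ D rfl le_rfl hDE (fun Z _ h => h)

/-- The members of a family lying in a given subgroup. -/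
def famIn (X : Set (Subgroup G)) (H : Subgroup G) : Set (Subgroup G) := {Z | Z ∈ X ∧ Z ≤ H}

omit [Finite G] in
theorem famIn_cj (X : Set (Subgroup G)) (hcl : ∀ Z ∈ X, ∀ g : G, cj g Z ∈ X) (g : G)
    (H : Subgroup G) : famIn X (cj g H) = cj g '' famIn X H := by
  ext Z
  constructor
  · rintro ⟨hZX, hZH⟩
    refine ⟨cj g⁻¹ Z, ⟨hcl Z hZX g⁻¹, ?_⟩, cj_cj_inv g Z⟩
    have := cj_mono (g := g⁻¹) hZH
    rwa [cj_inv_cj] at this
  · rintro ⟨W, ⟨hWX, hWH⟩, rfl⟩
    exact ⟨hcl W hWX g, cj_mono hWH⟩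

theorem famIn_eq_of_subset (X : Set (Subgroup G)) (hcl : ∀ Z ∈ X, ∀ g : G, cj g Z ∈ X)
    (P Q : Sylow p G) (h : famIn X (P : Subgroup G) ⊆ famIn X (Q : Subgroup G)) :
    famIn X (P : Subgroup G) = famIn X (Q : Subgroup G) := by
  obtain ⟨g, hg⟩ := MulAction.exists_smul_eq G P Q
  have hQ : (Q : Subgroup G) = cj g (P : Subgroup G) := by
    rw [← hg, sylow_smul_coe]
  apply Set.eq_of_subset_of_ncard_le h _ (Set.toFinite _)
  rw [hQ, famIn_cj X hcl, Set.ncard_image_of_injective _ (cj_injective g)]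

/-- Core of Baer-Suzuki (Alperin-Lyons): for a conjugation-closed family of subgroups,
any two of which generate a `p`-group, all Sylow `p`-subgroups contain the same members. -/
theorem famIn_sylow_eq (X : Set (Subgroup G)) (hcl : ∀ Z ∈ X, ∀ g : G, cj g Z ∈ X)
    (hpair : ∀ Z ∈ X, ∀ W ∈ X, IsPGroup p ↥(Z ⊔ W)) :
    ∀ P Q : Sylow p G, famIn X (P : Subgroup G) = famIn X (Q : Subgroup G) := by
  have key : ∀ n : ℕ, ∀ P Q : Sylow p G,
      Nat.card (Subgroup G) - (famIn X (P : Subgroup G) ∩ famIn X (Q : Subgroup G)).ncard = n →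
      famIn X (P : Subgroup G) = famIn X (Q : Subgroup G) := by
    intro n
    induction n using Nat.strong_induction_on with
    | _ n ih =>
      intro P Q hn
      by_contra hne
      have hPQ : ¬ famIn X (P : Subgroup G) ⊆ famIn X (Q : Subgroup G) :=
        fun h => hne (famIn_eq_of_subset X hcl P Q h)
      have hQP : ¬ famIn X (Q : Subgroup G) ⊆ famIn X (P : Subgroup G) :=
        fun h => hne (famIn_eq_of_subset X hcl Q P h).symm
      set D : Subgroup G := sSup {Z | Z ∈ X ∧ Z ≤ (P : Subgroup G) ∧ Z ≤ (Q : Subgroup G)} with hDdef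
      have hDP : D ≤ P := sSup_le (fun Z hZ => hZ.2.1)
      have hDQ : D ≤ Q := sSup_le (fun Z hZ => hZ.2.2)
      have hDle : ∀ Z ∈ X, Z ≤ (P : Subgroup G) → Z ≤ (Q : Subgroup G) → Z ≤ D :=
        fun Z hZ h1 h2 => le_sSup ⟨hZ, h1, h2⟩
      -- the element from P
      have hx : ∃ x ∈ X, x ≤ (P : Subgroup G) ∧ ¬ x ≤ (Q : Subgroup G) ∧
          x ≤ Subgroup.normalizer (D : Set G) := by
        obtain ⟨Y0, ⟨hY0X, hY0P⟩, hY0Q⟩ := Set.not_subset.1 hPQ
        have hY0Q' : ¬ Y0 ≤ (Q : Subgroup G) := fun h => hY0Q ⟨hY0X, h⟩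
        obtain ⟨x, ⟨hxX, hxP⟩, hxD, hxN⟩ := exists_normalizing_member (P : Subgroup G) P.isPGroup'
          (famIn X (P : Subgroup G)) (fun Z hZ => hZ.2)
          (fun Z hZ g hg => ⟨hcl Z hZ.1 g, by
            have := cj_mono (g := g) hZ.2
            rwa [cj_eq_self_of_mem_normalizer (Subgroup.le_normalizer hg)] at this⟩)
          D (sSup_le_sSup (fun Z hZ => ⟨⟨hZ.1, hZ.2.1⟩, le_sSup hZ⟩)) Y0 ⟨hY0X, hY0P⟩
          (fun h => hY0Q' (h.trans hDQ))
        exact ⟨x, hxX, hxP, fun h => hxD (hDle x hxX hxP h), hxN⟩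
      have hy : ∃ y ∈ X, y ≤ (Q : Subgroup G) ∧ ¬ y ≤ (P : Subgroup G) ∧
          y ≤ Subgroup.normalizer (D : Set G) := by
        obtain ⟨Y0, ⟨hY0X, hY0Q⟩, hY0P⟩ := Set.not_subset.1 hQP
        have hY0P' : ¬ Y0 ≤ (P : Subgroup G) := fun h => hY0P ⟨hY0X, h⟩
        obtain ⟨y, ⟨hyX, hyQ⟩, hyD, hyN⟩ := exists_normalizing_member (Q : Subgroup G) Q.isPGroup'
          (famIn X (Q : Subgroup G)) (fun Z hZ => hZ.2)
          (fun Z hZ g hg => ⟨hcl Z hZ.1 g, by
            have := cj_mono (g := g) hZ.2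
            rwa [cj_eq_self_of_mem_normalizer (Subgroup.le_normalizer hg)] at this⟩)
          D (sSup_le_sSup (fun Z hZ => ⟨⟨hZ.1, hZ.2.2⟩, le_sSup hZ⟩)) Y0 ⟨hY0X, hY0Q⟩
          (fun h => hY0P' (h.trans hDP))
        exact ⟨y, hyX, hyQ, fun h => hyD (hDle y hyX h hyQ), hyN⟩
      obtain ⟨x, hxX, hxP, hxQ, hxN⟩ := hx
      obtain ⟨y, hyX, hyQ, hyP, hyN⟩ := hy
      have hT : IsPGroup p ↥((x ⊔ y) ⊔ D) :=
        IsPGroup.to_sup_of_normal_right' (hpair x hxX y hyX) (P.isPGroup'.to_le hDP)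
          (sup_le hxN hyN)
      obtain ⟨R, hR⟩ := hT.exists_le_sylow
      have hxR : x ≤ (R : Subgroup G) := (le_sup_left.trans le_sup_left).trans hR
      have hyR : y ≤ (R : Subgroup G) := (le_sup_right.trans le_sup_left).trans hR
      have hDR : D ≤ (R : Subgroup G) := le_sup_right.trans hR
      have hN : ∀ A : Set (Subgroup G), A.ncard ≤ Nat.card (Subgroup G) := by
        intro A
        rw [← Set.ncard_univ]
        exact Set.ncard_le_ncard (Set.subset_univ A) (Set.toFinite _)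
      have hPR : famIn X (P : Subgroup G) = famIn X (R : Subgroup G) := by
        have hss : famIn X (P : Subgroup G) ∩ famIn X (Q : Subgroup G) ⊂
            famIn X (P : Subgroup G) ∩ famIn X (R : Subgroup G) := by
          rw [Set.ssubset_iff_of_subset]
          · exact ⟨x, ⟨⟨hxX, hxP⟩, ⟨hxX, hxR⟩⟩, fun h => hxQ h.2.2⟩
          · rintro Z ⟨⟨hZX, hZP⟩, ⟨-, hZQ⟩⟩
            exact ⟨⟨hZX, hZP⟩, ⟨hZX, (hDle Z hZX hZP hZQ).trans hDR⟩⟩
        have hlt := Set.ncard_lt_ncard hss (Set.toFinite _)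
        have h2 := hN (famIn X (P : Subgroup G) ∩ famIn X (R : Subgroup G))
        exact ih _ (by omega) P R rfl
      have hQR : famIn X (Q : Subgroup G) = famIn X (R : Subgroup G) := by
        have hss : famIn X (Q : Subgroup G) ∩ famIn X (P : Subgroup G) ⊂
            famIn X (Q : Subgroup G) ∩ famIn X (R : Subgroup G) := by
          rw [Set.ssubset_iff_of_subset]
          · exact ⟨y, ⟨⟨hyX, hyQ⟩, ⟨hyX, hyR⟩⟩, fun h => hyP h.2.2⟩
          · rintro Z ⟨⟨hZX, hZQ⟩, ⟨-, hZP⟩⟩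
            exact ⟨⟨hZX, hZQ⟩, ⟨hZX, (hDle Z hZX hZP hZQ).trans hDR⟩⟩
        have hlt := Set.ncard_lt_ncard hss (Set.toFinite _)
        have h2 := hN (famIn X (Q : Subgroup G) ∩ famIn X (R : Subgroup G))
        rw [Set.inter_comm] at hn
        exact ih _ (by omega) Q R rfl
      exact hne (hPR.trans hQR.symm)
  intro P Q
  exact key _ P Q rfl

/-- Family form of Baer-Suzuki: every member lies in every Sylow `p`-subgroup. -/
theorem le_sylow_of_family (X : Set (Subgroup G)) (hcl : ∀ Z ∈ X, ∀ g : G, cj g Z ∈ X)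
    (hpair : ∀ Z ∈ X, ∀ W ∈ X, IsPGroup p ↥(Z ⊔ W)) (Z : Subgroup G) (hZ : Z ∈ X)
    (Q : Sylow p G) : Z ≤ (Q : Subgroup G) := by
  have hZp : IsPGroup p Z := by
    have := hpair Z hZ Z hZ
    rwa [sup_idem] at this
  obtain ⟨P, hP⟩ := hZp.exists_le_sylow
  have : Z ∈ famIn X (P : Subgroup G) := ⟨hZ, hP⟩
  rw [famIn_sylow_eq X hcl hpair P Q] at this
  exact this.2

/-- **Baer-Suzuki theorem**, subgroup form. -/
theorem baer_suzuki (X : Subgroup G)
    (h : ∀ g : G, IsPGroup p ↥(X ⊔ X.map (MulAut.conj g).toMonoidHom)) :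
    ∃ N : Subgroup G, N.Normal ∧ IsPGroup p N ∧ X ≤ N := by
  set F : Set (Subgroup G) := Set.range (fun g : G => cj g X) with hF
  have hcl : ∀ Z ∈ F, ∀ g : G, cj g Z ∈ F := by
    rintro Z ⟨a, rfl⟩ g
    exact ⟨g * a, (cj_cj g a X).symm⟩
  have hpair : ∀ Z ∈ F, ∀ W ∈ F, IsPGroup p ↥(Z ⊔ W) := by
    rintro Z ⟨a, rfl⟩ W ⟨b, rfl⟩
    have h1 : cj a X ⊔ cj b X = cj a (X ⊔ cj (a⁻¹ * b) X) := by
      rw [cj_sup, cj_cj, mul_inv_cancel_left]
    show IsPGroup p ↥(cj a X ⊔ cj b X)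
    rw [h1]
    exact isPGroup_cj (h (a⁻¹ * b))
  obtain ⟨P⟩ : Nonempty (Sylow p G) := inferInstance
  refine ⟨(P : Subgroup G).normalCore, Subgroup.normalCore_normal _,
    P.isPGroup'.to_le (Subgroup.normalCore_le _), ?_⟩
  intro x hx
  show ∀ b : G, b * x * b⁻¹ ∈ (P : Subgroup G)
  intro b
  have hle := le_sylow_of_family F hcl hpair (cj b X) ⟨b, rfl⟩ P
  exact hle (conj_mem_cj hx)

/-- **Baer-Suzuki theorem**, element form: if `x` and each of its conjugates generate a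
`p`-group, then `x` lies in every Sylow `p`-subgroup. -/
theorem baer_suzuki_elt (x : G)
    (h : ∀ g : G, IsPGroup p ↥(Subgroup.zpowers x ⊔ Subgroup.zpowers (g * x * g⁻¹)))
    (Q : Sylow p G) : x ∈ Q := by
  have hz : ∀ g : G, cj g (Subgroup.zpowers x) = Subgroup.zpowers (g * x * g⁻¹) := by
    intro g
    unfold cj
    rw [MonoidHom.map_zpowers]
    rfl
  set F : Set (Subgroup G) := Set.range (fun g : G => cj g (Subgroup.zpowers x)) with hF
  have hcl : ∀ Z ∈ F, ∀ g : G, cj g Z ∈ F := by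
    rintro Z ⟨a, rfl⟩ g
    exact ⟨g * a, (cj_cj g a _).symm⟩
  have hpair : ∀ Z ∈ F, ∀ W ∈ F, IsPGroup p ↥(Z ⊔ W) := by
    rintro Z ⟨a, rfl⟩ W ⟨b, rfl⟩
    have h1 : cj a (Subgroup.zpowers x) ⊔ cj b (Subgroup.zpowers x) =
        cj a (Subgroup.zpowers x ⊔ cj (a⁻¹ * b) (Subgroup.zpowers x)) := by
      rw [cj_sup, cj_cj, mul_inv_cancel_left]
    show IsPGroup p ↥(cj a (Subgroup.zpowers x) ⊔ cj b (Subgroup.zpowers x))
    rw [h1, hz]
    exact isPGroup_cj (h (a⁻¹ * b))
  have hle := le_sylow_of_family F hcl hpair (cj 1 (Subgroup.zpowers x)) ⟨1, rfl⟩ Q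
  rw [cj_one] at hle
  exact hle (Subgroup.mem_zpowers x)

end BS

end Cfsg.Agent.Helper67
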