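import Mathlib
import Cfsg.Prelude.Def_OddOrderLocal
import Cfsg.Agent.Lib.Helper45.FittingHall
import Cfsg.Agent.Lib.Helper23.FittingHall

/-!
# Type II maximal subgroups from the standard factorisation (helper67)

Hypothesis-parametrised lemmas used for S1381: nothing here depends on the B-G chain rows;
every fact taken from them is an explicit hypothesis.
-/

set_option autoImplicit false
set_option linter.unusedSectionVars false
set_option linter.unusedVariables false

namespace Cfsg.Agent.Helper67.BGTypeII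

open Subgroup Cfsg

variable {G : Type*} [Group G]

/-- elements of `A ⊔ B` are products when `A` normalizes `B`. -/
theorem exists_mul_of_mem_sup {A B : Subgroup G} (h : A ≤ normalizer (B : Set G)) {g : G}
    (hg : g ∈ A ⊔ B) : ∃ a ∈ A, ∃ b ∈ B, g = a * b := by
  have h1 : g ∈ ((A ⊔ B : Subgroup G) : Set G) := hg
  rw [coe_mul_of_left_le_normalizer_right A B h] at h1
  obtain ⟨a, ha, b, hb, rfl⟩ := h1
  exact ⟨a, ha, b, hb, rfl⟩

theorem sigmaCore_le (M : Subgroup G) : sigmaCore M ≤ M := by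
  unfold sigmaCore
  exact map_subtype_le _

theorem le_normalizer_sigmaCore (M : Subgroup G) : M ≤ normalizer (sigmaCore M : Set G) := by
  intro m hm
  rw [mem_normalizer_iff]
  intro x
  have key : ∀ (m : G) (hm : m ∈ M) (x : G), x ∈ sigmaCore M → m * x * m⁻¹ ∈ sigmaCore M := by
    intro m hm x hx
    unfold sigmaCore at hx ⊢
    obtain ⟨y, hy, rfl⟩ := hx
    refine ⟨(⟨m, hm⟩ : M) * y * (⟨m, hm⟩ : M)⁻¹, ?_, rfl⟩
    exact (piCore_normal (sigma M) M).conj_mem y hy ⟨m, hm⟩
  constructor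
  · exact key m hm x
  · intro h
    have := key m⁻¹ (inv_mem hm) _ h
    simpa [mul_assoc] using this


theorem isNilpotent_of_comm {H : Subgroup G} (h : IsMulCommutative H) : Group.IsNilpotent H :=
  ⟨⟨1, Subgroup.upperCentralSeries_one_eq_top_iff.mpr h⟩⟩

section Fin

variable [Finite G]

theorem card_mul_relIndex_eq {H K : Subgroup G} (h : H ≤ K) :
    Nat.card H * H.relIndex K = Nat.card K := by
  have := Subgroup.relIndex_mul_relIndex (H := (⊥ : Subgroup G)) (K := H) (L := K) bot_le h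
  simpa [Subgroup.relIndex_bot_left] using this

theorem coprime_card_relIndex_of_hall {π : Set ℕ} {H M : Subgroup G} (h : IsPiHallOf π H M) :
    (Nat.card H).Coprime (H.relIndex M) := by
  apply Nat.coprime_of_dvd
  intro p hp h1 h2
  exact h.2.2 p hp (h.2.1 p hp h1) h2

theorem coprime_K_sigmaCore {M K : Subgroup G} (hK : IsPiHallOf (kappa M) K M)
    (hσ : IsPiHallOf (sigma M) (sigmaCore M) M) :
    (Nat.card K).Coprime (Nat.card (sigmaCore M)) := by
  apply Nat.coprime_of_dvd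
  intro p hp h1 h2
  exact (hK.2.1 p hp h1).2.2.1 (hσ.2.1 p hp h2)

theorem K_inf_sigmaCore {M K : Subgroup G} (hK : IsPiHallOf (kappa M) K M)
    (hσ : IsPiHallOf (sigma M) (sigmaCore M) M) : K ⊓ sigmaCore M = ⊥ :=
  (Subgroup.disjoint_of_coprime_natCard (coprime_K_sigmaCore hK hσ)).eq_bot

theorem U_inf_sigmaCore {M K U : Subgroup G} (hKU : IsSigmaDecomposition M K U) :
    U ⊓ sigmaCore M = ⊥ := by
  have h := hKU.compl.2.2.1
  exact le_bot_iff.mp (h ▸ inf_le_inf_left U le_sup_right)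

theorem U_inf_K {M K U : Subgroup G} (hKU : IsSigmaDecomposition M K U) :
    U ⊓ K = ⊥ := by
  have h := hKU.compl.2.2.1
  exact le_bot_iff.mp (h ▸ inf_le_inf_left U le_sup_left)

/-- `(U ⊔ M_σ) ⊓ K = ⊥`. -/
theorem sup_inf_K {M K U : Subgroup G} (hKU : IsSigmaDecomposition M K U)
    (hσ : IsPiHallOf (sigma M) (sigmaCore M) M) : (U ⊔ sigmaCore M) ⊓ K = ⊥ := by
  rw [eq_bot_iff]
  intro g hg
  obtain ⟨hg1, hg2⟩ := hg
  have hUn : U ≤ normalizer (sigmaCore M : Set G) := hKU.compl.1.trans (le_normalizer_sigmaCore M)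
  obtain ⟨u, hu, s, hs, rfl⟩ := exists_mul_of_mem_sup hUn hg1
  have hu2 : u ∈ K ⊔ sigmaCore M := by
    have : u = (u * s) * s⁻¹ := by group
    rw [this]
    exact mul_mem (mem_sup_left hg2) (mem_sup_right (inv_mem hs))
  have hu1 : u = 1 := by
    have : u ∈ U ⊓ (K ⊔ sigmaCore M) := ⟨hu, hu2⟩
    rw [hKU.compl.2.2.1] at this
    exact this
  subst hu1
  rw [one_mul] at hg2 ⊢
  have : s ∈ K ⊓ sigmaCore M := ⟨hg2, hs⟩
  rw [K_inf_sigmaCore hKU.hall hσ] at this
  exact this


/-- the self-normalizing cyclic pair `K, K*` from the TI property of `Ẑ`. -/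
theorem selfNormalizing_of_TI {K Ks : Subgroup G} (hK1 : K ≠ ⊥) (hKs1 : Ks ≠ ⊥)
    (hdisj : K ⊓ Ks = ⊥) (hcomm : ∀ a ∈ K, ∀ b ∈ Ks, a * b = b * a)
    (hZc : IsCyclic ↥(K ⊔ Ks))
    (hTI : IsTISubset ((↑(K ⊔ Ks) : Set G) \ ((K : Set G) ∪ ↑Ks)))
    (hN : normalizer ((↑(K ⊔ Ks) : Set G) \ ((K : Set G) ∪ ↑Ks)) = K ⊔ Ks) :
    IsSelfNormalizingCyclic K Ks := by
  refine ⟨hK1, hKs1, hdisj, hcomm, hZc, ?_⟩
  intro X hX hXne
  have hZcomm : ∀ a ∈ K ⊔ Ks, ∀ b ∈ K ⊔ Ks, a * b = b * a := by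
    intro a ha b hb
    obtain ⟨z, hz⟩ := hZc.exists_generator
    have ha' := hz ⟨a, ha⟩
    have hb' := hz ⟨b, hb⟩
    obtain ⟨i, hi⟩ := Subgroup.mem_zpowers_iff.mp ha'
    obtain ⟨j, hj⟩ := Subgroup.mem_zpowers_iff.mp hb'
    have h1 : (⟨a, ha⟩ : ↥(K ⊔ Ks)) * ⟨b, hb⟩ = ⟨b, hb⟩ * ⟨a, ha⟩ := by
      rw [← hi, ← hj, ← zpow_add, ← zpow_add, add_comm]
    exact congrArg Subtype.val h1
  apply le_antisymm
  · intro g hg
    obtain ⟨x, hx⟩ := hXne
    have hxZ := hX hx
    have hx1 : x ≠ 1 := by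
      rintro rfl
      exact hxZ.2 (Or.inl (one_mem K))
    have hgx : g * x * g⁻¹ ∈ X := (mem_set_normalizer_iff.mp hg x).mp hx
    by_contra hgn
    rw [← hN] at hgn
    exact hx1 (hTI g hgn x hxZ (hX hgx))
  · intro g hg
    rw [mem_set_normalizer_iff]
    intro n
    constructor
    · intro hn
      have hnZ : n ∈ K ⊔ Ks := (hX hn).1
      have : g * n * g⁻¹ = n := by
        rw [hZcomm g hg n hnZ]; group
      rw [this]; exact hn
    · intro hn
      have hnZ : g * n * g⁻¹ ∈ K ⊔ Ks := (hX hn).1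
      have hn' : n ∈ K ⊔ Ks := by
        have : n = g⁻¹ * (g * n * g⁻¹) * g := by group
        rw [this]
        exact mul_mem (mul_mem (inv_mem hg) hnZ) hg
      have : g * n * g⁻¹ = n := by
        rw [hZcomm g hg n hn']; group
      rw [this] at hn; exact hn


/-- **(A1)** the type-P data `(K, U, K*)` of a maximal subgroup with `K ≠ 1`, `M_F = M_σ`. -/
theorem isTypePWith_of_decomp {M K U Ks : Subgroup G}
    (hKU : IsSigmaDecomposition M K U) (hK1 : K ≠ ⊥)
    (hKs : Ks = sigmaCore M ⊓ centralizer (K : Set G))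
    (hσ : IsPiHallOf (sigma M) (sigmaCore M) M)
    (hFσ : fittingHallOf M = sigmaCore M)
    (hσD : sigmaCore M ≤ ⁅M, M⁆)
    (hD : ⁅M, M⁆ = U ⊔ sigmaCore M)
    (hUab : IsMulCommutative U)
    (hKs1 : Ks ≠ ⊥) (hHnc : ¬ IsCyclic (fittingHallOf M))
    (hKsD2 : Ks ≤ ⁅⁅M, M⁆, ⁅M, M⁆⁆)
    (hD2 : ⁅⁅M, M⁆, ⁅M, M⁆⁆ ≤ fittingOf M)
    (hFeq : fittingOf M = (M ⊓ centralizer (fittingHallOf M : Set G)) ⊔ fittingHallOf M)
    (hFD : fittingOf M ≤ ⁅M, M⁆)
    (hcent : ∀ k ∈ K, k ≠ 1 → M ⊓ centralizer ({k} : Set G) = K ⊔ Ks)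
    (hZc : IsCyclic ↥(K ⊔ Ks))
    (hTI : IsTISubset ((↑(K ⊔ Ks) : Set G) \ ((K : Set G) ∪ ↑Ks)))
    (hN : normalizer ((↑(K ⊔ Ks) : Set G) \ ((K : Set G) ∪ ↑Ks)) = K ⊔ Ks) :
    IsTypePWith M K U Ks := by
  have hKM : K ≤ M := hKU.hall.1
  have hUM : U ≤ M := hKU.compl.1
  have hSM : sigmaCore M ≤ M := sigmaCore_le M
  have hDM : ⁅M, M⁆ ≤ M := by rw [hD]; exact sup_le hUM hSM
  have hKsS : Ks ≤ sigmaCore M := by rw [hKs]; exact inf_le_left
  have hKsC : Ks ≤ centralizer (K : Set G) := by rw [hKs]; exact inf_le_right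
  have hDK : ⁅M, M⁆ ⊓ K = ⊥ := by rw [hD]; exact sup_inf_K hKU hσ
  have hUn : U ≤ normalizer (sigmaCore M : Set G) := hUM.trans (le_normalizer_sigmaCore M)
  have hKn : K ≤ normalizer (sigmaCore M : Set G) := hKM.trans (le_normalizer_sigmaCore M)
  have hcomm : ∀ a ∈ K, ∀ b ∈ Ks, a * b = b * a := by
    intro a ha b hb
    exact (mem_centralizer_iff.mp (hKsC hb) a ha)
  have hKKs : K ⊓ Ks = ⊥ := by
    have := K_inf_sigmaCore hKU.hall hσ
    exact le_bot_iff.mp (this ▸ inf_le_inf_left K hKsS)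
  refine
    { W₁_ne := hK1
      W₁_cyclic := hKU.cyclic
      W₁_hall := coprime_card_relIndex_of_hall hKU.hall
      W₁_compl := ?_
      U_nilpotent := isNilpotent_of_comm hUab
      U_normal := hKU.normal
      U_compl := ?_
      H_not_cyclic := hHnc
      derived_two_le := ?_
      fitting_eq := ?_
      fitting_le := hFD
      W₂_le := ?_
      W₂_centralizer := ?_
      selfNormalizing := selfNormalizing_of_TI hK1 hKs1 hKKs hcomm hZc hTI hN }
  · -- W₁_compl
    refine ⟨hDM, hKM, hDK, ?_⟩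
    intro m hm
    obtain ⟨a, ha, b, hb, rfl⟩ := hKU.compl.2.2.2 m hm
    obtain ⟨k, hk, s, hs, rfl⟩ := exists_mul_of_mem_sup hKn hb
    -- a * (k * s) = (a * (k s k⁻¹)) * k
    refine ⟨a * (k * s * k⁻¹), ?_, k, hk, by group⟩
    rw [hD]
    refine mul_mem (mem_sup_left ha) (mem_sup_right ?_)
    exact (mem_normalizer_iff.mp (hKn hk) s).mp hs
  · -- U_compl
    refine ⟨?_, ?_, ?_, ?_⟩
    · rw [hFσ]; exact hσD
    · rw [hD]; exact le_sup_left
    · rw [hFσ, inf_comm]; exact U_inf_sigmaCore hKU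
    · intro m hm
      rw [hD, sup_comm] at hm
      have hm' : m ∈ ((sigmaCore M ⊔ U : Subgroup G) : Set G) := hm
      rw [coe_mul_of_right_le_normalizer_left (sigmaCore M) U hUn] at hm'
      obtain ⟨a, ha, b, hb, rfl⟩ := hm'
      exact ⟨a, by rw [hFσ]; exact ha, b, hb, rfl⟩
  · -- derived_two_le
    rw [sup_comm, ← hFeq]; exact hD2
  · rw [sup_comm, ← hFeq]
  · -- W₂_le
    refine le_inf ?_ hKsD2
    rw [hFσ]; exact hKsS
  · -- W₂_centralizer
    intro x hx hx1
    have h1 := hcent x hx hx1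
    apply le_antisymm
    · intro g hg
      rw [Subgroup.mem_inf] at hg
      have hgM : g ∈ M ⊓ centralizer ({x} : Set G) := Subgroup.mem_inf.mpr ⟨hDM hg.1, hg.2⟩
      rw [h1] at hgM
      have hKnKs : K ≤ normalizer (Ks : Set G) := by
        intro k hk
        rw [mem_normalizer_iff]
        intro y
        constructor
        · intro hy
          have : k * y * k⁻¹ = y := by rw [hcomm k hk y hy]; group
          rw [this]; exact hy
        · intro hy
          have : y = k⁻¹ * (k * y * k⁻¹) * k := by group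
          have h2 : k⁻¹ * (k * y * k⁻¹) * k = k * y * k⁻¹ := by
            have := hcomm k⁻¹ (inv_mem hk) _ hy
            rw [this]; group
          rw [this, h2]; exact hy
      obtain ⟨k, hk, c, hc, rfl⟩ := exists_mul_of_mem_sup hKnKs hgM
      have hcD : c ∈ ⁅M, M⁆ := hσD (hKsS hc)
      have hk1 : k ∈ ⁅M, M⁆ ⊓ K := by
        refine Subgroup.mem_inf.mpr ⟨?_, hk⟩
        have : k = (k * c) * c⁻¹ := by group
        rw [this]
        exact mul_mem hg.1 (inv_mem hcD)
      rw [hDK] at hk1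
      have : k = 1 := hk1
      subst this
      rw [one_mul]; exact hc
    · intro g hg
      refine Subgroup.mem_inf.mpr ⟨hσD (hKsS hg), ?_⟩
      rw [mem_centralizer_singleton_iff]
      exact (hcomm x hx g hg).symm

end Fin


/-! ### A semidirect product `S ⋊ U` with `U₀ ≤ U` of full exponent acting freely on the nilpotent `S` -/

section FrobLike

variable {X : Type*} [Group X] [Finite X]

/-- a normal subgroup contains every element whose order is coprime to its index. -/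
theorem mem_of_coprime_index (N : Subgroup X) [N.Normal] {x : X}
    (h : (N.index).Coprime (orderOf x)) : x ∈ N := by
  obtain ⟨m, hm⟩ := exists_pow_eq_self_of_coprime h
  rw [← hm]
  exact pow_mem (N.pow_index_mem x) m

theorem fittingHall_eq_of_free {S U U₀ : Subgroup X} [hSn : S.Normal]
    (hSnil : Group.IsNilpotent S) (hcop : (Nat.card S).Coprime (Nat.card U))
    (hcompl : Subgroup.IsComplement' S U) (hS1 : S ≠ ⊥)
    (hU₀ : U₀ ≤ U) (hexp : Monoid.exponent U₀ = Monoid.exponent U)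
    (hfree : ∀ u ∈ U₀, u ≠ 1 → ∀ x ∈ S, u * x = x * u → x = 1) :
    Cfsg.fittingHall X = S := by
  classical
  have hSidx : S.index = Nat.card U := hcompl.symm.index_eq_card
  have hSmem : S ∈ Cfsg.Agent.Helper45.FH.NH X := ⟨hSn, hSnil, by rw [hSidx]; exact hcop⟩
  have hle : S ≤ Cfsg.fittingHall X := Cfsg.Agent.Helper45.FH.le_fittingHall hSmem
  obtain ⟨hNn, hNnil, hNcop⟩ := (Cfsg.Agent.Helper45.FH.fittingHall_mem : Cfsg.fittingHall X ∈ _)
  set N := Cfsg.fittingHall X with hNdef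
  -- N ⊓ U = ⊥
  have hV : ∀ v ∈ N, v ∈ U → v = 1 := by
    intro v hvN hvU
    by_contra hv1
    have hov : orderOf v ≠ 1 := by
      intro h; exact hv1 (orderOf_eq_one_iff.mp h)
    obtain ⟨q, hq, hqv⟩ := Nat.exists_prime_and_dvd hov
    haveI : Fact q.Prime := ⟨hq⟩
    have hqN : q ∣ Nat.card N := by
      have : orderOf (⟨v, hvN⟩ : N) = orderOf v := Subgroup.orderOf_mk v hvN
      exact dvd_trans hqv (this ▸ orderOf_dvd_natCard (⟨v, hvN⟩ : N))
    have hqU : q ∣ Monoid.exponent U := by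
      have : orderOf (⟨v, hvU⟩ : U) = orderOf v := Subgroup.orderOf_mk v hvU
      exact dvd_trans hqv (this ▸ Monoid.order_dvd_exponent (⟨v, hvU⟩ : U))
    have hqU' : q ∣ Nat.card U := dvd_trans hqU (Group.exponent_dvd_nat_card)
    have hqU0 : q ∣ Nat.card U₀ := by
      rw [← hexp] at hqU
      exact dvd_trans hqU (Group.exponent_dvd_nat_card)
    obtain ⟨u0, hu0⟩ := exists_prime_orderOf_dvd_card' q hqU0
    set u : X := (u0 : X) with hu
    have huo : orderOf u = q := by rw [hu, Subgroup.orderOf_coe]; exact hu0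
    have hu1 : u ≠ 1 := by
      intro h; rw [h, orderOf_one] at huo; exact hq.one_lt.ne huo
    have huN : u ∈ N := by
      apply mem_of_coprime_index N
      rw [huo]
      have : ¬ q ∣ N.index := by
        intro hd
        have := Nat.dvd_gcd hqN hd
        rw [hNcop.gcd_eq_one] at this
        exact hq.one_lt.ne' (Nat.dvd_one.mp this)
      exact ((Nat.Prime.coprime_iff_not_dvd hq).mpr this).symm
    have hqS : ¬ q ∣ Nat.card S := by
      intro hd
      have := Nat.dvd_gcd hd hqU'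
      rw [hcop.gcd_eq_one] at this
      exact hq.one_lt.ne' (Nat.dvd_one.mp this)
    -- work in ↥N
    have : Group.IsNilpotent ↥N := hNnil
    have hpg : IsPGroup q (Subgroup.zpowers (⟨u, huN⟩ : N)) := by
      apply IsPGroup.of_card (n := 1)
      rw [Nat.card_zpowers, pow_one, Subgroup.orderOf_mk]; exact huo
    obtain ⟨P, hP⟩ := hpg.exists_le_sylow
    have hPn : (P : Subgroup N).Normal := inferInstance
    have hSNn : (S.subgroupOf N).Normal :=
      (Subgroup.normal_subgroupOf_iff_le_normalizer hle).mpr (by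
        intro x _; exact (Subgroup.normalizer_eq_top_iff.mpr hSn) ▸ Subgroup.mem_top x)
    have hdisj : Disjoint (P : Subgroup N) (S.subgroupOf N) := by
      apply Subgroup.disjoint_of_coprime_natCard
      obtain ⟨k, hk⟩ := IsPGroup.iff_card.mp P.isPGroup'
      rw [hk, Nat.card_congr (Subgroup.subgroupOfEquivOfLe hle).toEquiv]
      exact Nat.Coprime.pow_left k ((Nat.Prime.coprime_iff_not_dvd hq).mpr hqS)
    obtain ⟨s, hs, hs1'⟩ := (S.bot_or_exists_ne_one).resolve_left hS1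
    have hcomm := Subgroup.commute_of_normal_of_disjoint _ _ hPn hSNn hdisj
      (⟨u, huN⟩ : N) (⟨s, hle hs⟩ : N) (hP (Subgroup.mem_zpowers _))
      (by rw [Subgroup.mem_subgroupOf]; exact hs)
    have hcomm' : u * s = s * u := congrArg Subtype.val hcomm.eq
    exact hs1' (hfree u (by rw [hu]; exact u0.2) hu1 s hs hcomm')
  apply le_antisymm
  · intro g hg
    have hgtop : g ∈ S ⊔ U := by rw [hcompl.sup_eq_top]; exact Subgroup.mem_top g
    have hg' : g ∈ ((S ⊔ U : Subgroup X) : Set X) := hgtop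
    rw [Subgroup.normal_mul] at hg'
    obtain ⟨a, ha, b, hb, rfl⟩ := hg'
    have hbN : b ∈ N := by
      have : b = a⁻¹ * (a * b) := by group
      rw [this]
      exact mul_mem (inv_mem (hle ha)) hg
    have := hV b hbN hb
    subst this
    simpa using ha
  · exact hle


theorem isOfTypeF_of_free {S U U₀ : Subgroup X} [hSn : S.Normal]
    (hSnil : Group.IsNilpotent S) (hcop : (Nat.card S).Coprime (Nat.card U))
    (hcompl : Subgroup.IsComplement' S U) (hS1 : S ≠ ⊥)
    (hU₀ : U₀ ≤ U) (hexp : Monoid.exponent U₀ = Monoid.exponent U)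
    (hfree : ∀ u ∈ U₀, u ≠ 1 → ∀ x ∈ S, u * x = x * u → x = 1)
    (hsolv : Group.IsSolvable X) (hodd : Odd (Nat.card X)) (hU1 : U ≠ ⊥)
    (hUab : IsMulCommutative U) : Cfsg.IsOfTypeF X := by
  have hF : Cfsg.fittingHall X = S :=
    fittingHall_eq_of_free hSnil hcop hcompl hS1 hU₀ hexp hfree
  refine ⟨hsolv, hodd, ?_, ?_, U, hU1, ?_, ?_, ?_⟩
  · rw [hF]; exact hS1
  · rw [hF]
    intro htop
    apply hU1
    have h1 := hcompl.card_mul_card
    rw [htop, Subgroup.card_top] at h1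
    have hpos : 0 < Nat.card X := Nat.card_pos
    have : Nat.card U = 1 := by
      have h2 : Nat.card X * Nat.card U = Nat.card X * 1 := by rw [h1, mul_one]
      exact Nat.eq_of_mul_eq_mul_left hpos h2
    exact Subgroup.card_eq_one.mp this
  · rw [hF]; exact hcompl
  · exact ⟨U, le_rfl, Subgroup.le_normalizer, hUab, fun x _ _ => inf_le_left⟩
  · refine ⟨U₀, hU₀, hexp, ?_⟩
    intro u hu hu1 x hx hc
    rw [hF] at hx
    exact hfree u hu hu1 x hx hc

end FrobLike


/-- **(A2/A3)** `D = S ⋊ U` inside `G`, `S` nilpotent, `U₀ ≤ U` of full exponent acting freely: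
`D_F = S` and `D` is of Frobenius type. -/
theorem frobLike_sub [Finite G] {D S U U₀ : Subgroup G}
    (hD : D = U ⊔ S) (hDn : D ≤ normalizer (S : Set G)) (hdisj : U ⊓ S = ⊥)
    (hcop : (Nat.card S).Coprime (Nat.card U)) (hSnil : Group.IsNilpotent S) (hS1 : S ≠ ⊥)
    (hU₀ : U₀ ≤ U) (hexp : Monoid.exponent U₀ = Monoid.exponent U)
    (hfree : ∀ u ∈ U₀, u ≠ 1 → ∀ x ∈ S, u * x = x * u → x = 1) :
    fittingHallOf D = S ∧
      (Group.IsSolvable D → Odd (Nat.card D) → U ≠ ⊥ → IsMulCommutative U → IsOfTypeF ↥D) := by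
  have hSD : S ≤ D := by rw [hD]; exact le_sup_right
  have hUD : U ≤ D := by rw [hD]; exact le_sup_left
  have hUn : U ≤ normalizer (S : Set G) := hUD.trans hDn
  have hcompl : IsComplIn S U D := by
    refine ⟨hSD, hUD, by rw [inf_comm]; exact hdisj, ?_⟩
    intro m hm
    rw [hD, sup_comm] at hm
    have hm' : m ∈ ((S ⊔ U : Subgroup G) : Set G) := hm
    rw [coe_mul_of_right_le_normalizer_left S U hUn] at hm'
    obtain ⟨a, ha, b, hb, rfl⟩ := hm'
    exact ⟨a, ha, b, hb, rfl⟩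
  have hcard : Nat.card D = Nat.card S * Nat.card U := Cfsg.Agent.Helper23.card_of_isComplIn hcompl
  have hSn' : (S.subgroupOf D).Normal := (Subgroup.normal_subgroupOf_iff_le_normalizer hSD).mpr hDn
  have hcS : Nat.card (S.subgroupOf D) = Nat.card S :=
    Nat.card_congr (Subgroup.subgroupOfEquivOfLe hSD).toEquiv
  have hcU : Nat.card (U.subgroupOf D) = Nat.card U :=
    Nat.card_congr (Subgroup.subgroupOfEquivOfLe hUD).toEquiv
  have hSnil' : Group.IsNilpotent (S.subgroupOf D) :=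
    @Group.nilpotent_of_mulEquiv _ _ _ _ hSnil (Subgroup.subgroupOfEquivOfLe hSD).symm
  have hcop' : (Nat.card (S.subgroupOf D)).Coprime (Nat.card (U.subgroupOf D)) := by
    rw [hcS, hcU]; exact hcop
  have hdisj' : Disjoint (S.subgroupOf D) (U.subgroupOf D) := by
    rw [Subgroup.disjoint_def]
    intro x hx1 hx2
    have : (x : G) ∈ U ⊓ S := ⟨hx2, hx1⟩
    rw [hdisj] at this
    exact Subtype.ext this
  have hcompl' : Subgroup.IsComplement' (S.subgroupOf D) (U.subgroupOf D) := by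
    apply Subgroup.isComplement'_of_card_mul_and_disjoint _ hdisj'
    rw [hcS, hcU, hcard]
  have hS1' : S.subgroupOf D ≠ ⊥ := by
    intro h
    apply hS1
    rw [eq_bot_iff]
    intro x hx
    have : (⟨x, hSD hx⟩ : D) ∈ S.subgroupOf D := hx
    rw [h] at this
    exact congrArg Subtype.val (Subgroup.mem_bot.mp this)
  have hU₀' : U₀.subgroupOf D ≤ U.subgroupOf D := fun x hx => hU₀ hx
  have hexp' : Monoid.exponent (U₀.subgroupOf D) = Monoid.exponent (U.subgroupOf D) := by
    rw [Monoid.exponent_eq_of_mulEquiv (Subgroup.subgroupOfEquivOfLe (hU₀.trans hUD)),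
      Monoid.exponent_eq_of_mulEquiv (Subgroup.subgroupOfEquivOfLe hUD)]
    exact hexp
  have hfree' : ∀ u ∈ U₀.subgroupOf D, u ≠ 1 → ∀ x ∈ S.subgroupOf D, u * x = x * u → x = 1 := by
    intro u hu hu1 x hx hc
    have h1 : (u : G) ≠ 1 := fun h => hu1 (Subtype.ext h)
    have := hfree (u : G) hu h1 (x : G) hx (congrArg Subtype.val hc)
    exact Subtype.ext this
  constructor
  · unfold fittingHallOf
    rw [fittingHall_eq_of_free (hSn := hSn') hSnil' hcop' hcompl' hS1' hU₀' hexp' hfree',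
      Subgroup.subgroupOf_map_subtype]
    exact inf_eq_left.mpr hSD
  · intro hsolv hodd hU1 hUab
    have hU1' : U.subgroupOf D ≠ ⊥ := by
      intro h
      apply hU1
      rw [eq_bot_iff]
      intro x hx
      have : (⟨x, hUD hx⟩ : D) ∈ U.subgroupOf D := hx
      rw [h] at this
      exact congrArg Subtype.val (Subgroup.mem_bot.mp this)
    have hUab' : IsMulCommutative (U.subgroupOf D) := by
      rw [isMulCommutative_iff]
      intro a b
      have := (isMulCommutative_iff.mp hUab) ⟨a.1.1, a.2⟩ ⟨b.1.1, b.2⟩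
      have h2 : (a.1.1 : G) * b.1.1 = b.1.1 * a.1.1 := congrArg Subtype.val this
      exact Subtype.ext (Subtype.ext h2)
    exact isOfTypeF_of_free (hSn := hSn') hSnil' hcop' hcompl' hS1' hU₀' hexp' hfree'
      hsolv hodd hU1' hUab'

end Cfsg.Agent.Helper67.BGTypeII
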