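import Mathlib
import Cfsg.Agent.Lib.Helper2.PGroup

set_option autoImplicit false

namespace Cfsg.Agent.Helper67

open scoped commutatorElement

/-- two elements not commuting, from non-commutativity -/
theorem exists_not_commute {P : Type*} [Group P] (hna : ¬ IsMulCommutative P) :
    ∃ x y : P, x * y ≠ y * x := by
  by_contra hcon
  push Not at hcon
  exact hna ⟨⟨hcon⟩⟩

/-- commutator with a power when the commutator is central -/
theorem commutatorElement_pow_left {P : Type*} [Group P] (x y : P)
    (hc : ⁅x, y⁆ ∈ Subgroup.center P) (k : ℕ) : ⁅x ^ k, y⁆ = ⁅x, y⁆ ^ k := by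
  induction k with
  | zero => simp [commutatorElement_def]
  | succ k ih =>
    have h1 : ⁅x ^ (k + 1), y⁆ = x ^ k * ⁅x, y⁆ * (x ^ k)⁻¹ * ⁅x ^ k, y⁆ := by
      simp only [commutatorElement_def, pow_succ]
      group
    rw [h1, ih]
    have h2 : x ^ k * ⁅x, y⁆ = ⁅x, y⁆ * x ^ k := (Subgroup.mem_center_iff.1 hc (x ^ k))
    rw [h2, mul_inv_cancel_right, pow_succ']

/-- A minimal non-abelian finite `p`-group has derived subgroup inside a central subgroup of
order `p`. -/
theorem exists_commutator_le_zpowers {P : Type*} [Group P] [Finite P] {p : ℕ} [Fact p.Prime]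
    (hP : IsPGroup p P) (hna : ¬ IsMulCommutative P)
    (hmin : ∀ H : Subgroup P, H ≠ ⊤ → IsMulCommutative H) :
    ∃ c : P, orderOf c = p ∧ c ∈ Subgroup.center P ∧ commutator P ≤ Subgroup.zpowers c := by
  obtain ⟨x, y, hxy⟩ := exists_not_commute hna
  -- closure {x, y} = ⊤
  have hgen : Subgroup.closure ({x, y} : Set P) = ⊤ := by
    by_contra hne
    have hc := hmin _ hne
    have hx : x ∈ Subgroup.closure ({x, y} : Set P) := Subgroup.subset_closure (by simp)
    have hy : y ∈ Subgroup.closure ({x, y} : Set P) := Subgroup.subset_closure (by simp)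
    exact hxy (congrArg Subtype.val (hc.is_comm.comm ⟨x, hx⟩ ⟨y, hy⟩))
  -- for g ∈ {x, y}: zpowers g ⊔ frattini is proper, hence commutative
  have hprop : ∀ g : P, (∃ h : P, g * h ≠ h * g) →
      ∀ a ∈ frattini P, a * g = g * a := by
    intro g ⟨h, hgh⟩ a ha
    have hne : Subgroup.zpowers g ⊔ frattini P ≠ ⊤ := by
      intro htop
      have h1 : Subgroup.zpowers g = ⊤ := frattini_nongenerating htop
      have hh : h ∈ Subgroup.zpowers g := h1 ▸ Subgroup.mem_top h
      obtain ⟨k, rfl⟩ := Subgroup.mem_zpowers_iff.1 hh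
      exact hgh (by rw [← zpow_one_add, ← zpow_add_one, add_comm])
    have hc := hmin _ hne
    have hg : g ∈ Subgroup.zpowers g ⊔ frattini P :=
      (le_sup_left : Subgroup.zpowers g ≤ _) (Subgroup.mem_zpowers g)
    have ha' : a ∈ Subgroup.zpowers g ⊔ frattini P := (le_sup_right : frattini P ≤ _) ha
    exact congrArg Subtype.val (hc.is_comm.comm ⟨a, ha'⟩ ⟨g, hg⟩)
  have hx' := hprop x ⟨y, hxy⟩
  have hy' := hprop y ⟨x, fun h => hxy h.symm⟩
  -- elements of the Frattini subgroup are central
  have hcent : ∀ a ∈ frattini P, a ∈ Subgroup.center P := by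
    intro a ha
    have h1 : Subgroup.closure ({x, y} : Set P) ≤ Subgroup.centralizer ({a} : Set P) := by
      rw [Subgroup.closure_le]
      rintro g (rfl | rfl)
      · rw [SetLike.mem_coe, Subgroup.mem_centralizer_iff]
        intro b hb
        rw [Set.mem_singleton_iff.1 hb]
        exact hx' a ha
      · rw [SetLike.mem_coe, Subgroup.mem_centralizer_iff]
        intro b hb
        rw [Set.mem_singleton_iff.1 hb]
        exact hy' a ha
    rw [hgen] at h1
    rw [Subgroup.mem_center_iff]
    intro g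
    have := Subgroup.mem_centralizer_iff.1 (h1 (Subgroup.mem_top g)) a rfl
    exact this.symm
  set c := ⁅x, y⁆ with hc
  have hcΦ : c ∈ frattini P := Cfsg.Agent.Helper2.commutatorElement_mem_frattini hP x y
  have hcZ : c ∈ Subgroup.center P := hcent c hcΦ
  have hxpZ : x ^ p ∈ Subgroup.center P := hcent _ (Cfsg.Agent.Helper2.pow_mem_frattini hP x)
  have hc1 : c ≠ 1 := by
    intro h
    rw [hc, commutatorElement_eq_one_iff_mul_comm] at h
    exact hxy h
  have hcp : c ^ p = 1 := by
    rw [hc, ← commutatorElement_pow_left x y hcZ p, commutatorElement_eq_one_iff_mul_comm]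
    exact (Subgroup.mem_center_iff.1 hxpZ y).symm
  refine ⟨c, orderOf_eq_prime hcp hc1, hcZ, ?_⟩
  -- the quotient by zpowers c is commutative
  have hn : (Subgroup.zpowers c).Normal := by
    constructor
    intro n hn g
    obtain ⟨k, rfl⟩ := Subgroup.mem_zpowers_iff.1 hn
    have : g * c ^ k * g⁻¹ = c ^ k := by
      have h1 : c ^ k ∈ Subgroup.center P := Subgroup.zpow_mem _ hcZ k
      rw [Subgroup.mem_center_iff.1 h1 g, mul_inv_cancel_right]
    rw [this]
    exact Subgroup.zpow_mem_zpowers c k
  rw [← Subgroup.Normal.quotient_commutative_iff_commutator_le]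
  -- closure of images
  have himg : Subgroup.closure ({(QuotientGroup.mk x : P ⧸ Subgroup.zpowers c),
      (QuotientGroup.mk y : P ⧸ Subgroup.zpowers c)} : Set (P ⧸ Subgroup.zpowers c)) = ⊤ := by
    have := congrArg (Subgroup.map (QuotientGroup.mk' (Subgroup.zpowers c))) hgen
    rw [MonoidHom.map_closure, Subgroup.map_top_of_surjective _ (QuotientGroup.mk'_surjective _)]
      at this
    rw [← this]
    congr 1
    simp [Set.image_pair]
  have hcomm : ∀ a ∈ ({(QuotientGroup.mk x : P ⧸ Subgroup.zpowers c),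
      (QuotientGroup.mk y : P ⧸ Subgroup.zpowers c)} : Set (P ⧸ Subgroup.zpowers c)),
      ∀ b ∈ ({(QuotientGroup.mk x : P ⧸ Subgroup.zpowers c),
      (QuotientGroup.mk y : P ⧸ Subgroup.zpowers c)} : Set (P ⧸ Subgroup.zpowers c)),
      a * b = b * a := by
    have hxy' : (QuotientGroup.mk x : P ⧸ Subgroup.zpowers c) * QuotientGroup.mk y =
        QuotientGroup.mk y * QuotientGroup.mk x := by
      rw [← QuotientGroup.mk_mul, ← QuotientGroup.mk_mul, eq_comm, QuotientGroup.eq]
      have h1 : x * y = c * (y * x) := by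
        rw [hc, commutatorElement_def]; group
      have h2 : (y * x)⁻¹ * (x * y) = c := by
        rw [h1, ← Subgroup.mem_center_iff.1 hcZ (y * x), inv_mul_cancel_left]
      rw [h2]
      exact Subgroup.mem_zpowers c
    rintro a (rfl | rfl) b (rfl | rfl)
    · rfl
    · exact hxy'
    · exact hxy'.symm
    · rfl
  have hc' := Subgroup.isMulCommutative_closure hcomm
  rw [himg] at hc'
  exact ⟨⟨fun a b => congrArg Subtype.val
    (hc'.is_comm.comm ⟨a, Subgroup.mem_top a⟩ ⟨b, Subgroup.mem_top b⟩)⟩⟩

end Cfsg.Agent.Helper67
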