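import Mathlib
import Cfsg.Agent.Lib.Helper93.RU0
import Cfsg.Agent.Lib.Helper82.RUA
import Cfsg.Agent.Lib.Helper34.RUB3
import Cfsg.Agent.Lib.Helper87.RUPow
import Cfsg.Agent.Lib.Helper12.RW0

/-!
# RW server (helper12, S2279): piece (ID) `ident`, by helper67.
All factors are `1 + Θ(a)`, `Θ(a) = P a Q` with `P = (P_0 P_1 P_2)`, `Q = (Q_0; Q_1; Q_2)`,
`(1 + Θ a)(1 + Θ b) = 1 + Θ(a + b + a M b)`, `M = Q P = !![0,0,0; ε,0,0; μ,ε,0]`.
-/

set_option autoImplicit false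
set_option linter.unusedSimpArgs false
set_option linter.unnecessarySeqFocus false
set_option linter.unusedTactic false
set_option linter.unreachableTactic false

namespace Cfsg.Agent.Helper67.RW

open Matrix Cfsg.Agent.Helper93.RU Cfsg.Agent.Helper12.RW

variable {F : Type*} [Field F] {m : ℕ}

/-! ### values of the Gram function -/

theorem h67_mm_nat (d : ℕ) : mm m F (d : ℤ) = ((Nat.choose d (m + 2) : ℕ) : F) := by
  unfold mm
  rw [zpow_natCast, Cfsg.Agent.Helper87.RUPow.uEl_pow_apply]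
  simp [lastI]

theorem h67_mm_zero : mm m F 0 = 0 := by
  have h := h67_mm_nat (m := m) (F := F) 0
  rw [Nat.choose_eq_zero_of_lt (by omega)] at h
  simpa using h

theorem h67_mm_one : mm m F 1 = 0 := by
  have h := h67_mm_nat (m := m) (F := F) 1
  rw [Nat.choose_eq_zero_of_lt (by omega)] at h
  simpa using h

theorem h67_mm_two (hm : 1 ≤ m) : mm m F 2 = 0 := by
  have h := h67_mm_nat (m := m) (F := F) 2
  rw [Nat.choose_eq_zero_of_lt (by omega)] at h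
  simpa using h

theorem h67_mm_neg_one : mm m F (-1) = (-1) ^ m := by
  unfold mm
  have h0 : (uEl m F) ^ (-1 : ℤ) = ((uEl m F)⁻¹) ^ 1 := by
    rw [_root_.zpow_neg_one, pow_one]
  rw [h0, Cfsg.Agent.Helper87.RUPow.uEl_inv_pow_apply]
  simp [lastI, pow_add]

/-- (G1, local copy) the Gram matrix -/
theorem h67_gram (i j : ℤ) : Qv m F i ⬝ᵥ Pv m F j = mm m F (j - i) := by
  unfold Qv Pv mm
  rw [← Matrix.dotProduct_mulVec, Matrix.mulVec_mulVec, ← Matrix.SpecialLinearGroup.coe_mul,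
    ← _root_.zpow_add]
  have e : -i + j = j - i := by ring
  rw [e]
  simp [eV, dotProduct, Matrix.mulVec, Pi.single_apply]


/-! ### the `3 × 3` calculus -/

/-- the matrix `(P_0 P_1 P_2)` -/
noncomputable def h67_Pm (m : ℕ) (F : Type*) [Field F] : Matrix (Fin (m + 3)) (Fin 3) F :=
  Matrix.of fun x k => Pv m F (k.val : ℤ) x

/-- the matrix `(Q_0; Q_1; Q_2)` -/
noncomputable def h67_Qm (m : ℕ) (F : Type*) [Field F] : Matrix (Fin 3) (Fin (m + 3)) F :=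
  Matrix.of fun j y => Qv m F (j.val : ℤ) y

/-- `Θ a = P a Q` -/
noncomputable def h67_Th (a : Matrix (Fin 3) (Fin 3) F) :
    Matrix (Fin (m + 3)) (Fin (m + 3)) F :=
  h67_Pm m F * a * h67_Qm m F

/-- the Gram matrix `Q P` -/
def h67_M3 (ε μ : F) : Matrix (Fin 3) (Fin 3) F := !![0, 0, 0; ε, 0, 0; μ, ε, 0]

theorem h67_QP (hm : 1 ≤ m) :
    h67_Qm m F * h67_Pm m F = h67_M3 (mm m F (-1)) (mm m F (-2)) := by
  ext j k
  rw [Matrix.mul_apply]
  have h : ∑ x, h67_Qm m F j x * h67_Pm m F x k =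
      Qv m F (j.val : ℤ) ⬝ᵥ Pv m F (k.val : ℤ) := rfl
  rw [h, h67_gram]
  fin_cases j <;> fin_cases k <;>
    simp [h67_M3, h67_mm_zero, h67_mm_one, h67_mm_two hm]

theorem h67_Th_mul (hm : 1 ≤ m) (a b : Matrix (Fin 3) (Fin 3) F) :
    (1 + h67_Th (m := m) a) * (1 + h67_Th b) =
      1 + h67_Th (a + b + a * h67_M3 (mm m F (-1)) (mm m F (-2)) * b) := by
  unfold h67_Th
  rw [← h67_QP hm]
  simp only [Matrix.mul_add, Matrix.add_mul, Matrix.mul_one, Matrix.one_mul, Matrix.mul_assoc]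
  abel

/-- the value of `Tk k j a` for `k, j ∈ {0, 1, 2}` -/
theorem h67_Tk_val (k j : ℤ) (kk jj : Fin 3) (hk : k = (kk.val : ℤ)) (hj : j = (jj.val : ℤ))
    (a : F) (h : mm m F (k - j) = 0) :
    (Tk (m := m) k j a).1 = 1 + h67_Th (Matrix.single kk jj a) := by
  subst hk hj
  unfold Tk
  rw [Cfsg.Agent.Helper82.RU.tvS_val _ _ (by rw [smul_dotProduct, h67_gram, h, smul_zero])]
  unfold tvM h67_Th
  congr 1
  ext x y
  simp only [Matrix.mul_apply, Matrix.vecMulVec_apply, Matrix.single_apply, h67_Pm, h67_Qm,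
    Matrix.of_apply, Pi.smul_apply, smul_eq_mul, Fin.sum_univ_three]
  fin_cases kk <;> fin_cases jj <;> simp <;> ring

theorem h67_Tk_inv (k j : ℤ) (a : F) (h : mm m F (k - j) = 0) :
    (Tk (m := m) k j a)⁻¹ = Tk k j (-a) := by
  unfold Tk
  rw [Cfsg.Agent.Helper82.RU.tvS_inv _ _ (by rw [smul_dotProduct, h67_gram, h, smul_zero]),
    neg_smul]


/-! ### the explicit `3 × 3` matrices -/

section Three

variable (c ε μ : F)

/-- the matrix `s0` -/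
def h67_s0 : Matrix (Fin 3) (Fin 3) F := !![c, 0, 0; 0, -c, 0; 0, 0, 0]

/-- the matrix `s0i` -/
def h67_s0i : Matrix (Fin 3) (Fin 3) F := !![-c, 0, 0; -c^2 * ε, c, 0; 0, 0, 0]

/-- the matrix `s1` -/
def h67_s1 : Matrix (Fin 3) (Fin 3) F := !![0, 0, 0; 0, c, 0; 0, 0, -c]

/-- the matrix `s1i` -/
def h67_s1i : Matrix (Fin 3) (Fin 3) F := !![0, 0, 0; 0, -c, 0; 0, -c^2 * ε, c]

/-- the matrix `w1` -/
def h67_w1 : Matrix (Fin 3) (Fin 3) F := !![c, 0, 0; c^2 * ε, 0, 0; -c^2 * μ, c^2 * ε, -c]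

/-- the matrix `w2` -/
def h67_w2 : Matrix (Fin 3) (Fin 3) F := !![c, 0, 0; c^2 * ε, -c, 0; -c^2 * μ, c^2 * ε, 0]

/-- the matrix `w3` -/
def h67_w3 : Matrix (Fin 3) (Fin 3) F := !![2 * c, 0, 0; 0, -2 * c, 0; -c^2 * μ + c^3 * ε^2, c^2 * ε, 0]

/-- the matrix `w4` -/
def h67_w4 : Matrix (Fin 3) (Fin 3) F := !![2 * c, 0, 0; 0, -c, 0; -c^2 * μ + c^3 * ε^2, c^2 * ε, -c]

/-- the matrix `w5` -/
def h67_w5 : Matrix (Fin 3) (Fin 3) F := !![c, 0, 0; 0, 0, 0; c^3 * ε^2, 0, -c]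

/-- the matrix `w6` -/
def h67_w6 : Matrix (Fin 3) (Fin 3) F := !![c, 0, 0; 0, -c, 0; c^3 * ε^2, 0, 0]

/-- the matrix `w7` -/
def h67_w7 : Matrix (Fin 3) (Fin 3) F := !![0, 0, 0; 0, 0, 0; c^3 * ε^2, 0, 0]

theorem h67_s0_eq : (Matrix.single 0 0 c + Matrix.single 1 1 (-c) +
    Matrix.single 0 0 c * h67_M3 ε μ * Matrix.single 1 1 (-c) : Matrix (Fin 3) (Fin 3) F) = h67_s0 c := by
  ext i j
  fin_cases i <;> fin_cases j <;>
    simp [h67_M3, h67_s0, Matrix.mul_apply, Fin.sum_univ_three, Matrix.single_apply]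

theorem h67_s0i_eq : (Matrix.single 1 1 c + Matrix.single 0 0 (-c) +
    Matrix.single 1 1 c * h67_M3 ε μ * Matrix.single 0 0 (-c) : Matrix (Fin 3) (Fin 3) F) = h67_s0i c ε := by
  ext i j
  fin_cases i <;> fin_cases j <;>
    simp [h67_M3, h67_s0i, Matrix.mul_apply, Fin.sum_univ_three, Matrix.single_apply] <;> ring

theorem h67_s1_eq : (Matrix.single 1 1 c + Matrix.single 2 2 (-c) +
    Matrix.single 1 1 c * h67_M3 ε μ * Matrix.single 2 2 (-c) : Matrix (Fin 3) (Fin 3) F) = h67_s1 c := by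
  ext i j
  fin_cases i <;> fin_cases j <;>
    simp [h67_M3, h67_s1, Matrix.mul_apply, Fin.sum_univ_three, Matrix.single_apply]

theorem h67_s1i_eq : (Matrix.single 2 2 c + Matrix.single 1 1 (-c) +
    Matrix.single 2 2 c * h67_M3 ε μ * Matrix.single 1 1 (-c) : Matrix (Fin 3) (Fin 3) F) = h67_s1i c ε := by
  ext i j
  fin_cases i <;> fin_cases j <;>
    simp [h67_M3, h67_s1i, Matrix.mul_apply, Fin.sum_univ_three, Matrix.single_apply] <;> ring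

theorem h67_step1 : h67_s1 c + h67_s0 c + h67_s1 c * h67_M3 ε μ * h67_s0 c = h67_w1 c ε μ := by
  ext i j
  fin_cases i <;> fin_cases j <;>
    simp [h67_M3, h67_s1, h67_s0, h67_w1, Matrix.mul_apply, Fin.sum_univ_three] <;> ring

theorem h67_step2 : h67_w1 c ε μ + h67_s1i c ε + h67_w1 c ε μ * h67_M3 ε μ * h67_s1i c ε = h67_w2 c ε μ := by
  ext i j
  fin_cases i <;> fin_cases j <;>
    simp [h67_M3, h67_w1, h67_s1i, h67_w2, Matrix.mul_apply, Fin.sum_univ_three] <;> ring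

theorem h67_step3 : h67_w2 c ε μ + h67_s0 c + h67_w2 c ε μ * h67_M3 ε μ * h67_s0 c = h67_w3 c ε μ := by
  ext i j
  fin_cases i <;> fin_cases j <;>
    simp [h67_M3, h67_w2, h67_s0, h67_w3, Matrix.mul_apply, Fin.sum_univ_three] <;> ring

theorem h67_step4 : h67_w3 c ε μ + h67_s1 c + h67_w3 c ε μ * h67_M3 ε μ * h67_s1 c = h67_w4 c ε μ := by
  ext i j
  fin_cases i <;> fin_cases j <;>
    simp [h67_M3, h67_w3, h67_s1, h67_w4, Matrix.mul_apply, Fin.sum_univ_three] <;> ring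

theorem h67_step5 : h67_w4 c ε μ + h67_s0i c ε + h67_w4 c ε μ * h67_M3 ε μ * h67_s0i c ε = h67_w5 c ε := by
  ext i j
  fin_cases i <;> fin_cases j <;>
    simp [h67_M3, h67_w4, h67_s0i, h67_w5, Matrix.mul_apply, Fin.sum_univ_three] <;> ring

theorem h67_step6 : h67_w5 c ε + h67_s1i c ε + h67_w5 c ε * h67_M3 ε μ * h67_s1i c ε = h67_w6 c ε := by
  ext i j
  fin_cases i <;> fin_cases j <;>
    simp [h67_M3, h67_w5, h67_s1i, h67_w6, Matrix.mul_apply, Fin.sum_univ_three] <;> ring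

theorem h67_step7 : h67_w6 c ε + h67_s0i c ε + h67_w6 c ε * h67_M3 ε μ * h67_s0i c ε = h67_w7 c ε := by
  ext i j
  fin_cases i <;> fin_cases j <;>
    simp [h67_M3, h67_w6, h67_s0i, h67_w7, Matrix.mul_apply, Fin.sum_univ_three] <;> ring

end Three


/-! ### the identity -/

/-- (ID) the transvection in `H` (LONG POLE).  All factors are `1 + Θ(a)`, `Θ(a) = Σ a_ij P_i Q_jᵀ`,
`i, j ∈ {0,1,2}`, `(1 + Θ a)(1 + Θ b) = 1 + Θ (a + b + a M b)`, `M_jk = mm (k - j)`,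
`M = !![0,0,0; ε,0,0; μ,ε,0]`, `ε = (-1)^m`, `μ = mm (-2)`; `σ_0 = 1 + Θ(c(E00 - E11))`,
`σ_0⁻¹ = 1 + Θ(-c(E00 - E11) - c² ε E10)`, same for `σ_1` shifted; the result is `1 + Θ(c³ ε² E20)`. -/
theorem ident (hm : 1 ≤ m) (c : F) :
    (sig (m := m) c 1 * sig c 0 * (sig c 1)⁻¹ * (sig c 0)⁻¹) * sig c 0
        * (sig c 1 * sig c 0 * (sig c 1)⁻¹ * (sig c 0)⁻¹)⁻¹ * (sig c 0)⁻¹ = Tk 2 0 (c ^ 3) := by
  have hεε : (mm m F (-1)) ^ 2 = 1 := by
    rw [h67_mm_neg_one, ← pow_mul, mul_comm, pow_mul]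
    simp
  have z00 : mm m F ((0 : ℤ) - 0) = 0 := by simpa using h67_mm_zero (m := m) (F := F)
  have z11 : mm m F ((1 : ℤ) - 1) = 0 := by simpa using h67_mm_zero (m := m) (F := F)
  have z22 : mm m F ((2 : ℤ) - 2) = 0 := by simpa using h67_mm_zero (m := m) (F := F)
  have z20 : mm m F ((2 : ℤ) - 0) = 0 := by simpa using h67_mm_two (m := m) (F := F) hm
  have v00 : ∀ a : F, (Tk (m := m) 0 0 a).1 = 1 + h67_Th (Matrix.single 0 0 a) :=
    fun a => h67_Tk_val 0 0 0 0 (by simp) (by simp) a z00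
  have v11 : ∀ a : F, (Tk (m := m) 1 1 a).1 = 1 + h67_Th (Matrix.single 1 1 a) :=
    fun a => h67_Tk_val 1 1 1 1 (by simp) (by simp) a z11
  have v22 : ∀ a : F, (Tk (m := m) 2 2 a).1 = 1 + h67_Th (Matrix.single 2 2 a) :=
    fun a => h67_Tk_val 2 2 2 2 (by simp) (by simp) a z22
  have v20 : ∀ a : F, (Tk (m := m) 2 0 a).1 = 1 + h67_Th (Matrix.single 2 0 a) :=
    fun a => h67_Tk_val 2 0 2 0 (by simp) (by simp) a z20
  have e01 : (0 : ℤ) + 1 = 1 := by norm_num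
  have e12 : (1 : ℤ) + 1 = 2 := by norm_num
  have hs0 : sig (m := m) c 0 = Tk 0 0 c * Tk 1 1 (-c) := by
    unfold sig
    rw [e01, h67_Tk_inv 1 1 c z11]
  have hs0i : (sig (m := m) c 0)⁻¹ = Tk 1 1 c * Tk 0 0 (-c) := by
    rw [hs0, _root_.mul_inv_rev, h67_Tk_inv 1 1 (-c) z11, h67_Tk_inv 0 0 c z00, neg_neg]
  have hs1 : sig (m := m) c 1 = Tk 1 1 c * Tk 2 2 (-c) := by
    unfold sig
    rw [e12, h67_Tk_inv 2 2 c z22]
  have hs1i : (sig (m := m) c 1)⁻¹ = Tk 2 2 c * Tk 1 1 (-c) := by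
    rw [hs1, _root_.mul_inv_rev, h67_Tk_inv 2 2 (-c) z22, h67_Tk_inv 1 1 c z11, neg_neg]
  have V0 : (sig (m := m) c 0).1 = 1 + h67_Th (h67_s0 c) := by
    rw [hs0, Matrix.SpecialLinearGroup.coe_mul, v00, v11, h67_Th_mul hm, h67_s0_eq]
  have V0i : ((sig (m := m) c 0)⁻¹).1 = 1 + h67_Th (h67_s0i c (mm m F (-1))) := by
    rw [hs0i, Matrix.SpecialLinearGroup.coe_mul, v11, v00, h67_Th_mul hm, h67_s0i_eq]
  have V1 : (sig (m := m) c 1).1 = 1 + h67_Th (h67_s1 c) := by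
    rw [hs1, Matrix.SpecialLinearGroup.coe_mul, v11, v22, h67_Th_mul hm, h67_s1_eq]
  have V1i : ((sig (m := m) c 1)⁻¹).1 = 1 + h67_Th (h67_s1i c (mm m F (-1))) := by
    rw [hs1i, Matrix.SpecialLinearGroup.coe_mul, v22, v11, h67_Th_mul hm, h67_s1i_eq]
  have hword : (sig (m := m) c 1 * sig c 0 * (sig c 1)⁻¹ * (sig c 0)⁻¹) * sig c 0
        * (sig c 1 * sig c 0 * (sig c 1)⁻¹ * (sig c 0)⁻¹)⁻¹ * (sig c 0)⁻¹ =
      sig c 1 * sig c 0 * (sig c 1)⁻¹ * sig c 0 * sig c 1 * (sig c 0)⁻¹ * (sig c 1)⁻¹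
        * (sig c 0)⁻¹ := by
    group
  rw [hword]
  apply Subtype.ext
  simp only [Matrix.SpecialLinearGroup.coe_mul]
  rw [V1, V0, V1i, V0i, v20]
  rw [h67_Th_mul hm, h67_step1, h67_Th_mul hm, h67_step2, h67_Th_mul hm, h67_step3,
    h67_Th_mul hm, h67_step4, h67_Th_mul hm, h67_step5, h67_Th_mul hm, h67_step6,
    h67_Th_mul hm, h67_step7]
  congr 2
  ext i j
  fin_cases i <;> fin_cases j <;> simp [h67_w7, Matrix.single_apply, hεε]

end Cfsg.Agent.Helper67.RW
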