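import Mathlib
import Cfsg.Agent.Lib.Helper52.CoprimeSylow

set_option autoImplicit false

namespace Cfsg.Agent.Helper67

open Subgroup

/-- `x` is a `π`-element: every prime divisor of its order lies in `π`. -/
def IsPi {G : Type*} [Monoid G] (π : Set ℕ) (x : G) : Prop :=
  ∀ p : ℕ, p.Prime → p ∣ orderOf x → p ∈ π

theorem isPi_one {G : Type*} [Monoid G] (π : Set ℕ) : IsPi π (1 : G) := by
  intro p hp h
  rw [orderOf_one, Nat.dvd_one] at h
  exact absurd h hp.ne_one

theorem IsPi.inv {G : Type*} [Group G] {π : Set ℕ} {x : G} (h : IsPi π x) : IsPi π x⁻¹ := by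
  intro p hp hd
  rw [orderOf_inv] at hd
  exact h p hp hd

theorem IsPi.of_dvd {G H : Type*} [Monoid G] [Monoid H] {π : Set ℕ} {x : G} {y : H}
    (h : IsPi π x) (hd : orderOf y ∣ orderOf x) : IsPi π y :=
  fun p hp hpy => h p hp (hpy.trans hd)

theorem IsPi.map {G H : Type*} [Monoid G] [Monoid H] {π : Set ℕ} {x : G} (h : IsPi π x)
    (f : G →* H) : IsPi π (f x) :=
  h.of_dvd (orderOf_map_dvd f x)

theorem isPi_coe_iff {G : Type*} [Group G] {π : Set ℕ} {H : Subgroup G} (x : H) :
    IsPi π (x : G) ↔ IsPi π x := by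
  unfold IsPi
  rw [Subgroup.orderOf_coe]

/-- A finite group all of whose elements are `π`-elements has `π`-order. -/
theorem prime_mem_of_dvd_card {H : Type*} [Group H] [Finite H] {π : Set ℕ}
    (h : ∀ x : H, IsPi π x) (p : ℕ) (hp : p.Prime) (hd : p ∣ Nat.card H) : p ∈ π := by
  have : Fact p.Prime := ⟨hp⟩
  obtain ⟨x, hx⟩ := exists_prime_orderOf_dvd_card' p hd
  exact h x p hp (by rw [hx])

theorem isPi_of_card {H : Type*} [Group H] [Finite H] {π : Set ℕ}
    (h : ∀ p : ℕ, p.Prime → p ∣ Nat.card H → p ∈ π) (x : H) : IsPi π x :=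
  fun p hp hd => h p hp (hd.trans (orderOf_dvd_natCard x))

/-- lifting `π`-elements through a quotient by a normal `π`-subgroup -/
theorem isPi_of_isPi_mk {G : Type*} [Group G] [Finite G] {π : Set ℕ} (N : Subgroup G) [N.Normal]
    (hN : ∀ n ∈ N, IsPi π n) (g : G) (hg : IsPi π (QuotientGroup.mk' N g)) : IsPi π g := by
  intro p hp hd
  set m := orderOf (QuotientGroup.mk' N g) with hm
  have h1 : g ^ m ∈ N := by
    rw [← QuotientGroup.eq_one_iff, ← QuotientGroup.mk'_apply, map_pow, hm, pow_orderOf_eq_one]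
  have h2 : orderOf g ∣ m * orderOf (g ^ m) := by
    apply orderOf_dvd_of_pow_eq_one
    rw [pow_mul, pow_orderOf_eq_one]
  rcases (hp.dvd_mul).1 (hd.trans h2) with h | h
  · exact hg p hp h
  · exact hN _ h1 p hp h

theorem coprime_of_pi {π : Set ℕ} {a b : ℕ} (ha : ∀ p : ℕ, p.Prime → p ∣ a → p ∈ π)
    (hb : ∀ p : ℕ, p.Prime → p ∣ b → p ∉ π) : a.Coprime b :=
  Nat.coprime_of_dvd fun p hp h1 h2 => hb p hp h2 (ha p hp h1)

/-- an element which is both `π` and `π'` is trivial -/
theorem eq_one_of_isPi_of_not {G : Type*} [Monoid G] {π : Set ℕ} {x : G} (h1 : IsPi π x)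
    (h2 : ∀ p : ℕ, p.Prime → p ∣ orderOf x → p ∉ π) : x = 1 := by
  rw [← orderOf_eq_one_iff]
  by_contra hne
  obtain ⟨p, hp, hd⟩ := Nat.exists_prime_and_dvd hne
  exact h2 p hp hd (h1 p hp hd)

/-- splitting a number into its `π`-part and `π'`-part -/
theorem exists_pi_split (π : Set ℕ) (n : ℕ) (hn : n ≠ 0) :
    ∃ a b : ℕ, a * b = n ∧ (∀ p : ℕ, p.Prime → p ∣ a → p ∈ π) ∧
      (∀ p : ℕ, p.Prime → p ∣ b → p ∉ π) := by
  classical
  refine ⟨∏ p ∈ n.primeFactors with p ∈ π, p ^ n.factorization p,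
    ∏ p ∈ n.primeFactors with ¬ p ∈ π, p ^ n.factorization p, ?_, ?_, ?_⟩
  · rw [Finset.prod_filter_mul_prod_filter_not]
    exact Nat.prod_factorization_pow_eq_self hn
  · intro p hp hd
    rw [Prime.dvd_finsetProd_iff hp.prime] at hd
    obtain ⟨q, hq, hpq⟩ := hd
    rw [Finset.mem_filter] at hq
    have hqp : q.Prime := Nat.prime_of_mem_primeFactors hq.1
    have := (Nat.prime_dvd_prime_iff_eq hp hqp).1 (hp.dvd_of_dvd_pow hpq)
    rw [this]; exact hq.2
  · intro p hp hd
    rw [Prime.dvd_finsetProd_iff hp.prime] at hd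
    obtain ⟨q, hq, hpq⟩ := hd
    rw [Finset.mem_filter] at hq
    have hqp : q.Prime := Nat.prime_of_mem_primeFactors hq.1
    have := (Nat.prime_dvd_prime_iff_eq hp hqp).1 (hp.dvd_of_dvd_pow hpq)
    rw [this]; exact hq.2

/-- If the centre of a finite group `T` has `π`-index, the `π`-elements of `T` form a subgroup. -/
theorem exists_subgroup_isPi_of_center_index {T : Type*} [Group T] [Finite T] (π : Set ℕ)
    (hc : ∀ p : ℕ, p.Prime → p ∣ (center T).index → p ∈ π) :
    ∃ X : Subgroup T, ∀ t : T, t ∈ X ↔ IsPi π t := by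
  obtain ⟨a, b, hab, ha, hb⟩ := exists_pi_split π (Nat.card (center T)) Nat.card_pos.ne'
  have hcomm : ∀ x y : center T, Commute x y := fun x y =>
    Subtype.ext (Subgroup.mem_center_iff.1 y.2 x)
  let ψ : T →* center T := MonoidHom.mk' (fun t => (MonoidHom.transferCenterPow T t) ^ a)
    (by intro x y; rw [map_mul, (hcomm _ _).mul_pow])
  have hψ : ∀ t : T, ((ψ t : center T) : T) = t ^ ((center T).index * a) := by
    intro t
    show (((MonoidHom.transferCenterPow T t) ^ a : center T) : T) = _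
    rw [Subgroup.coe_pow, MonoidHom.transferCenterPow_apply, pow_mul]
  refine ⟨ψ.ker, fun t => ?_⟩
  rw [MonoidHom.mem_ker]
  constructor
  · intro h p hp hd
    have h1 : t ^ ((center T).index * a) = 1 := by
      rw [← hψ, h]; rfl
    have h2 := hd.trans (orderOf_dvd_of_pow_eq_one h1)
    rcases (hp.dvd_mul).1 h2 with h3 | h3
    · exact hc p hp h3
    · exact ha p hp h3
  · intro ht
    apply Subtype.ext
    rw [hψ]
    show t ^ ((center T).index * a) = 1
    apply eq_one_of_isPi_of_not (π := π)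
    · exact ht.of_dvd (orderOf_pow_dvd _)
    · intro p hp hd
      apply hb p hp
      have h1 : (t ^ ((center T).index * a)) ^ b = 1 := by
        rw [← hψ, ← Subgroup.coe_pow]
        have : (ψ t) ^ b = 1 := by
          show ((MonoidHom.transferCenterPow T t) ^ a) ^ b = 1
          rw [← pow_mul, hab, pow_card_eq_one']
        rw [this]; rfl
      exact hd.trans (orderOf_dvd_of_pow_eq_one h1)

/-- an element of `N` whose order is prime to `|N : H|` (with `H` normal in `N`) lies in `H` -/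
theorem mem_of_coprime_relIndex {G : Type*} [Group G] [Finite G] (H N : Subgroup G)
    (hn : (H.subgroupOf N).Normal) (y : G) (hy : y ∈ N)
    (hcop : ∀ p : ℕ, p.Prime → p ∣ orderOf y → ¬ p ∣ H.relIndex N) : y ∈ H := by
  let q : ↥N ⧸ H.subgroupOf N := QuotientGroup.mk ⟨y, hy⟩
  have h1 : orderOf q ∣ orderOf y := by
    have := orderOf_map_dvd (QuotientGroup.mk' (H.subgroupOf N)) (⟨y, hy⟩ : ↥N)
    rwa [← Subgroup.orderOf_coe] at this
  have h2 : orderOf q ∣ H.relIndex N := by
    rw [Subgroup.relIndex, Subgroup.index_eq_card]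
    exact orderOf_dvd_natCard q
  have h3 : orderOf q = 1 := by
    by_contra hne
    obtain ⟨p, hp, hd⟩ := Nat.exists_prime_and_dvd hne
    exact hcop p hp (hd.trans h1) (hd.trans h2)
  rw [orderOf_eq_one_iff, QuotientGroup.eq_one_iff, Subgroup.mem_subgroupOf] at h3
  exact h3

/-- a subgroup of `K` whose order is divisible by all Sylow orders of `K` equals `K` -/
theorem eq_of_sylCard_dvd {G : Type*} [Group G] [Finite G] (S K : Subgroup G) (hSK : S ≤ K)
    (h : ∀ q : ℕ, q.Prime → Helper52.sylCard q K ∣ Nat.card S) : S = K := by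
  apply Subgroup.eq_of_le_of_card_ge hSK
  apply Nat.le_of_dvd Nat.card_pos
  rw [← Nat.factorization_prime_le_iff_dvd Nat.card_pos.ne' Nat.card_pos.ne']
  intro q hq
  exact (hq.pow_dvd_iff_le_factorization Nat.card_pos.ne').1 (h q hq)

/-- **Key step**: under the `N_G(H)/C_G(H)` hypothesis, every `π`-element centralizes `K/L`
when `L` is a normal `π`-subgroup and `K/L` is a normal `π'`-subgroup of `G/L`. -/
theorem centralizes_of_isPi {G : Type*} [Group G] [Finite G] (π : Set ℕ)
    (hhom : ∀ H : Subgroup G, H ≠ ⊥ → (∀ p : ℕ, p.Prime → p ∣ Nat.card ↥H → p ∉ π) →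
        ∀ p : ℕ, p.Prime → p ∣ (centralizer (H : Set G)).relIndex (normalizer (H : Set G)) → p ∉ π)
    (L K : Subgroup G) [L.Normal] [K.Normal] (hL : ∀ l ∈ L, IsPi π l)
    (hK : ∀ p : ℕ, p.Prime → p ∣ Nat.card (K.map (QuotientGroup.mk' L)) → p ∉ π)
    (z : G) (hz : IsPi π z) :
    QuotientGroup.mk' L z ∈
      centralizer ((K.map (QuotientGroup.mk' L) : Subgroup (G ⧸ L)) : Set (G ⧸ L)) := by
  classical
  set f := QuotientGroup.mk' L with hf
  have hfsurj : Function.Surjective f := QuotientGroup.mk'_surjective L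
  set Kb := K.map f with hKb
  set zb := f z with hzb
  have hzbpi : IsPi π zb := hz.map f
  set A := zpowers zb with hA
  have hKbn : Kb.Normal := Subgroup.Normal.map inferInstance f hfsurj
  have hAK : A ≤ normalizer (Kb : Set (G ⧸ L)) := by
    rw [Subgroup.normalizer_eq_top]; exact le_top
  have hcop : (Nat.card A).Coprime (Nat.card Kb) := by
    apply coprime_of_pi (π := π)
    · intro p hp hd
      rw [Nat.card_zpowers] at hd
      exact hzbpi p hp hd
    · exact hK
  have hsolv : Group.IsSolvable A := by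
    have : IsCyclic A := Subgroup.isCyclic_zpowers zb
    let _i : CommGroup A := IsCyclic.commGroup
    exact Group.isSolvable_of_comm (fun a b => mul_comm a b)
  suffices hS : Kb ⊓ centralizer ({zb} : Set (G ⧸ L)) = Kb by
    rw [mem_centralizer_iff]
    intro k hk
    have h1 : k ∈ Kb ⊓ centralizer ({zb} : Set (G ⧸ L)) := by rw [hS]; exact hk
    have h2 := (Subgroup.mem_inf.1 h1).2
    exact (mem_centralizer_iff.1 h2 zb rfl).symm
  apply eq_of_sylCard_dvd _ _ inf_le_left
  intro q hq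
  have : Fact q.Prime := ⟨hq⟩
  obtain ⟨Qb, hQK, hQcard, hAQ⟩ := Helper52.exists_invariant_sylow A Kb hAK hcop (Or.inl hsolv) q
  rw [← hQcard]
  apply Subgroup.card_dvd_of_le
  apply le_inf hQK
  by_cases hQbot : Qb = ⊥
  · rw [hQbot]; exact bot_le
  have hQpos : 1 < Nat.card Qb := (Subgroup.one_lt_card_iff_ne_bot Qb).2 hQbot
  have hqQ : q ∣ Nat.card Qb := by
    rw [hQcard, Helper52.sylCard] at hQpos ⊢
    apply dvd_pow_self
    intro h0
    rw [h0, pow_zero] at hQpos
    exact lt_irrefl _ hQpos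
  have hqπ : q ∉ π := hK q hq (hqQ.trans (Subgroup.card_dvd_of_le hQK))
  have hqL : ¬ q ∣ Nat.card L := fun h =>
    hqπ (prime_mem_of_dvd_card (fun x : L => (isPi_coe_iff x).1 (hL x x.2)) q hq h)
  set R := Qb.comap f with hR
  have hLR : L ≤ R := by
    intro l hl
    show f l ∈ Qb
    have : f l = 1 := (QuotientGroup.eq_one_iff l).2 hl
    rw [this]
    exact Qb.one_mem
  have hRmap : R.map f = Qb := Subgroup.map_comap_eq_self_of_surjective hfsurj Qb
  have hRcard : Nat.card R = Nat.card L * Nat.card Qb := by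
    rw [← Helper52.card_mul_relIndex_eq hLR, ← hRmap, ← Subgroup.relIndex_ker R f,
      QuotientGroup.ker_mk']
  have hsyl : Helper52.sylCard q R = Nat.card Qb := by
    rw [Helper52.sylCard, hRcard, Nat.factorization_mul Nat.card_pos.ne' Nat.card_pos.ne',
      Finsupp.add_apply, Nat.factorization_eq_zero_of_not_dvd hqL, zero_add, hQcard,
      Helper52.sylCard, Nat.Prime.factorization_pow hq, Finsupp.single_eq_same]
  obtain ⟨Q₀⟩ : Nonempty (Sylow q R) := inferInstance
  set Q := (Q₀ : Subgroup R).map R.subtype with hQ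
  have hQR : Q ≤ R := by
    rintro x ⟨y, _, rfl⟩
    exact y.2
  have hQc : Nat.card Q = Helper52.sylCard q R := Helper52.card_sylow_map q R Q₀
  have hQc' : Nat.card Q = Nat.card Qb := hQc.trans hsyl
  have hQL : L ⊓ Q = ⊥ := by
    have hc : (Nat.card L).Coprime (Nat.card Q) := by
      rw [hQc', hQcard, Helper52.sylCard]
      exact Nat.Coprime.pow_right _ ((Nat.Prime.coprime_iff_not_dvd hq).2 hqL).symm
    exact (Subgroup.disjoint_of_coprime_natCard hc).eq_bot
  have hQmap : Q.map f = Qb := by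
    apply Subgroup.eq_of_le_of_card_ge
    · rw [← hRmap]; exact Subgroup.map_mono hQR
    · rw [← Subgroup.relIndex_ker Q f, QuotientGroup.ker_mk', ← Subgroup.inf_relIndex_right, hQL,
        Subgroup.relIndex_bot_left, hQc']
  have hzR : z ∈ normalizer (R : Set G) := by
    rw [mem_normalizer_iff]
    intro r
    have hzbN : zb ∈ normalizer (Qb : Set (G ⧸ L)) := hAQ (mem_zpowers zb)
    have h1 := (mem_normalizer_iff.1 hzbN) (f r)
    show f r ∈ Qb ↔ f (z * r * z⁻¹) ∈ Qb
    rw [map_mul, map_mul, map_inv]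
    exact h1
  set Q' := Q.map (MulAut.conj z).toMonoidHom with hQ'
  have hQ'R : Q' ≤ R := Helper52.map_conj_le_of_le_normalizer hQR hzR
  have hQ'c : Nat.card Q' = Helper52.sylCard q R := by
    rw [hQ', Helper52.card_map_conj, hQc]
  obtain ⟨r, hr, hrQ⟩ := Helper52.exists_conj_of_card q R Q Q' hQR hQ'R hQc hQ'c
  have hfr : f r ∈ Q.map f := by rw [hQmap]; exact hr
  obtain ⟨u, hu, hur⟩ := hfr
  set y := u * r⁻¹ * z with hy
  have hfy : f y = zb := by
    rw [hy, map_mul, map_mul, map_inv, hur, mul_inv_cancel, one_mul]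
  have hypi : IsPi π y := isPi_of_isPi_mk L hL y (by rw [hfy]; exact hzbpi)
  have hyN : y ∈ normalizer (Q : Set G) := by
    apply Helper52.mem_normalizer_of_map_conj_eq
    have e1 : Q.map (MulAut.conj (u * r⁻¹ * z)).toMonoidHom =
        (Q.map (MulAut.conj z).toMonoidHom).map (MulAut.conj (u * r⁻¹)).toMonoidHom :=
      (Helper24.map_conj_map_conj Q z (u * r⁻¹)).symm
    rw [hy, e1, ← hQ', hrQ, Helper24.map_conj_map_conj, inv_mul_cancel_right]
    exact Helper52.map_conj_eq_of_mem_normalizer (Subgroup.le_normalizer hu)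
  have hQne : Q ≠ ⊥ := by
    rw [← Subgroup.one_lt_card_iff_ne_bot Q, hQc']; exact hQpos
  have hQpi' : ∀ p : ℕ, p.Prime → p ∣ Nat.card Q → p ∉ π := by
    intro p hp hd
    rw [hQc', hQcard, Helper52.sylCard] at hd
    have := (Nat.prime_dvd_prime_iff_eq hp hq).1 (hp.dvd_of_dvd_pow hd)
    rw [this]; exact hqπ
  have hrel := hhom Q hQne hQpi'
  have hyC : y ∈ centralizer (Q : Set G) := by
    apply mem_of_coprime_relIndex (centralizer (Q : Set G)) (normalizer (Q : Set G))
      (Subgroup.normal_subgroupOf_centralizer_normalizer (Q : Set G)) y hyN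
    intro p hp hd hd2
    exact hrel p hp hd2 (hypi p hp hd)
  intro xb hxb
  rw [← hQmap] at hxb
  obtain ⟨x, hx, rfl⟩ := hxb
  rw [mem_centralizer_iff]
  intro w hw
  rw [Set.mem_singleton_iff] at hw
  rw [hw, ← hfy, ← map_mul, ← map_mul]
  congr 1
  exact (mem_centralizer_iff.1 hyC x hx).symm

/-- if `f` kills every `p`-element of `K`, then `p` does not divide `|f(K)|` -/
theorem not_dvd_card_map_of_kills {G G' : Type*} [Group G] [Finite G] [Group G'] [Finite G']
    (f : G →* G') (K : Subgroup G) (p : ℕ) (hp : p.Prime)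
    (h : ∀ k ∈ K, (∃ a : ℕ, orderOf k = p ^ a) → f k = 1) : ¬ p ∣ Nat.card (K.map f) := by
  intro hd
  have : Fact p.Prime := ⟨hp⟩
  obtain ⟨kb, hkb⟩ := exists_prime_orderOf_dvd_card' (G := K.map f) p hd
  obtain ⟨k, hk, hkk⟩ := kb.2
  have hkb' : orderOf (f k) = p := by
    rw [hkk, Subgroup.orderOf_coe]; exact hkb
  obtain ⟨e, m, hm, hn⟩ := Nat.exists_eq_pow_mul_and_not_dvd (orderOf_pos k).ne' p hp.ne_one
  have h1 : orderOf (k ^ m) = p ^ e := by
    rw [orderOf_pow, hn, Nat.gcd_eq_right (Dvd.intro_left _ rfl),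
      Nat.mul_div_cancel _ (Nat.pos_of_ne_zero (by rintro rfl; simp at hm))]
  have h2 := h (k ^ m) (K.pow_mem hk m) ⟨e, h1⟩
  rw [map_pow] at h2
  have h3 := orderOf_dvd_of_pow_eq_one h2
  rw [hkb'] at h3
  exact hm h3

end Cfsg.Agent.Helper67
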