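import Mathlib
import Cfsg.Agent.Lib.Helper67.BaerSuzuki
import Cfsg.Agent.Lib.Helper59.Derangement

set_option autoImplicit false

namespace Cfsg.Agent.Helper67

/-- The size of a conjugacy class is the index of the centralizer. -/
theorem ncard_carrier_eq_index {G : Type*} [Group G] (g : G) :
    (ConjClasses.mk g).carrier.ncard = (Subgroup.centralizer ({g} : Set G)).index := by
  have h0 : (Subgroup.centralizer ({g} : Set G)).index =
      (MulAction.stabilizer (ConjAct G) g).index := by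
    rw [Subgroup.centralizer_eq_comap_stabilizer]
    exact Subgroup.index_comap_of_surjective (MulAction.stabilizer (ConjAct G) g)
      (f := (ConjAct.toConjAct (G := G)).toMonoidHom) (ConjAct.toConjAct (G := G)).surjective
  rw [h0, MulAction.index_stabilizer, ConjAct.orbit_eq_carrier_conjClasses]

/-- A subgroup of index prime to `p` contains a Sylow `p`-subgroup. -/
theorem exists_sylow_le_of_not_dvd_index {G : Type*} [Group G] [Finite G] {p : ℕ} [Fact p.Prime]
    (H : Subgroup G) (h : ¬ p ∣ H.index) : ∃ Q : Sylow p G, (Q : Subgroup G) ≤ H := by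
  obtain ⟨P⟩ : Nonempty (Sylow p G) := inferInstance
  have hfix := P.isPGroup'.nonempty_fixed_point_of_prime_not_dvd_card (G ⧸ H)
    (by rw [← Subgroup.index_eq_card]; exact h)
  obtain ⟨q, hq⟩ := hfix
  induction q using QuotientGroup.induction_on with
  | H g =>
    refine ⟨g⁻¹ • P, ?_⟩
    rw [sylow_smul_coe]
    intro y hy
    rw [mem_cj, inv_inv] at hy
    have := hq ⟨g * y * g⁻¹, hy⟩
    have h2 : ((g * y * g⁻¹ * g : G) : G ⧸ H) = (g : G ⧸ H) := this
    rw [QuotientGroup.eq] at h2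
    have h3 : (g * y * g⁻¹ * g)⁻¹ * g = y⁻¹ := by simp [mul_assoc]
    rw [h3] at h2
    exact (inv_mem_iff (x := y)).1 h2

/-- If every `p`-regular element centralizes some Sylow `p`-subgroup, every element normalizes
some Sylow `p`-subgroup. -/
theorem exists_sylow_smul_eq_of_regular_centralize {G : Type*} [Group G] [Finite G] {p : ℕ}
    [Fact p.Prime]
    (h : ∀ x : G, (orderOf x).Coprime p →
      ∃ Q : Sylow p G, (Q : Subgroup G) ≤ Subgroup.centralizer ({x} : Set G)) (g : G) :
    ∃ Q : Sylow p G, g • Q = Q := by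
  have hp : p.Prime := Fact.out
  obtain ⟨a, m, hm, hgm⟩ := Nat.exists_eq_pow_mul_and_not_dvd (orderOf_pos g).ne' p hp.ne_one
  have hm0 : m ≠ 0 := by rintro rfl; simp at hm
  have hpa0 : p ^ a ≠ 0 := pow_ne_zero _ hp.ne_zero
  set y := g ^ (p ^ a) with hy
  set u := g ^ m with hu
  have hyo : orderOf y = m := by
    rw [hy, orderOf_pow_of_dvd hpa0 (hgm ▸ Dvd.intro _ rfl), hgm]
    exact Nat.mul_div_cancel_left _ (Nat.pos_of_ne_zero hpa0)
  have huo : orderOf u = p ^ a := by
    rw [hu, orderOf_pow_of_dvd hm0 (hgm ▸ Dvd.intro_left _ rfl), hgm]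
    exact Nat.mul_div_cancel _ (Nat.pos_of_ne_zero hm0)
  have hycop : (orderOf y).Coprime p := by
    rw [hyo]; exact ((Nat.Prime.coprime_iff_not_dvd hp).2 hm).symm
  obtain ⟨Q0, hQ0⟩ := h y hycop
  set C := Subgroup.centralizer ({y} : Set G) with hC
  have huC : u ∈ C := by
    rw [hC, Subgroup.mem_centralizer_iff]
    rintro _ rfl
    exact ((Commute.refl g).pow_pow _ _).eq
  -- Sylow theory in C
  set u' : C := ⟨u, huC⟩ with hu'
  have hzu : IsPGroup p (Subgroup.zpowers u') := by
    apply IsPGroup.of_card (n := a)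
    rw [Nat.card_zpowers, ← Subgroup.orderOf_coe]; exact huo
  obtain ⟨Q', hQ'⟩ := hzu.exists_le_sylow
  obtain ⟨c, hc⟩ := MulAction.exists_smul_eq C (Q0.subtype hQ0) Q'
  set Q1 : Sylow p G := (c : G) • Q0 with hQ1
  have huQ1 : u ∈ Q1 := by
    have h1 : u' ∈ ((c • (Q0.subtype hQ0) : Sylow p C) : Subgroup C) := by
      rw [hc]; exact hQ' (Subgroup.mem_zpowers u')
    rw [sylow_smul_coe, mem_cj] at h1
    rw [Sylow.coe_subtype, Subgroup.mem_subgroupOf] at h1
    show u ∈ ((c : G) • Q0 : Sylow p G).toSubgroup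
    rw [sylow_smul_coe, mem_cj]
    simpa using h1
  have hQ1C : (Q1 : Subgroup G) ≤ C := by
    intro x hx
    rw [hQ1, sylow_smul_coe, mem_cj] at hx
    have h2 := hQ0 hx
    have : x = (c : G) * ((c : G)⁻¹ * x * (c : G)) * (c : G)⁻¹ := by simp [mul_assoc]
    rw [this]
    exact mul_mem (mul_mem c.2 h2) (inv_mem c.2)
  refine ⟨Q1, ?_⟩
  rw [Sylow.smul_eq_iff_mem_normalizer]
  have huN : u ∈ Subgroup.normalizer ((Q1 : Subgroup G) : Set G) := Subgroup.le_normalizer huQ1
  have hyN : y ∈ Subgroup.normalizer ((Q1 : Subgroup G) : Set G) := by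
    rw [Subgroup.mem_normalizer_iff]
    intro x
    have hcomm : ∀ z ∈ (Q1 : Subgroup G), y * z * y⁻¹ = z := by
      intro z hz
      have := Subgroup.mem_centralizer_iff.1 (hQ1C hz) y rfl
      rw [this]; simp
    constructor
    · intro hx; rw [hcomm x hx]; exact hx
    · intro hx
      have := hcomm _ hx
      have h3 : y * x * y⁻¹ = x := by
        have h4 : y * (y * x * y⁻¹) * y⁻¹ = y * x * y⁻¹ := this
        have h5 := congrArg (fun w => y⁻¹ * w * y) h4
        simpa [mul_assoc] using h5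
      rw [← h3]; exact hx
  have hcop : Nat.Coprime (p ^ a) m :=
    Nat.Coprime.pow_left a ((Nat.Prime.coprime_iff_not_dvd hp).2 hm)
  have hbez := Nat.gcd_eq_gcd_ab (p ^ a) m
  rw [hcop.gcd_eq_one] at hbez
  have hg : g = y ^ (Nat.gcdA (p ^ a) m) * u ^ (Nat.gcdB (p ^ a) m) := by
    rw [hy, hu, ← zpow_natCast g (p ^ a), ← zpow_natCast g m, ← zpow_mul, ← zpow_mul, ← zpow_add]
    have : ((p ^ a : ℕ) : ℤ) * Nat.gcdA (p ^ a) m + (m : ℤ) * Nat.gcdB (p ^ a) m = 1 := by
      rw [← hbez]; simp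
    rw [this, zpow_one]
  rw [hg]
  exact mul_mem (zpow_mem hyN _) (zpow_mem huN _)

/-- **Jordan**: a transitive action in which every element has a fixed point is on at most one
point. -/
theorem subsingleton_of_forall_exists_fixed {G X : Type*} [Group G] [Finite G] [MulAction G X]
    [Finite X] [MulAction.IsPretransitive G X] (h : ∀ g : G, ∃ x : X, g • x = x) :
    Subsingleton X := by
  have hD := (Cfsg.Agent.Helper59.der_main (G := G) (X := X) inferInstance ⊥
    (fun g hg => by
      obtain ⟨x, hx⟩ := h g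
      exact absurd hx (hg x))).1
  refine ⟨fun a b => ?_⟩
  obtain ⟨⟨d, hd⟩, hdab⟩ := hD.exists_smul_eq a b
  rw [Subgroup.mem_bot] at hd
  subst hd
  have : (1 : G) • a = b := hdab
  rwa [one_smul] at this

/-- If every `p`-regular element centralizes some Sylow `p`-subgroup, then `G = P × H` with
`H` a normal `p'`-subgroup. -/
theorem direct_factor_of_regular_centralize {G : Type*} [Group G] [Finite G] {p : ℕ}
    [Fact p.Prime]
    (h : ∀ x : G, (orderOf x).Coprime p →
      ∃ Q : Sylow p G, (Q : Subgroup G) ≤ Subgroup.centralizer ({x} : Set G)) (P : Sylow p G) :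
    (P : Subgroup G).Normal ∧ ∃ H : Subgroup G, H.Normal ∧ ¬ p ∣ Nat.card H ∧
      (P : Subgroup G) ⊓ H = ⊥ ∧ (P : Subgroup G) ⊔ H = ⊤ := by
  have hp : p.Prime := Fact.out
  have hsub : Subsingleton (Sylow p G) :=
    subsingleton_of_forall_exists_fixed (exists_sylow_smul_eq_of_regular_centralize h)
  have hPn : (P : Subgroup G).Normal := Sylow.normal_of_subsingleton P
  refine ⟨hPn, ?_⟩
  obtain ⟨H, hH⟩ := Subgroup.exists_right_complement'_of_coprime
    (N := (P : Subgroup G)) P.card_coprime_index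
  have hHcard : ¬ p ∣ Nat.card H := by
    have h1 : (P : Subgroup G).index = Nat.card H := hH.symm.index_eq_card
    rw [← h1]; exact P.not_dvd_index
  -- H centralizes P
  have hHP : ∀ x ∈ H, ∀ u ∈ (P : Subgroup G), x * u = u * x := by
    intro x hx u hu
    have hxo : (orderOf x).Coprime p := by
      have hd : orderOf x ∣ Nat.card H := Subgroup.orderOf_dvd_natCard H hx
      exact Nat.Coprime.coprime_dvd_left hd ((Nat.Prime.coprime_iff_not_dvd hp).2 hHcard).symm
    obtain ⟨Q, hQ⟩ := h x hxo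
    have hQP : Q = P := Subsingleton.elim Q P
    rw [hQP] at hQ
    exact (Subgroup.mem_centralizer_iff.1 (hQ hu) x rfl)
  refine ⟨H, ?_, hHcard, disjoint_iff.1 hH.disjoint, hH.sup_eq_top⟩
  refine ⟨fun x hx g => ?_⟩
  obtain ⟨⟨⟨u, hu⟩, ⟨k, hk⟩⟩, hg⟩ := hH.2 g
  simp only at hg
  rw [← hg]
  have e : u * k * x * (u * k)⁻¹ = u * (k * x * k⁻¹) * u⁻¹ := by simp [mul_assoc]
  rw [e]
  have hkx : k * x * k⁻¹ ∈ H := mul_mem (mul_mem hk hx) (inv_mem hk)
  have := hHP _ hkx u hu
  rw [← this]
  simpa using hkx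

end Cfsg.Agent.Helper67
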