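import Mathlib
import Cfsg.Prelude.Def_OddOrder
import Cfsg.Prelude.Def_OddOrderLocal
import Cfsg.Agent.Lib.Helper52.CoprimeSylow

/-!
# The CRUX (L8) of S1430/S1431 = B-G 13.11(c): definitions for the lemma server (helper67)

Route: board #2857 (II) (helper96), written out in full in the docstrings of
`tools/bgcrux_sigs_helper67.lean.txt`.  Everything is hypothesis-parametrised:
* `Rows G`   : the frozen rows that are used, as plain statements (no S-row import needed);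
* `Inputs G` : sigma-partition, (L6), S1428, the tau1-asymmetry (B-G 13.8), (Q3), (Q5);
* `Cfg`, `EStruct`, `HSide` : the configuration and the facts proved about it by the packages.
-/

set_option autoImplicit false
set_option linter.unusedVariables false

namespace Cfsg.Agent.Helper67.BGCrux

open Subgroup Cfsg
open Cfsg.Agent.Helper52 (sylCard)

/-- the frozen rows used by the crux, with `hG` already applied. -/
structure Rows (G : Type*) [Group G] [Finite G] : Prop where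
  r1350 : ∀ (M : Subgroup G) (hM : IsCoatom M),
    Cfsg.IsPiHallOf (Cfsg.sigma M) (Cfsg.sigmaCore M) M ∧ Cfsg.IsPiHall (Cfsg.sigma M) (Cfsg.sigmaCore M) ∧ ∀ N : Subgroup G, M ≤ Subgroup.normalizer (N : Set G) → Cfsg.IsPiHallOf (Cfsg.sigma M) N M → N = Cfsg.sigmaCore M
  r1404 : ∀ (M : Subgroup G) (hM : IsCoatom M) (p : ℕ) [Fact p.Prime] (hp : p ∈ Cfsg.sigma M) (X : Subgroup G) (hXp : IsPGroup p X) (hX1 : X ≠ ⊥) (hXM : X ≤ M),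
    (∀ g : G, X.map (MulAut.conj g).toMonoidHom ≤ M → ∃ m ∈ M, ∃ c ∈ Subgroup.centralizer (X : Set G), g = m * c) ∧ Subgroup.normalizer (X : Set G) = (M ⊓ Subgroup.normalizer (X : Set G)) ⊔ Subgroup.centralizer (X : Set G)
  r1415 : ∀ (M : Subgroup G) (hM : IsCoatom M) (E : Subgroup G) (hE : Cfsg.IsComplIn E (Cfsg.sigmaCore M) M),
    Group.IsNilpotent ↥⁅E, E⁆ ∧ (∀ E₁ : Subgroup G, Cfsg.IsPiHallOf (Cfsg.tau1 M) E₁ E → IsCyclic E₁) ∧ ∀ E₃ : Subgroup G, Cfsg.IsPiHallOf (Cfsg.tau3 M) E₃ E → IsCyclic E₃ ∧ E₃ ≤ ⁅E, E⁆ ∧ E ≤ Subgroup.normalizer (E₃ : Set G)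
  r1417 : ∀ (M : Subgroup G) (hM : IsCoatom M) (p : ℕ) [Fact p.Prime] (hp : p ∈ Cfsg.tau2 M) (A : Subgroup G) (hA : (A ≤ M ∧ Cfsg.IsElementaryAbelian p A ∧ Nat.card A = p ^ 2)),
    Group.IsNilpotent (Cfsg.sigmaCore M) ∧ (∀ P : Sylow p M, IsMulCommutative (P : Subgroup M) ∧ (A ≤ (P : Subgroup M).map M.subtype → (∀ x ∈ (P : Subgroup M).map M.subtype, x ^ p = 1 ↔ x ∈ A) ∧ ¬ Subgroup.normalizer ((((P : Subgroup M).map M.subtype : Subgroup G)) : Set G) ≤ M)) ∧ M ≤ Subgroup.normalizer ((Cfsg.sigmaCore M ⊔ A : Subgroup G) : Set G) ∧ Cfsg.sigmaCore M ⊓ Subgroup.centralizer (A : Set G) = ⊥ ∧ (∀ Mstar : Subgroup G, IsCoatom Mstar → Mstar ≠ M → A ≤ Mstar → Cfsg.sigmaCore M ⊓ Mstar = ⊥) ∧ ∃ A₁ : Subgroup G, A₁ ≤ A ∧ Nat.card A₁ = p ∧ Cfsg.sigmaCore M ⊓ Subgroup.centralizer (A₁ : Set G) = ⊥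
  r1418 : ∀ (M : Subgroup G) (hM : IsCoatom M) (E : Subgroup G) (hE : Cfsg.IsComplIn E (Cfsg.sigmaCore M) M) (p : ℕ) [Fact p.Prime] (hp : p ∈ Cfsg.tau2 M) (A : Subgroup G) (hA : (A ≤ E ∧ Cfsg.IsElementaryAbelian p A ∧ Nat.card A = p ^ 2)),
    (E ≤ Subgroup.normalizer (A : Set G) ∧ ∀ X : Subgroup G, X ≤ E → Nat.card X = p → X ≤ A) ∧ (Subgroup.centralizer (A : Set G) ≤ M ⊓ Subgroup.normalizer (A : Set G) ∧ M ⊓ Subgroup.normalizer (A : Set G) = E ∧ ¬ Subgroup.normalizer (A : Set G) ≤ M) ∧ ∀ X : Subgroup G, X ≤ A → Nat.card X = p → Cfsg.sigmaCore M ⊓ Subgroup.centralizer (X : Set G) ≠ ⊥ → (Subgroup.centralizer (X : Set G) ≤ M ∧ ∀ L : Subgroup G, IsCoatom L → Subgroup.centralizer (X : Set G) ≤ L → L = M)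
  r1420 : ∀ (M : Subgroup G) (hM : IsCoatom M) (E : Subgroup G) (hE : Cfsg.IsComplIn E (Cfsg.sigmaCore M) M),
    (∀ N : Subgroup G, N ≤ M → Group.IsNilpotent N → (∀ p : ℕ, p.Prime → p ∣ Nat.card N → p ∉ Cfsg.sigma M) → IsMulCommutative N) ∧ IsMulCommutative ↥⁅E, E⁆ ∧ (∀ (p : ℕ) (P : Subgroup G), p ∈ Cfsg.sigma M → IsPGroup p P → P ≤ M → ¬ IsCyclic P → Subgroup.normalizer (P : Set G) ≤ M) ∧ ∀ x ∈ M, x ≠ 1 → (∀ p : ℕ, p.Prime → p ∣ orderOf x → p ∈ Cfsg.tau2 M) → x ∈ Cfsg.sigmaHat M → Subgroup.centralizer ({x} : Set G) ≤ M ∧ ∀ L : Subgroup G, IsCoatom L → Subgroup.centralizer ({x} : Set G) ≤ L → L = M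
  r1423 : ∀ (M : Subgroup G) (hM : IsCoatom M) (p : ℕ) [Fact p.Prime] (hp : p ∈ Cfsg.sigma M) (X : Subgroup G) (hXM : X ≤ M) (hX : Nat.card X = p) (P : Sylow p ↥(Cfsg.sigmaCore M)) (h : p ∈ Cfsg.beta M ∨ X ≤ ⁅Cfsg.sigmaCore M, Cfsg.sigmaCore M⁆),
    (Subgroup.centralizer (X : Set G) ≤ M ∧ ∀ L : Subgroup G, IsCoatom L → Subgroup.centralizer (X : Set G) ≤ L → L = M) ∧ Cfsg.InUniqueMaximal ((P : Subgroup ↥(Cfsg.sigmaCore M)).map (Cfsg.sigmaCore M).subtype) ∧ (P : Subgroup ↥(Cfsg.sigmaCore M)).map (Cfsg.sigmaCore M).subtype ≤ M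
  r1426 : ∀ (M : Subgroup G) (hM : IsCoatom M) (E : Subgroup G) (hE : Cfsg.IsComplIn E (Cfsg.sigmaCore M) M),
    Cfsg.sigmaCore M ⊓ Subgroup.centralizer (E : Set G) ≤ ⁅Cfsg.sigmaCore M, Cfsg.sigmaCore M⁆ ∧ ⁅Cfsg.sigmaCore M, E⁆ = Cfsg.sigmaCore M ∧ ∀ g : G, g ∉ M → IsCyclic ↥(Cfsg.sigmaCore M ⊓ M.map (MulAut.conj g).toMonoidHom) ∧ (∀ p : ℕ, p.Prime → p ∣ Nat.card ↥(Cfsg.sigmaCore M ⊓ M.map (MulAut.conj g).toMonoidHom) → p ∉ Cfsg.beta M) ∧ Cfsg.sigmaCore M ⊓ M.map (MulAut.conj g).toMonoidHom ⊓ ⁅Cfsg.sigmaCore M, Cfsg.sigmaCore M⁆ = ⊥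
  r1427 : ∀ (M : Subgroup G) (hM : IsCoatom M) (E : Subgroup G) (hE : Cfsg.IsComplIn E (Cfsg.sigmaCore M) M) (p : ℕ) [Fact p.Prime] (S : Sylow p E) (hS1 : (S : Subgroup E) ≠ ⊥) (hSc : IsCyclic (S : Subgroup E)),
    ∀ x ∈ (S : Subgroup E).map E.subtype, x ≠ 1 → Cfsg.sigmaCore M ⊓ Subgroup.centralizer ({x} : Set G) = Cfsg.sigmaCore M ⊓ Subgroup.centralizer (((S : Subgroup E).map E.subtype : Subgroup G) : Set G)

/-- the non-row inputs of the crux. -/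
structure Inputs (G : Type*) [Group G] [Finite G] : Prop where
  /-- sigma-partition, S1378 second clause -/
  sp : ∀ M N : Subgroup G, IsCoatom M → IsCoatom N → (Cfsg.sigma M ∩ Cfsg.sigma N).Nonempty →
    ∃ g : G, N = M.map (MulAut.conj g).toMonoidHom
  /-- (L6) = (Q7) of tools/bg142_sigs_helper54 -/
  l6 : ∀ (M : Subgroup G), IsCoatom M → ∀ (p : ℕ), p.Prime → p ∉ Cfsg.sigma M → Cfsg.PRankLE p 1 M →
    ∀ X : Subgroup G, X ≤ M → Nat.card X = p →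
      Cfsg.sigmaCore M ⊓ centralizer (X : Set G) ≠ ⊥ →
      ∀ H : Subgroup G, IsCoatom H → normalizer (X : Set G) ≤ H → X ≤ Cfsg.sigmaCore H
  /-- S1428 -/
  s1428 : ∀ (M : Subgroup G), IsCoatom M → ∀ E : Subgroup G, Cfsg.IsComplIn E (Cfsg.sigmaCore M) M →
    ∀ p : ℕ, p ∈ Cfsg.tau1 M → ∀ P : Subgroup G, P ≤ E → Nat.card P = p →
      ∀ R : Subgroup G, R ≤ E ⊓ centralizer (P : Set G) → (Nat.card R).Prime →
        Cfsg.sigmaCore M ⊓ centralizer (P : Set G) ≤ Cfsg.sigmaCore M ⊓ centralizer (R : Set G)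
  /-- B-G 13.8, helper96 `asymmetry` -/
  asym : ∀ {M H Q W W' : Subgroup G} {q w w' : ℕ} [Fact q.Prime] [Fact w.Prime] [Fact w'.Prime],
    IsCoatom M → IsCoatom H → (∀ g : G, H ≠ M.map (MulAut.conj g).toMonoidHom) →
    q ∈ Cfsg.tau1 M → q ∈ Cfsg.tau1 H → Nat.card Q = q → Q ≤ M ⊓ H → w ≠ q → w' ≠ q →
    IsPGroup w W → W ≤ M ⊓ H → Nat.card W = sylCard w (M ⊓ H) → Q ≤ normalizer (W : Set G) →
    (∀ x ∈ W, (∀ y ∈ Q, y * x = x * y) → x = 1) → normalizer (W : Set G) ≤ H →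
    IsPGroup w' W' → W' ≤ M ⊓ H → Nat.card W' = sylCard w' (M ⊓ H) → Q ≤ normalizer (W' : Set G) →
    (∀ x ∈ W', (∀ y ∈ Q, y * x = x * y) → x = 1) → normalizer (W' : Set G) ≤ M → False
  /-- (Q3) of tools/bg142_sigs_helper54 -/
  q3 : ∀ (M : Subgroup G) (p : ℕ), p.Prime → p ∉ Cfsg.sigma M → Cfsg.PRankLE p 1 M →
    ∀ X : Subgroup G, X ≤ M → Nat.card X = p →
      Cfsg.sigmaCore M ⊓ centralizer (X : Set G) ≠ ⊥ → p ∈ Cfsg.kappa M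
  /-- (Q5) = (L1) of tools/bg142_sigs_helper54 -/
  q5 : ∀ (M : Subgroup G), IsCoatom M → ∀ E : Subgroup G, Cfsg.IsComplIn E (Cfsg.sigmaCore M) M →
    ∀ s : ℕ, s ∈ Cfsg.tau3 M → ∀ Y : Subgroup G, Y ≤ E → Nat.card Y = s →
      Cfsg.sigmaCore M ⊓ centralizer (Y : Set G) ≠ ⊥ → Cfsg.tau2 M = ∅

variable {G : Type*} [Group G] [Finite G]

/-- the configuration of the crux: `τ₂(M) = ∅`, `Y ≤ E` of order `s ∈ τ₃(M)`, `C_{M_σ}(Y) ≠ 1`. -/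
structure Cfg (M E Y : Subgroup G) (s : ℕ) : Prop where
  hM : IsCoatom M
  hE : Cfsg.IsComplIn E (Cfsg.sigmaCore M) M
  h2 : Cfsg.tau2 M = ∅
  hs : s ∈ Cfsg.tau3 M
  hYE : Y ≤ E
  hY : Nat.card Y = s
  hC : Cfsg.sigmaCore M ⊓ centralizer (Y : Set G) ≠ ⊥

/-- `E = E₃ ⋊ E₁` when `τ₂(M) = ∅`. -/
structure EStruct (M E E1 E3 : Subgroup G) : Prop where
  hE1 : Cfsg.IsPiHallOf (Cfsg.tau1 M) E1 E
  hE3 : Cfsg.IsPiHallOf (Cfsg.tau3 M) E3 E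
  cyc1 : IsCyclic E1
  cyc3 : IsCyclic E3
  norm3 : E ≤ normalizer (E3 : Set G)
  le_comm : E3 ≤ ⁅E, E⁆
  fact : ∀ e ∈ E, ∃ a ∈ E3, ∃ b ∈ E1, e = a * b
  disj : E3 ⊓ E1 = ⊥
  fpf : E3 ⊓ centralizer (E1 : Set G) = ⊥

/-- the `H`-side: `H` a maximal subgroup over `N_G(Y)`. -/
structure HSide (M E Y H : Subgroup G) (s : ℕ) : Prop where
  hH : IsCoatom H
  hNH : normalizer (Y : Set G) ≤ H
  hYσ : Y ≤ Cfsg.sigmaCore H
  hsH : s ∈ Cfsg.sigma H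
  hnc : ∀ g : G, H ≠ M.map (MulAut.conj g).toMonoidHom
  hdisj : ∀ p : ℕ, p ∈ Cfsg.sigma M → p ∉ Cfsg.sigma H
  hEH : E ≤ H
  hMsH : Cfsg.sigmaCore M ⊓ H = Cfsg.sigmaCore M ⊓ centralizer (Y : Set G)
  hMH : M ⊓ H = (Cfsg.sigmaCore M ⊓ centralizer (Y : Set G)) ⊔ E

end Cfsg.Agent.Helper67.BGCrux
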