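import Mathlib
import Cfsg.Agent.Lib.Helper67.BGCruxDefs
import Cfsg.Agent.Lib.Helper76.EqOrd1
import Cfsg.Agent.Lib.Helper23.FittingHall

/-!
# The CRUX (L8) of S1430/S1431 = B-G 13.11(c): assembly (helper67)

`crux` : from `Rows G`, `Inputs G` and the packages `Pkgs G` (C1-C9 + (L2)), for a configuration `Cfg M E Y s`
every non-identity element of `E` has the same fixed points on `M_σ` as `E`.
-/

set_option autoImplicit false
set_option linter.unusedVariables false
set_option linter.unusedSectionVars false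

namespace Cfsg.Agent.Helper67.BGCrux

open Subgroup Cfsg
open Cfsg.Agent.Helper52 (sylCard)
open scoped Pointwise

variable {G : Type*} [Group G] [Finite G]

/-- the packages of the lemma server, with `hG rows inp` already applied. -/
structure Pkgs (G : Type*) [Group G] [Finite G] : Prop where
  c1 : ∀ {M E : Subgroup G}, IsCoatom M → IsComplIn E (sigmaCore M) M → tau2 M = ∅ →
    ∃ E1 E3 : Subgroup G, EStruct M E E1 E3
  c2 : ∀ {M E Y H : Subgroup G} {s : ℕ}, Cfg M E Y s → E ≤ normalizer (Y : Set G) → IsCoatom H →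
    normalizer (Y : Set G) ≤ H → HSide M E Y H s
  c3 : ∀ {M E Y H : Subgroup G} {s : ℕ}, Cfg M E Y s → HSide M E Y H s → ∀ {q : ℕ}, q.Prime →
    q ∣ Nat.card ↥(sigmaCore M ⊓ centralizer (Y : Set G)) →
    q ∈ kappa H ∧ ∀ Q : Subgroup G, Q ≤ sigmaCore M ⊓ centralizer (Y : Set G) → IsPGroup q Q → IsCyclic Q
  c4 : ∀ {M E Y H : Subgroup G} {s : ℕ}, Cfg M E Y s → HSide M E Y H s → ∀ {t : ℕ} [Fact t.Prime]
    {T : Subgroup G}, IsPGroup t T → T ≤ E → t ∉ tau1 H →
    T ≤ centralizer ((sigmaCore M ⊓ centralizer (Y : Set G) : Subgroup G) : Set G)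
  c6 : ∀ {M E Y H E1 E3 : Subgroup G} {s : ℕ}, Cfg M E Y s → EStruct M E E1 E3 → HSide M E Y H s →
    E ≤ normalizer (Y : Set G) → Y ≤ E3 →
    (∀ x ∈ E1, x ≠ 1 → sigmaCore M ⊓ centralizer ({x} : Set G) = sigmaCore M ⊓ centralizer (E1 : Set G)) →
    (∀ q : ℕ, q.Prime → q ∣ Nat.card ↥(sigmaCore M ⊓ centralizer (Y : Set G)) →
      q ∈ kappa H ∧ ∀ Q : Subgroup G, Q ≤ sigmaCore M ⊓ centralizer (Y : Set G) → IsPGroup q Q → IsCyclic Q) →
    (∀ (t : ℕ) [Fact t.Prime] (T : Subgroup G), IsPGroup t T → T ≤ E → t ∉ tau1 H →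
      T ≤ centralizer ((sigmaCore M ⊓ centralizer (Y : Set G) : Subgroup G) : Set G)) →
    E1 ≤ centralizer ((sigmaCore M ⊓ centralizer (Y : Set G) : Subgroup G) : Set G)
  c7 : ∀ {M E Y H E1 E3 : Subgroup G} {s : ℕ}, Cfg M E Y s → EStruct M E E1 E3 → HSide M E Y H s →
    E ≤ normalizer (Y : Set G) → Y ≤ E3 →
    (∀ q : ℕ, q.Prime → q ∣ Nat.card ↥(sigmaCore M ⊓ centralizer (Y : Set G)) →
      q ∈ kappa H ∧ ∀ Q : Subgroup G, Q ≤ sigmaCore M ⊓ centralizer (Y : Set G) → IsPGroup q Q → IsCyclic Q) →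
    E ≤ centralizer ((sigmaCore M ⊓ centralizer (Y : Set G) : Subgroup G) : Set G) →
    (∀ M' E' : Subgroup G, IsCoatom M' → IsComplIn E' (sigmaCore M') M' → tau2 M' = ∅ →
      ∃ F1 F3 : Subgroup G, EStruct M' E' F1 F3) →
    (∀ {p q r : ℕ}, p.Prime → q.Prime → r.Prime → p ≠ 2 → q ≠ 2 → p ≠ q → p ≠ r → q ≠ r →
      ∀ (S K : Subgroup G) (x : G), IsPGroup p S → IsPGroup q K → (∀ a ∈ K, ∀ b ∈ K, a * b = b * a) →
      K ≤ normalizer (S : Set G) → x ∈ normalizer (S : Set G) → x ∈ normalizer (K : Set G) → x ^ r = 1 →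
      (∀ u ∈ K, x * u = u * x → u = 1) → S ⊓ centralizer ({x} : Set G) ≤ centralizer (K : Set G) →
      S ≤ centralizer (K : Set G)) →
    sigmaCore M ⊓ centralizer (E1 : Set G) ≤ sigmaCore M ⊓ centralizer (Y : Set G)
  c9 : ∀ {p q r : ℕ}, p.Prime → q.Prime → r.Prime → p ≠ 2 → q ≠ 2 → p ≠ q → p ≠ r → q ≠ r →
      ∀ (S K : Subgroup G) (x : G), IsPGroup p S → IsPGroup q K → (∀ a ∈ K, ∀ b ∈ K, a * b = b * a) →
      K ≤ normalizer (S : Set G) → x ∈ normalizer (S : Set G) → x ∈ normalizer (K : Set G) → x ^ r = 1 →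
      (∀ u ∈ K, x * u = u * x → u = 1) → S ⊓ centralizer ({x} : Set G) ≤ centralizer (K : Set G) →
      S ≤ centralizer (K : Set G)
  /-- (L2) = (R7) `Helper68.BG139Req.prime_action_tau1` -/
  l2 : ∀ (M : Subgroup G), IsCoatom M → ∀ E : Subgroup G, IsComplIn E (sigmaCore M) M →
    ∀ E1 : Subgroup G, IsPiHallOf (tau1 M) E1 E → ∀ x ∈ E1, x ≠ 1 →
      sigmaCore M ⊓ centralizer ({x} : Set G) ≤ sigmaCore M ⊓ centralizer (E1 : Set G)


/-! ### small tools -/

theorem sigmaCore_le' (M : Subgroup G) : sigmaCore M ≤ M := by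
  unfold sigmaCore
  exact map_subtype_le _

theorem le_normalizer_of_conj_mem {A K : Subgroup G} (h : ∀ a ∈ A, ∀ k ∈ K, a * k * a⁻¹ ∈ K) :
    A ≤ normalizer (K : Set G) := by
  intro a ha
  rw [mem_normalizer_iff]
  intro k
  constructor
  · exact h a ha k
  · intro hk
    have := h a⁻¹ (inv_mem ha) _ hk
    simpa [mul_assoc] using this

theorem conj_mem_sigmaCore {M : Subgroup G} {m x : G} (hm : m ∈ M) (hx : x ∈ sigmaCore M) :
    m * x * m⁻¹ ∈ sigmaCore M := by
  unfold sigmaCore at hx ⊢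
  obtain ⟨y, hy, rfl⟩ := hx
  refine ⟨(⟨m, hm⟩ : M) * y * (⟨m, hm⟩ : M)⁻¹, ?_, rfl⟩
  exact (piCore_normal (sigma M) M).conj_mem y hy ⟨m, hm⟩

theorem le_normalizer_sigmaCore' (M : Subgroup G) : M ≤ normalizer (sigmaCore M : Set G) :=
  le_normalizer_of_conj_mem (fun _ hm _ hx => conj_mem_sigmaCore hm hx)

/-- a normal subgroup contains every element whose order is coprime to its index. -/
theorem mem_of_coprime_index' {X : Type*} [Group X] (N : Subgroup X) [N.Normal] {x : X}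
    (h : (N.index).Coprime (orderOf x)) : x ∈ N := by
  obtain ⟨m, hm⟩ := exists_pow_eq_self_of_coprime h
  rw [← hm]
  exact pow_mem (N.pow_index_mem x) m

/-- `N` normalized by `E`, `x ∈ E` of order coprime to `[E:N]`: `x ∈ N`. -/
theorem mem_of_coprime_relIndex {N E : Subgroup G} (hNE : N ≤ E) (hn : E ≤ normalizer (N : Set G))
    {x : G} (hx : x ∈ E) (h : (N.relIndex E).Coprime (orderOf x)) : x ∈ N := by
  have : (N.subgroupOf E).Normal := (Subgroup.normal_subgroupOf_iff_le_normalizer hNE).mpr hn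
  have h1 : ((N.subgroupOf E).index).Coprime (orderOf (⟨x, hx⟩ : E)) := by
    rw [Subgroup.orderOf_mk]; exact h
  exact mem_of_coprime_index' (N.subgroupOf E) h1

/-- `K ≤ H` as soon as `H` contains a subgroup of `K` of order the full `r`-part, for every prime `r`. -/
theorem le_of_forall_sylow_le' {K H : Subgroup G}
    (h : ∀ r : ℕ, r.Prime → r ∣ Nat.card K → ∃ T : Subgroup G, T ≤ K ∧
      Nat.card T = r ^ (Nat.card K).factorization r ∧ T ≤ H) : K ≤ H := by
  have hdvd : Nat.card K ∣ Nat.card (K ⊓ H : Subgroup G) := by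
    rw [← Nat.factorization_le_iff_dvd Nat.card_pos.ne' Nat.card_pos.ne', Finsupp.le_def]
    intro r
    by_cases hr : r.Prime
    · by_cases hrK : r ∣ Nat.card K
      · obtain ⟨T, hTK, hTc, hTH⟩ := h r hr hrK
        have h1 : r ^ (Nat.card K).factorization r ∣ Nat.card (K ⊓ H : Subgroup G) := by
          rw [← hTc]; exact Subgroup.card_dvd_of_le (le_inf hTK hTH)
        exact (hr.pow_dvd_iff_le_factorization Nat.card_pos.ne').mp h1
      · rw [Nat.factorization_eq_zero_of_not_dvd hrK]; exact Nat.zero_le _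
    · rw [Nat.factorization_eq_zero_of_not_prime _ hr]; exact Nat.zero_le _
  have hle : Nat.card K ≤ Nat.card (K ⊓ H : Subgroup G) := Nat.le_of_dvd Nat.card_pos hdvd
  have h2 : (K ⊓ H : Subgroup G) = K := Subgroup.eq_of_le_of_card_ge inf_le_left hle
  rw [← h2]; exact inf_le_right

/-- an element of prime order `p` of `E` is `E`-conjugate into a subgroup `E1` of `p'`-index. -/
theorem exists_conj_mem_of_not_dvd_relIndex {E E1 : Subgroup G} {p : ℕ} [hp : Fact p.Prime]
    (hE1E : E1 ≤ E) (hnd : ¬ p ∣ E1.relIndex E) {x : G} (hxE : x ∈ E) (hx : orderOf x = p) :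
    ∃ l ∈ E, l * x * l⁻¹ ∈ E1 := by
  classical
  -- a Sylow p-subgroup of ↥E inside E1
  obtain Q : Sylow p ↥(E1.subgroupOf E) := default
  have hQ'p : IsPGroup p ((Q : Subgroup ↥(E1.subgroupOf E)).map (E1.subgroupOf E).subtype) :=
    Q.isPGroup'.map _
  have hidx : ¬ p ∣ ((Q : Subgroup ↥(E1.subgroupOf E)).map (E1.subgroupOf E).subtype).index := by
    rw [Subgroup.index_map_subtype]
    intro hd
    rcases (Nat.Prime.dvd_mul hp.out).mp hd with h | h
    · exact Q.not_dvd_index h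
    · exact hnd h
  let Q'' : Sylow p ↥E := hQ'p.toSylow hidx
  have hxp : IsPGroup p (Subgroup.zpowers (⟨x, hxE⟩ : E)) := by
    apply IsPGroup.of_card (n := 1)
    rw [Nat.card_zpowers, pow_one, Subgroup.orderOf_mk]; exact hx
  obtain ⟨P, hP⟩ := hxp.exists_le_sylow
  obtain ⟨g, hg⟩ := MulAction.exists_smul_eq (↥E) P Q''
  refine ⟨(g : G), g.2, ?_⟩
  have h1 : (⟨x, hxE⟩ : E) ∈ (P : Subgroup E) := hP (Subgroup.mem_zpowers _)
  have h2 : MulAut.conj g • (⟨x, hxE⟩ : E) ∈ MulAut.conj g • (P : Subgroup E) :=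
    Subgroup.smul_mem_pointwise_smul _ _ _ h1
  have h3 : (MulAut.conj g • (P : Subgroup E)) = ((g • P : Sylow p E) : Subgroup E) :=
    (Sylow.pointwise_smul_def).symm
  rw [h3, hg] at h2
  have h4 : MulAut.conj g • (⟨x, hxE⟩ : E) ∈
      (Q : Subgroup ↥(E1.subgroupOf E)).map (E1.subgroupOf E).subtype := h2
  obtain ⟨y, _, hy⟩ := h4
  have h5 : ((MulAut.conj g • (⟨x, hxE⟩ : E) : E) : G) = (g : G) * x * (g : G)⁻¹ := by
    simp [MulAut.smul_def]
  rw [← h5, ← hy]
  exact y.2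


/-! ### the configuration -/

theorem Y_le_E3 {M E E1 E3 Y : Subgroup G} {s : ℕ} (cfg : Cfg M E Y s)
    (es : EStruct M E E1 E3) : Y ≤ E3 := by
  intro y hy
  have hsp : s.Prime := cfg.hs.1
  have hnd : ¬ s ∣ E3.relIndex E := es.hE3.2.2 s hsp cfg.hs
  have hoy : orderOf y ∣ s := by
    have : orderOf (⟨y, hy⟩ : Y) ∣ Nat.card Y := orderOf_dvd_natCard _
    rw [Subgroup.orderOf_mk, cfg.hY] at this
    exact this
  apply mem_of_coprime_relIndex es.hE3.1 es.norm3 (cfg.hYE hy)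
  exact Nat.Coprime.coprime_dvd_right hoy ((Nat.Prime.coprime_iff_not_dvd hsp).mpr hnd).symm

theorem E_le_normalizer_Y {M E E1 E3 Y : Subgroup G} {s : ℕ} (cfg : Cfg M E Y s)
    (es : EStruct M E E1 E3) : E ≤ normalizer (Y : Set G) := by
  have hYE3 := Y_le_E3 cfg es
  apply le_normalizer_of_conj_mem
  intro e he y hy
  haveI : IsCyclic ↥E3 := es.cyc3
  have hle : Y.map (MulAut.conj e).toMonoidHom ≤ E3 := by
    rintro _ ⟨z, hz, rfl⟩
    exact (mem_normalizer_iff.mp (es.norm3 he) z).mp (hYE3 hz)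
  have hcard : Nat.card (Y.map (MulAut.conj e).toMonoidHom) = Nat.card Y :=
    Subgroup.card_map_of_injective (MulAut.conj e).injective
  have heq := Cfsg.Agent.Helper76.EqOrd.eq_of_card_eq_of_le_isCyclic E3 _ Y hle hYE3 hcard
  rw [← heq]
  exact ⟨y, hy, rfl⟩

theorem exists_coatom_ge_normalizer (hG : IsMinSimpleOddOrder G) {M Y : Subgroup G}
    (hM : IsCoatom M) (hYM : Y ≤ M) (hY1 : Y ≠ ⊥) :
    ∃ H : Subgroup G, IsCoatom H ∧ normalizer (Y : Set G) ≤ H := by
  have hne : normalizer (Y : Set G) ≠ ⊤ := by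
    intro htop
    have hn : Y.Normal := Subgroup.normalizer_eq_top_iff.mp htop
    haveI := hG.2.1
    rcases hn.eq_bot_or_eq_top with h | h
    · exact hY1 h
    · rw [h] at hYM
      exact hM.1 (top_le_iff.mp hYM)
  exact (eq_top_or_exists_le_coatom _).resolve_left hne

theorem Y_ne_bot {M E Y : Subgroup G} {s : ℕ} (cfg : Cfg M E Y s) : Y ≠ ⊥ := by
  intro h
  have := cfg.hY
  rw [h, Subgroup.card_bot] at this
  exact cfg.hs.1.one_lt.ne this

theorem E_le_M {M E Y : Subgroup G} {s : ℕ} (cfg : Cfg M E Y s) : E ≤ M := cfg.hE.1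

/-- **(C5a)** `E₃` centralizes `C = C_{M_σ}(Y)`. -/
theorem E3_le_centralizer (hG : IsMinSimpleOddOrder G) (pk : Pkgs G) {M E E1 E3 Y : Subgroup G}
    {s : ℕ} (cfg : Cfg M E Y s) (es : EStruct M E E1 E3) :
    E3 ≤ centralizer ((sigmaCore M ⊓ centralizer (Y : Set G) : Subgroup G) : Set G) := by
  have hEY := E_le_normalizer_Y cfg es
  obtain ⟨H, hH, hNH⟩ := exists_coatom_ge_normalizer hG cfg.hM (cfg.hYE.trans (E_le_M cfg)) (Y_ne_bot cfg)
  have hs := pk.c2 cfg hEY hH hNH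
  apply le_of_forall_sylow_le'
  intro r hr hrd
  haveI : Fact r.Prime := ⟨hr⟩
  obtain P : Sylow r ↥E3 := default
  refine ⟨(P : Subgroup ↥E3).map E3.subtype, map_subtype_le _, ?_, ?_⟩
  · exact Cfsg.Agent.Helper52.card_sylow_map r E3 P
  · have hTp : IsPGroup r ((P : Subgroup ↥E3).map E3.subtype) := P.isPGroup'.map _
    have hTE : (P : Subgroup ↥E3).map E3.subtype ≤ E := (map_subtype_le _).trans es.hE3.1
    apply pk.c4 cfg hs hTp hTE
    intro ht1
    apply ht1.2.2.2.1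
    have hTc : (P : Subgroup ↥E3).map E3.subtype ≤ ⁅H, H⁆ :=
      ((map_subtype_le _).trans es.le_comm).trans (Subgroup.commutator_mono hs.hEH hs.hEH)
    have hcard : Nat.card ((P : Subgroup ↥E3).map E3.subtype) = r ^ (Nat.card E3).factorization r :=
      Cfsg.Agent.Helper52.card_sylow_map r E3 P
    have hpos : 0 < (Nat.card E3).factorization r :=
      hr.factorization_pos_of_dvd Nat.card_pos.ne' hrd
    have hrT : r ∣ Nat.card ((P : Subgroup ↥E3).map E3.subtype) := by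
      rw [hcard]; exact dvd_pow_self r hpos.ne'
    exact dvd_trans hrT (Subgroup.card_dvd_of_le hTc)


theorem commute_zpowers_of_commute {x y : G} (h : x * y = y * x) :
    ∀ z ∈ Subgroup.zpowers y, x * z = z * x := by
  intro z hz
  obtain ⟨k, rfl⟩ := Subgroup.mem_zpowers_iff.mp hz
  exact ((Commute.zpow_right (show Commute x y from h) k)).eq

/-- **(C5b)** `C_{M_σ}(y) = C` for every `y ∈ E₃ \ 1`. -/
theorem cent_E3_elt (hG : IsMinSimpleOddOrder G) (pk : Pkgs G) {M E E1 E3 Y : Subgroup G}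
    {s : ℕ} (cfg : Cfg M E Y s) (es : EStruct M E E1 E3) :
    ∀ y ∈ E3, y ≠ 1 → sigmaCore M ⊓ centralizer ({y} : Set G) =
      sigmaCore M ⊓ centralizer (Y : Set G) := by
  intro y hy hy1
  have hE3C := E3_le_centralizer hG pk cfg es
  have hYE3 := Y_le_E3 cfg es
  apply le_antisymm
  · -- take a prime-order power of y
    have hoy : orderOf y ≠ 1 := fun h => hy1 (orderOf_eq_one_iff.mp h)
    obtain ⟨s', hs', hs'd⟩ := Nat.exists_prime_and_dvd hoy
    haveI : Fact s'.Prime := ⟨hs'⟩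
    set y' : G := y ^ (orderOf y / s') with hy'
    have hoy' : orderOf y' = s' := by
      rw [hy']
      exact orderOf_pow_orderOf_div (orderOf_pos y).ne' hs'd
    have hy'E3 : y' ∈ E3 := pow_mem hy _
    have hY'E3 : Subgroup.zpowers y' ≤ E3 := by
      rw [Subgroup.zpowers_le]; exact hy'E3
    have hcardY' : Nat.card (Subgroup.zpowers y') = s' := by
      rw [Nat.card_zpowers, hoy']
    have hs'3 : s' ∈ tau3 M := by
      apply es.hE3.2.1 s' hs'
      rw [← hcardY']
      exact Subgroup.card_dvd_of_le hY'E3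
    have hCle : sigmaCore M ⊓ centralizer (Y : Set G) ≤
        sigmaCore M ⊓ centralizer ((Subgroup.zpowers y' : Subgroup G) : Set G) := by
      intro c hc
      refine Subgroup.mem_inf.mpr ⟨(Subgroup.mem_inf.mp hc).1, ?_⟩
      rw [mem_centralizer_iff]
      intro z hz
      have := mem_centralizer_iff.mp (hE3C (hY'E3 hz)) c hc
      exact this.symm
    have cfg' : Cfg M E (Subgroup.zpowers y') s' :=
      { hM := cfg.hM, hE := cfg.hE, h2 := cfg.h2, hs := hs'3,
        hYE := hY'E3.trans es.hE3.1, hY := hcardY',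
        hC := fun h => cfg.hC (le_bot_iff.mp (h ▸ hCle)) }
    have hE3C' := E3_le_centralizer hG pk cfg' es
    intro x hx
    obtain ⟨hx1, hx2⟩ := Subgroup.mem_inf.mp hx
    have hxy' : x * y = y * x := mem_centralizer_singleton_iff.mp hx2
    have hxC' : x ∈ sigmaCore M ⊓ centralizer ((Subgroup.zpowers y' : Subgroup G) : Set G) := by
      refine Subgroup.mem_inf.mpr ⟨hx1, ?_⟩
      rw [mem_centralizer_iff]
      intro z hz
      have hz' : z ∈ Subgroup.zpowers y := by
        obtain ⟨k, rfl⟩ := Subgroup.mem_zpowers_iff.mp hz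
        rw [hy', ← zpow_natCast, ← zpow_mul]
        exact Subgroup.zpow_mem_zpowers y _
      exact (commute_zpowers_of_commute hxy' z hz').symm
    refine Subgroup.mem_inf.mpr ⟨hx1, ?_⟩
    rw [mem_centralizer_iff]
    intro z hz
    have := mem_centralizer_iff.mp (hE3C' (hYE3 hz)) x hxC'
    exact this.symm
  · intro c hc
    refine Subgroup.mem_inf.mpr ⟨(Subgroup.mem_inf.mp hc).1, ?_⟩
    rw [mem_centralizer_singleton_iff]
    have := mem_centralizer_iff.mp (hE3C hy) c hc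
    exact this


/-- **CRUX (L8)** = B-G 13.11(c): in the configuration `Cfg M E Y s` every non-identity element of `E`
has the same fixed points on `M_σ` as `E` itself. -/
theorem crux (hG : IsMinSimpleOddOrder G) (pk : Pkgs G) {M E Y : Subgroup G} {s : ℕ}
    (cfg : Cfg M E Y s) :
    ∀ e ∈ E, e ≠ 1 → sigmaCore M ⊓ centralizer ({e} : Set G) =
      sigmaCore M ⊓ centralizer (E : Set G) := by
  obtain ⟨E1, E3, es⟩ := pk.c1 cfg.hM cfg.hE cfg.h2
  have hYE3 := Y_le_E3 cfg es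
  have hEY := E_le_normalizer_Y cfg es
  have hEM : E ≤ M := E_le_M cfg
  obtain ⟨H, hH, hNH⟩ :=
    exists_coatom_ge_normalizer hG cfg.hM (cfg.hYE.trans hEM) (Y_ne_bot cfg)
  have hs := pk.c2 cfg hEY hH hNH
  have f3 : ∀ q : ℕ, q.Prime → q ∣ Nat.card ↥(sigmaCore M ⊓ centralizer (Y : Set G)) →
      q ∈ kappa H ∧ ∀ Q : Subgroup G, Q ≤ sigmaCore M ⊓ centralizer (Y : Set G) → IsPGroup q Q →
        IsCyclic Q := fun q hq hqC => pk.c3 cfg hs hq hqC
  have f4 : ∀ (t : ℕ) [Fact t.Prime] (T : Subgroup G), IsPGroup t T → T ≤ E → t ∉ tau1 H →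
      T ≤ centralizer ((sigmaCore M ⊓ centralizer (Y : Set G) : Subgroup G) : Set G) :=
    fun t _ T hT hTE ht => pk.c4 cfg hs hT hTE ht
  have f2 : ∀ x ∈ E1, x ≠ 1 → sigmaCore M ⊓ centralizer ({x} : Set G) =
      sigmaCore M ⊓ centralizer (E1 : Set G) := by
    intro x hx hx1
    apply le_antisymm (pk.l2 M cfg.hM E cfg.hE E1 es.hE1 x hx hx1)
    apply inf_le_inf_left
    apply Subgroup.centralizer_le
    intro z hz
    rw [Set.mem_singleton_iff] at hz
    rw [hz]; exact hx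
  have hA1 := pk.c6 cfg es hs hEY hYE3 f2 f3 f4
  have hA3 := E3_le_centralizer hG pk cfg es
  have hA : E ≤ centralizer ((sigmaCore M ⊓ centralizer (Y : Set G) : Subgroup G) : Set G) := by
    intro e he
    obtain ⟨a, ha, b, hb, rfl⟩ := es.fact e he
    exact mul_mem (hA3 ha) (hA1 hb)
  have hB := pk.c7 cfg es hs hEY hYE3 f3 hA (fun M' E' h1 h2 h3 => pk.c1 h1 h2 h3) pk.c9
  -- C(E) = C
  have hCE : sigmaCore M ⊓ centralizer (E : Set G) = sigmaCore M ⊓ centralizer (Y : Set G) := by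
    apply le_antisymm
    · exact inf_le_inf_left _ (Subgroup.centralizer_le cfg.hYE)
    · intro c hc
      refine Subgroup.mem_inf.mpr ⟨(Subgroup.mem_inf.mp hc).1, ?_⟩
      rw [mem_centralizer_iff]
      intro e he
      exact (mem_centralizer_iff.mp (hA he) c hc).symm
  have f5 := cent_E3_elt hG pk cfg es
  have hcard : Nat.card E = Nat.card E3 * Nat.card E1 :=
    Cfsg.Agent.Helper23.card_of_isComplIn (A := E3) (B := E1) (M := E)
      ⟨es.hE3.1, es.hE1.1, es.disj, es.fact⟩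
  intro e he he1
  rw [hCE]
  apply le_antisymm
  · intro x hx
    obtain ⟨hx1, hx2⟩ := Subgroup.mem_inf.mp hx
    have hxe : x * e = e * x := mem_centralizer_singleton_iff.mp hx2
    have hoe : orderOf e ≠ 1 := fun h => he1 (orderOf_eq_one_iff.mp h)
    obtain ⟨p, hp, hpd⟩ := Nat.exists_prime_and_dvd hoe
    haveI : Fact p.Prime := ⟨hp⟩
    set e' : G := e ^ (orderOf e / p) with he'
    have hoe' : orderOf e' = p := by
      rw [he']; exact orderOf_pow_orderOf_div (orderOf_pos e).ne' hpd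
    have he'E : e' ∈ E := pow_mem he _
    have he'1 : e' ≠ 1 := by
      intro h; rw [h, orderOf_one] at hoe'; exact hp.one_lt.ne hoe'
    have hxe' : x * e' = e' * x := by
      rw [he']; exact (Commute.pow_right (show Commute x e from hxe) _).eq
    have hxCe' : x ∈ sigmaCore M ⊓ centralizer ({e'} : Set G) :=
      Subgroup.mem_inf.mpr ⟨hx1, mem_centralizer_singleton_iff.mpr hxe'⟩
    have hpE : p ∣ Nat.card E := by
      have : orderOf (⟨e', he'E⟩ : E) ∣ Nat.card E := orderOf_dvd_natCard _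
      rw [Subgroup.orderOf_mk, hoe'] at this
      exact this
    rw [hcard] at hpE
    rcases (Nat.Prime.dvd_mul hp).mp hpE with h3 | h1
    · -- p ∈ τ3: e' ∈ E3
      have hp3 : p ∈ tau3 M := es.hE3.2.1 p hp h3
      have hnd : ¬ p ∣ E3.relIndex E := es.hE3.2.2 p hp hp3
      have he'E3 : e' ∈ E3 := by
        apply mem_of_coprime_relIndex es.hE3.1 es.norm3 he'E
        rw [hoe']
        exact ((Nat.Prime.coprime_iff_not_dvd hp).mpr hnd).symm
      rw [← f5 e' he'E3 he'1]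
      exact hxCe'
    · -- p ∈ τ1: conjugate e' into E1
      have hp1 : p ∈ tau1 M := es.hE1.2.1 p hp h1
      have hnd : ¬ p ∣ E1.relIndex E := es.hE1.2.2 p hp hp1
      obtain ⟨l, hl, hle⟩ := exists_conj_mem_of_not_dvd_relIndex es.hE1.1 hnd he'E hoe'
      have hle1 : l * e' * l⁻¹ ≠ 1 := by
        intro h
        apply he'1
        have : e' = l⁻¹ * (l * e' * l⁻¹) * l := by group
        rw [this, h]; group
      have hlx : l * x * l⁻¹ ∈ sigmaCore M ⊓ centralizer ({l * e' * l⁻¹} : Set G) := by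
        refine Subgroup.mem_inf.mpr ⟨conj_mem_sigmaCore (hEM hl) hx1, ?_⟩
        rw [mem_centralizer_singleton_iff]
        calc l * x * l⁻¹ * (l * e' * l⁻¹) = l * (x * e') * l⁻¹ := by group
          _ = l * (e' * x) * l⁻¹ := by rw [hxe']
          _ = l * e' * l⁻¹ * (l * x * l⁻¹) := by group
      rw [f2 _ hle hle1] at hlx
      have hlxC := hB hlx
      -- l centralizes C
      have hcomm : l * (l * x * l⁻¹) = (l * x * l⁻¹) * l :=
        (mem_centralizer_iff.mp (hA hl) _ hlxC).symm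
      have hxeq : x = l * x * l⁻¹ := by
        have h1 : l * x = l * x * l⁻¹ * l := by group
        have h2 : l * x = l * (l * x * l⁻¹) := by rw [hcomm]; exact h1
        exact mul_left_cancel h2
      rw [hxeq]; exact hlxC
  · rw [← hCE]
    apply inf_le_inf_left
    apply Subgroup.centralizer_le
    intro z hz
    rw [Set.mem_singleton_iff] at hz
    rw [hz]; exact he


/-- `crux` in the shape of (Q9) of tools/bg142_sigs_helper54 (`semiprime_of_tau3_fixed`). -/
theorem semiprime_of_tau3_fixed (hG : IsMinSimpleOddOrder G) (pk : Pkgs G) (M : Subgroup G)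
    (hM : IsCoatom M) (E : Subgroup G) (hE : IsComplIn E (sigmaCore M) M)
    (h2 : tau2 M = ∅) (s : ℕ) (hs : s ∈ tau3 M) (Y : Subgroup G) (hYE : Y ≤ E)
    (hY : Nat.card Y = s) (hC : sigmaCore M ⊓ centralizer (Y : Set G) ≠ ⊥) :
    ∀ e ∈ E, e ≠ 1 → sigmaCore M ⊓ centralizer ({e} : Set G) =
      sigmaCore M ⊓ centralizer (E : Set G) :=
  crux hG pk ⟨hM, hE, h2, hs, hYE, hY, hC⟩

end Cfsg.Agent.Helper67.BGCrux
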