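import Mathlib
import Cfsg.Agent.Lib.Helper2.SR0
import Cfsg.Agent.Lib.Helper79.SRC1
import Cfsg.Agent.Lib.Helper79.SRC2

/-!
# SR server (helper2, S2281): piece (C13) `exists_g_ge3`, by helper67.
`g = [[1, Z], [0, 1]]`, `Z = -c (E_11 - E_02 - E_20)`, `P Z Pᵀ - Z = -c E_00`.
-/

set_option autoImplicit false

namespace Cfsg.Agent.Helper67.SR

open Matrix Cfsg Cfsg.Agent.Helper13 Cfsg.Agent.Helper84.SpRoot Cfsg.Agent.Helper5.SpAut
open Cfsg.Agent.Helper2.SR

section C
variable {F : Type*} [Field F] {m : ℕ}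

/-- left multiplication by the upper shift moves rows up -/
theorem h67_Nm_mul_apply (M : Matrix (Fin (m + 2)) (Fin (m + 2)) F) (i j : Fin (m + 2)) :
    (Nm m F * M) i j = if h : i.val + 1 < m + 2 then M ⟨i.val + 1, h⟩ j else 0 := by
  rw [Matrix.mul_apply]
  split_ifs with h
  · rw [Finset.sum_eq_single (⟨i.val + 1, h⟩ : Fin (m + 2))]
    · simp [Nm]
    · intro k _ hk
      have : ¬ (i.val + 1 = k.val) := by
        intro h'
        apply hk
        apply Fin.ext
        simp [h']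
      simp [Nm, this]
    · intro h'
      exact absurd (Finset.mem_univ _) h'
  · apply Finset.sum_eq_zero
    intro k _
    have : ¬ (i.val + 1 = k.val) := by
      have := k.isLt
      omega
    simp [Nm, this]

/-- right multiplication by the transposed upper shift moves columns left -/
theorem h67_mul_NmT_apply (M : Matrix (Fin (m + 2)) (Fin (m + 2)) F) (i j : Fin (m + 2)) :
    (M * (Nm m F)ᵀ) i j = if h : j.val + 1 < m + 2 then M i ⟨j.val + 1, h⟩ else 0 := by
  rw [Matrix.mul_apply]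
  split_ifs with h
  · rw [Finset.sum_eq_single (⟨j.val + 1, h⟩ : Fin (m + 2))]
    · simp [Nm]
    · intro k _ hk
      have : ¬ (j.val + 1 = k.val) := by
        intro h'
        apply hk
        apply Fin.ext
        simp [h']
      simp [Nm, this]
    · intro h'
      exact absurd (Finset.mem_univ _) h'
  · apply Finset.sum_eq_zero
    intro k _
    have : ¬ (j.val + 1 = k.val) := by
      have := k.isLt
      omega
    simp [Nm, this]

/-- the entries of `Z` as a function of the row / column numbers -/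
def h67_z (c : F) (a b : ℕ) : F :=
  if a = 1 ∧ b = 1 then -c else if (a = 0 ∧ b = 2) ∨ (a = 2 ∧ b = 0) then c else 0

/-- `Z = -c (E_11 - E_02 - E_20)` -/
def h67_Zm (c : F) : Matrix (Fin (m + 2)) (Fin (m + 2)) F :=
  Matrix.of fun i j => h67_z c i.val j.val

/-- `c E_00` -/
def h67_E00 (c : F) : Matrix (Fin (m + 2)) (Fin (m + 2)) F :=
  Matrix.of fun i j => if i = 0 ∧ j = 0 then c else 0

theorem h67_z_big (c : F) (a b : ℕ) (h : 3 ≤ a ∨ 3 ≤ b) : h67_z c a b = 0 := by
  unfold h67_z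
  rw [if_neg (by omega), if_neg (by omega)]

theorem h67_z_symm (c : F) (a b : ℕ) : h67_z c a b = h67_z c b a := by
  unfold h67_z
  split_ifs <;> first | rfl | (exfalso; omega)

theorem h67_z_rule (c : F) (a b : ℕ) :
    h67_z c (a + 1) b + h67_z c a (b + 1) + h67_z c (a + 1) (b + 1) =
      if a = 0 ∧ b = 0 then -c else 0 := by
  unfold h67_z
  rcases a with _ | _ | _ | a <;> rcases b with _ | _ | _ | b <;> simp

theorem h67_Zm_transpose (c : F) : (h67_Zm (m := m) c)ᵀ = h67_Zm c := by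
  ext i j
  simp only [h67_Zm, Matrix.transpose_apply, Matrix.of_apply]
  exact h67_z_symm c _ _

/-- `P Z Pᵀ = Z - c E_00` -/
theorem h67_PZP (hm : 1 ≤ m) (c : F) :
    Pm m F * h67_Zm c * (Pm m F)ᵀ = h67_Zm c - h67_E00 c := by
  have e1 : Pm m F * h67_Zm c * (Pm m F)ᵀ =
      h67_Zm c + Nm m F * h67_Zm c + h67_Zm c * (Nm m F)ᵀ + Nm m F * h67_Zm c * (Nm m F)ᵀ := by
    rw [Pm, Matrix.transpose_add, Matrix.transpose_one]
    noncomm_ring
  rw [e1]
  ext i j
  have hi := i.isLt
  have hj := j.isLt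
  rw [Matrix.add_apply, Matrix.add_apply, Matrix.add_apply, Matrix.sub_apply,
    h67_mul_NmT_apply (Nm m F * h67_Zm c), h67_mul_NmT_apply (h67_Zm c), h67_Nm_mul_apply]
  have hA : (if h : i.val + 1 < m + 2 then h67_Zm (m := m) c ⟨i.val + 1, h⟩ j else 0) =
      h67_z c (i.val + 1) j.val := by
    by_cases h : i.val + 1 < m + 2
    · rw [dif_pos h]; rfl
    · rw [dif_neg h, h67_z_big c _ _ (by omega)]
  have hB : (if h : j.val + 1 < m + 2 then h67_Zm (m := m) c i ⟨j.val + 1, h⟩ else 0) =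
      h67_z c i.val (j.val + 1) := by
    by_cases h : j.val + 1 < m + 2
    · rw [dif_pos h]; rfl
    · rw [dif_neg h, h67_z_big c _ _ (by omega)]
  have hC : (if h : j.val + 1 < m + 2 then (Nm m F * h67_Zm (m := m) c) i ⟨j.val + 1, h⟩ else 0) =
      h67_z c (i.val + 1) (j.val + 1) := by
    by_cases h : j.val + 1 < m + 2
    · rw [dif_pos h, h67_Nm_mul_apply]
      by_cases h' : i.val + 1 < m + 2
      · rw [dif_pos h']; rfl
      · rw [dif_neg h', h67_z_big c _ _ (by omega)]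
    · rw [dif_neg h, h67_z_big c _ _ (by omega)]
  rw [hA, hB, hC]
  have hr := h67_z_rule c i.val j.val
  have hZ : h67_Zm (m := m) c i j = h67_z c i.val j.val := rfl
  have hE : h67_E00 (m := m) c i j = if i = 0 ∧ j = 0 then c else 0 := rfl
  rw [hZ, hE]
  by_cases h0 : i.val = 0 ∧ j.val = 0
  · have h0' : i = 0 ∧ j = 0 := ⟨Fin.ext (by simpa using h0.1), Fin.ext (by simpa using h0.2)⟩
    rw [if_pos h0] at hr
    rw [if_pos h0']
    linear_combination hr
  · have h0' : ¬ (i = 0 ∧ j = 0) := by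
      rintro ⟨rfl, rfl⟩
      exact h0 ⟨rfl, rfl⟩
    rw [if_neg h0] at hr
    rw [if_neg h0']
    linear_combination hr

/-- the matrix of `g` -/
def h67_gM (c : F) :
    Matrix (Fin (m + 2) ⊕ Fin (m + 2)) (Fin (m + 2) ⊕ Fin (m + 2)) F :=
  Matrix.fromBlocks 1 (h67_Zm c) 0 1

theorem h67_gM_mem (c : F) : h67_gM (m := m) c ∈ Matrix.symplecticGroup (Fin (m + 2)) F := by
  rw [SymplecticGroup.mem_iff]
  unfold h67_gM Matrix.J
  rw [Matrix.fromBlocks_transpose, Matrix.fromBlocks_multiply, Matrix.fromBlocks_multiply]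
  simp only [Matrix.mul_zero, Matrix.zero_mul, Matrix.mul_one, Matrix.one_mul, zero_add, add_zero,
    Matrix.transpose_zero, Matrix.transpose_one, Matrix.mul_neg, Matrix.neg_mul,
    h67_Zm_transpose]
  congr 1 <;> simp

theorem h67_J_mulVec (v : Fin (m + 2) ⊕ Fin (m + 2) → F) :
    Matrix.J (Fin (m + 2)) F *ᵥ v = Sum.elim (fun i => - v (Sum.inr i)) (fun i => v (Sum.inl i)) := by
  ext a
  rcases a with i | i
  · simp [Matrix.J, Matrix.mulVec, dotProduct, Fintype.sum_sum_type, Matrix.one_apply]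
  · simp [Matrix.J, Matrix.mulVec, dotProduct, Fintype.sum_sum_type, Matrix.one_apply]

/-- the matrix of the transvection `sympT (be 0) c` -/
theorem h67_sympT_val (c : F) :
    (sympT (be (m := m) (F := F) 0) c).val = Matrix.fromBlocks 1 (h67_E00 c) 0 1 := by
  show Cfsg.sympTransvection (m + 2) (be 0) c = _
  unfold Cfsg.sympTransvection
  rw [h67_J_mulVec]
  ext a b
  rw [Matrix.add_apply, Matrix.smul_apply, Matrix.vecMulVec_apply, smul_eq_mul]
  rcases a with i | i <;> rcases b with j | j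
  · simp [be, Matrix.one_apply]
  · by_cases h : i = 0 ∧ j = 0
    · obtain ⟨rfl, rfl⟩ := h
      simp [be, h67_E00]
    · have : h67_E00 (m := m) c i j = 0 := by
        simp only [h67_E00, Matrix.of_apply]
        rw [if_neg h]
      simp only [Matrix.fromBlocks_apply₁₂, this]
      by_cases hi : i = 0
      · have hj : j ≠ 0 := fun hj => h ⟨hi, hj⟩
        simp [be, Pi.single_apply, hj]
      · simp [be, Pi.single_apply, hi]
  · simp [be, Matrix.one_apply]
  · simp [be, Matrix.one_apply]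

/-- (C13) `n ≥ 3`: `g = [[1, Z], [0, 1]]`, `Z = -c (E_11 - E_02 - E_20)` -/
theorem exists_g_ge3 (hm : 1 ≤ m) (s c : F) :
    ∃ g : Matrix.symplecticGroup (Fin (m + 2)) F,
      g * uEl s * g⁻¹ = sympT (be 0) c * uEl s := by
  refine ⟨⟨h67_gM c, h67_gM_mem c⟩, ?_⟩
  rw [mul_inv_eq_iff_eq_mul]
  apply Subtype.ext
  obtain ⟨h1, h2⟩ := Cfsg.Agent.Helper79.SR.P_mul_Pinv (F := F) (m := m)
  have h3 : (Pm m F)ᵀ * (Pinv m F)ᵀ = 1 := by
    rw [← Matrix.transpose_mul, h2, Matrix.transpose_one]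
  have hP := h67_PZP (F := F) hm c
  have key : h67_Zm c * (Pinv m F)ᵀ = Pm m F * h67_Zm c + h67_E00 c * (Pinv m F)ᵀ := by
    have : h67_Zm (m := m) c = Pm m F * h67_Zm c * (Pm m F)ᵀ + h67_E00 c := by
      rw [hP]; abel
    calc h67_Zm c * (Pinv m F)ᵀ
        = (Pm m F * h67_Zm c * (Pm m F)ᵀ + h67_E00 c) * (Pinv m F)ᵀ := by rw [← this]
      _ = Pm m F * h67_Zm c * ((Pm m F)ᵀ * (Pinv m F)ᵀ) + h67_E00 c * (Pinv m F)ᵀ := by
          rw [Matrix.add_mul, Matrix.mul_assoc (Pm m F * h67_Zm c)]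
      _ = _ := by rw [h3, Matrix.mul_one]
  show h67_gM c * (uEl s).val = (sympT (be 0) c).val * (uEl s).val * h67_gM c
  rw [Cfsg.Agent.Helper79.SR.uEl_val, h67_sympT_val]
  unfold h67_gM uM
  rw [Matrix.fromBlocks_multiply, Matrix.fromBlocks_multiply, Matrix.fromBlocks_multiply]
  simp only [Matrix.mul_zero, Matrix.zero_mul, Matrix.mul_one, Matrix.one_mul, zero_add, add_zero]
  congr 1
  rw [key]
  abel

end C

end Cfsg.Agent.Helper67.SR
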