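import Mathlib
import Cfsg.Agent.Lib.Helper7.M11UDefs

set_option autoImplicit false

/-!
# M11U (L2) `loc_exp3` (piece of S0420, helper7 server)
-/

namespace Cfsg.Agent.Helper67.M11U

open Subgroup Cfsg.Agent.Helper7.M11U
open scoped Pointwise

variable {G : Type*} [Group G] [Finite G]

/-- (L2) -/
theorem loc_exp3 (B : Base G)
    (hcard3 : ∀ R : Sylow 3 G, Nat.card (R : Subgroup G) = 9)
    (hcent : ∀ R : Sylow 3 G, ∀ g : G, g ∈ centralizer ((R : Subgroup G) : Set G) → g ∈ (R : Subgroup G)) :
    ∀ R : Sylow 3 G, ∀ x ∈ (R : Subgroup G), x ^ 3 = 1 := by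
  intro R x hx
  by_contra hx3
  set H : Subgroup G := (R : Subgroup G) with hH
  have hcH : Nat.card H = 9 := hcard3 R
  have ho : orderOf (⟨x, hx⟩ : H) ∣ 9 := by
    rw [← hcH]
    exact orderOf_dvd_natCard _
  have ho9 : orderOf (⟨x, hx⟩ : H) = 9 := by
    have hle : orderOf (⟨x, hx⟩ : H) ≤ 9 := Nat.le_of_dvd (by norm_num) ho
    have hpos : 0 < orderOf (⟨x, hx⟩ : H) := Nat.pos_of_dvd_of_pos ho (by norm_num)
    have hpow : ∀ k, orderOf (⟨x, hx⟩ : H) = k → x ^ k = 1 := by
      intro k hk
      have := pow_orderOf_eq_one (⟨x, hx⟩ : H)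
      rw [hk] at this
      have h2 := congrArg (fun w : H => (w : G)) this
      simpa using h2
    by_contra hne
    have h13 : orderOf (⟨x, hx⟩ : H) = 1 ∨ orderOf (⟨x, hx⟩ : H) = 3 := by
      interval_cases h : orderOf (⟨x, hx⟩ : H) <;> simp_all
    rcases h13 with h | h
    · apply hx3
      have := hpow 1 h
      rw [pow_one] at this
      rw [this, one_pow]
    · exact hx3 (hpow 3 h)
  have hcyc : IsCyclic H := isCyclic_of_orderOf_eq_card (⟨x, hx⟩ : H) (by rw [ho9, hcH])
  have hAut : Nat.card (MulAut H) = 6 := by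
    rw [IsCyclic.card_mulAut, hcH]
    decide
  set N : Subgroup G := normalizer (H : Set G) with hN
  set f : N →* MulAut H := H.normalizerMonoidHom with hf
  have hker : f.ker = (centralizer (H : Set G)).subgroupOf N := normalizerMonoidHom_ker H
  have hkercard : Nat.card f.ker ≤ 9 := by
    rw [← hcH]
    have hmem : ∀ g : f.ker, ((g : N) : G) ∈ H := by
      intro g
      apply hcent R
      have h1 : (g : N) ∈ (centralizer (H : Set G)).subgroupOf N := by
        rw [← hker]
        exact g.2
      exact mem_subgroupOf.mp h1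
    apply Nat.card_le_card_of_injective (fun g : f.ker => (⟨((g : N) : G), hmem g⟩ : H))
    intro a b hab
    apply Subtype.ext
    apply Subtype.ext
    exact congrArg (fun w : H => (w : G)) hab
  have hrange : Nat.card f.range ∣ 6 := by
    rw [← hAut]
    exact Subgroup.card_subgroup_dvd_card _
  have hrle : Nat.card f.range ≤ 6 := Nat.le_of_dvd (by norm_num) hrange
  have h1 : Nat.card f.ker * f.ker.index = Nat.card N := Subgroup.card_mul_index _
  rw [Subgroup.index_ker] at h1
  have hN144 : Nat.card N = 144 := B.h144 R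
  rw [hN144] at h1
  have : Nat.card f.ker * Nat.card f.range ≤ 9 * 6 := Nat.mul_le_mul hkercard hrle
  omega

end Cfsg.Agent.Helper67.M11U
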