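import Mathlib
import Cfsg.Agent.Lib.Helper62.SLN0
import Cfsg.Agent.Lib.Helper60.SLN_S1
import Cfsg.Agent.Lib.Helper66.SLN_G1

/-!
# SLN server (helper62, S2332): core of piece (K1b) `k1b`, by helper67.
`k1b_of` takes the conclusion of G12 / G13 as an explicit hypothesis; R4 is proved inline
(`h67_comm_fix_line`).
-/

set_option autoImplicit false

namespace Cfsg.Agent.Helper67.SLN

open Matrix Module Cfsg.Agent.Helper93.U2 Cfsg.Agent.Helper62.SLN

section R4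

variable {V : Type*} [AddCommGroup V] [Module ℂ V] [FiniteDimensional ℂ V]

/-- (R4, inline copy) a commutator of two elements stabilising a line acts trivially on it -/
theorem h67_comm_fix_line {G : Type*} [Group G] (ρ : Representation ℂ G V) (W : Submodule ℂ V)
    (hW : finrank ℂ W ≤ 1) (a b : G)
    (ha : ∀ v ∈ W, ρ a v ∈ W) (hb : ∀ v ∈ W, ρ b v ∈ W) :
    ∀ v ∈ W, ρ (a * b * a⁻¹ * b⁻¹) v = v := by
  intro v hv
  obtain ⟨w0, hw0⟩ := finrank_le_one_iff.mp hW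
  have key : ∀ g : G, (∀ v ∈ W, ρ g v ∈ W) → ∃ c : ℂ, ρ g w0.1 = c • w0.1 := by
    intro g hg
    obtain ⟨c, hc⟩ := hw0 ⟨ρ g w0.1, hg _ w0.2⟩
    refine ⟨c, ?_⟩
    have := congrArg Subtype.val hc
    simpa using this.symm
  obtain ⟨α, hα⟩ := key a ha
  obtain ⟨β, hβ⟩ := key b hb
  obtain ⟨c, hc⟩ := hw0 ⟨v, hv⟩
  have hv' : v = c • w0.1 := by
    have := congrArg Subtype.val hc
    simpa using this.symm
  by_cases h0 : w0.1 = 0
  · rw [hv', h0, smul_zero, map_zero]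
  have hcancel : ∀ g : G, ρ g⁻¹ (ρ g w0.1) = w0.1 := by
    intro g
    rw [← Module.End.mul_apply, ← map_mul, inv_mul_cancel, map_one, Module.End.one_apply]
  have hinv : ∀ g : G, ∀ γ : ℂ, ρ g w0.1 = γ • w0.1 → γ ≠ 0 ∧ ρ g⁻¹ w0.1 = γ⁻¹ • w0.1 := by
    intro g γ hg
    have hγ : γ ≠ 0 := by
      rintro rfl
      rw [zero_smul] at hg
      apply h0
      have := hcancel g
      rw [hg, map_zero] at this
      exact this.symm
    refine ⟨hγ, ?_⟩
    have := hcancel g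
    rw [hg, map_smul] at this
    calc ρ g⁻¹ w0.1 = γ⁻¹ • (γ • ρ g⁻¹ w0.1) := by rw [smul_smul, inv_mul_cancel₀ hγ, one_smul]
      _ = γ⁻¹ • w0.1 := by rw [this]
  obtain ⟨hα0, hα'⟩ := hinv a α hα
  obtain ⟨hβ0, hβ'⟩ := hinv b β hβ
  rw [hv', map_smul]
  congr 1
  have hone : ∀ x : ℂ, x = 1 → x • w0.1 = w0.1 := by
    intro x hx
    rw [hx, one_smul]
  simp only [map_mul, Module.End.mul_apply, hβ', map_smul, hα', hβ, hα, smul_smul]
  apply hone
  field_simp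

end R4

section GRP

variable {F : Type*} [Field F] {κ : Type} [Fintype κ] [DecidableEq κ]

theorem h67_lEl_inv (A : SpecialLinearGroup κ F) : lEl A⁻¹ = (lEl A)⁻¹ := by
  apply eq_inv_of_mul_eq_one_left
  rw [← Cfsg.Agent.Helper66.SLN.lEl_mul, inv_mul_cancel, Cfsg.Agent.Helper66.SLN.lEl_one]

end GRP

section SLN

variable {F : Type*} [Field F] [Fintype F] [DecidableEq F] {κ : Type} [Fintype κ] [DecidableEq κ]
  {V : Type*} [AddCommGroup V] [Module ℂ V] [FiniteDimensional ℂ V]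
  (ψ : AddChar F ℂ) (pr : Pairing (κ → F)) (hpr : ∀ w u, pr.β w u = ψ (w ⬝ᵥ u))
  (ρ : Representation ℂ (SpecialLinearGroup (Unit ⊕ κ) F) V)

include hpr

omit [Fintype F] [DecidableEq F] in
/-- core of K1b: the conclusion of G12 / G13 as an explicit hypothesis -/
theorem k1b_of (j : κ) (w t : κ → F)
    (hG : ∃ X Y : SpecialLinearGroup κ F, X.1 *ᵥ w = w ∧ Y.1 *ᵥ w = w ∧
      tvEl j t = X * Y * X⁻¹ * Y⁻¹)
    (hd1 : finrank ℂ (wt pr ρ w) ≤ 1) (v : V) (hv : v ∈ wt pr ρ w) : ρ (qEl j t) v = v := by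
  obtain ⟨X, Y, hX, hY, hXY⟩ := hG
  have e : qEl (F := F) j t = lEl X * lEl Y * (lEl X)⁻¹ * (lEl Y)⁻¹ := by
    unfold qEl
    rw [hXY, Cfsg.Agent.Helper66.SLN.lEl_mul, Cfsg.Agent.Helper66.SLN.lEl_mul,
      Cfsg.Agent.Helper66.SLN.lEl_mul, h67_lEl_inv, h67_lEl_inv]
  rw [e]
  refine h67_comm_fix_line ρ (wt pr ρ w) hd1 (lEl X) (lEl Y) ?_ ?_ v hv
  · intro v hv
    have := Cfsg.Agent.Helper60.SLN.map_wt_lEl ψ pr hpr ρ X w v hv
    rwa [hX] at this
  · intro v hv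
    have := Cfsg.Agent.Helper60.SLN.map_wt_lEl ψ pr hpr ρ Y w v hv
    rwa [hY] at this

end SLN

end Cfsg.Agent.Helper67.SLN
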