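import Mathlib
import Cfsg.Agent.Lib.Helper62.SLN0
import Cfsg.Agent.Lib.Helper67.SLN_K1bCore
import Cfsg.Agent.Lib.Helper78.SLN_G12
import Cfsg.Agent.Lib.Helper59.SLN_G13

/-!
# SLN server (helper62, S2332): piece (K1b) `k1b`, by helper67.
-/

set_option autoImplicit false

namespace Cfsg.Agent.Helper67.SLN

open Matrix Module Cfsg.Agent.Helper93.U2 Cfsg.Agent.Helper62.SLN

section SLN

variable {F : Type*} [Field F] [Fintype F] [DecidableEq F] {κ : Type} [Fintype κ] [DecidableEq κ]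
  {V : Type*} [AddCommGroup V] [Module ℂ V] [FiniteDimensional ℂ V]
  (ψ : AddChar F ℂ) (pr : Pairing (κ → F)) (hpr : ∀ w u, pr.β w u = ψ (w ⬝ᵥ u))
  (ρ : Representation ℂ (SpecialLinearGroup (Unit ⊕ κ) F) V)

include hpr

omit [DecidableEq F] in
/-- piece K1b (R4 + S1 + G2 + G12 / G13), `n ≥ 5`, or `n = 4` and `q ≥ 4` -/
theorem k1b (hκ : 3 ≤ Fintype.card κ) (hq : Fintype.card κ = 3 → 4 ≤ Fintype.card F)
    (hd1 : ∀ w : κ → F, w ≠ 0 → finrank ℂ (wt pr ρ w) = 1)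
    (j : κ) (w : κ → F) (hwj : w j = 0) (hw : w ≠ 0) (t : κ → F) (ht : t ⬝ᵥ w = 0)
    (v : V) (hv : v ∈ wt pr ρ w) : ρ (qEl j t) v = v := by
  refine k1b_of ψ pr hpr ρ j w t ?_ (le_of_eq (hd1 w hw)) v hv
  by_cases h4 : 4 ≤ Fintype.card κ
  · exact Cfsg.Agent.Helper78.SLN.tvEl_comm_fix_vec h4 j w t hwj ht
  · have h3 : Fintype.card κ = 3 := by omega
    exact Cfsg.Agent.Helper59.SLN.tvEl_comm_fix_vec_three h3 (hq h3) j w t hwj hw ht

end SLN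

end Cfsg.Agent.Helper67.SLN
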