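import Mathlib
import Cfsg.Agent.Lib.Helper31.G2Defs
import Cfsg.Agent.Lib.Helper12.SGRED

set_option autoImplicit false

/-!
# (BLOCK), reduction half: `g2_block` from its irreducible case (piece of S3795, helper31 server)
-/

namespace Cfsg.Agent.Helper67.G2

open Module Subgroup Cfsg.Agent.Helper31.SG Cfsg.Agent.Helper31.G2 Cfsg.Agent.Helper31

universe u uG uK uV

/-- The conclusion of `g2_block`. -/
def BlockConcl {G : Type*} [Group G] (S : Subgroup G) (x : G) (n : ℕ) : Prop :=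
  ∃ j : ℕ, j ≤ n ∧ ∃ R T : Subgroup G, R ≤ S ∧ T ≤ S ∧
      (∀ a ∈ S, (a ∈ R ↔ ∀ b ∈ S, a * b * a⁻¹ * b⁻¹ ∈ T)) ∧
      (∃ a ∈ S, ∃ b ∈ S, a * b * a⁻¹ * b⁻¹ ∉ T) ∧
      (∀ a ∈ R, x ^ 2 ^ j * a * (x ^ 2 ^ j)⁻¹ ∈ R) ∧
      Nat.card {a : G // a ∈ S ∧ x ^ 2 ^ n * a * (x ^ 2 ^ n)⁻¹ * a ∈ R} ≤
        (2 ^ (n + 1 - j) - 1) ^ 2 * Nat.card R ∧
      (Nat.card {a : G // a ∈ S ∧ x ^ 2 ^ n * a * (x ^ 2 ^ n)⁻¹ * a ∈ R} =
          (2 ^ (n + 1 - j) - 1) ^ 2 * Nat.card R →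
        ∀ a ∈ S, x ^ 2 ^ n * a * (x ^ 2 ^ n)⁻¹ * a⁻¹ ∈ R →
          x ^ 2 ^ j * a * (x ^ 2 ^ j)⁻¹ * a⁻¹ ∈ R)

/-- (BLOCK) in the irreducible case, with `G = S ⟨x⟩`. -/
def BlockIrr.{vG, vK, vV} (K : Type vK) [Field K] (s : ℕ) : Prop :=
  ∀ (V : Type vV) [AddCommGroup V] [Module K V] [FiniteDimensional K V]
    (G : Type vG) [Group G] [Finite G] (ρ : Representation K G V) (S : Subgroup G) (x : G) (n : ℕ),
    IsPGroup s S → (∀ a ∈ S, x * a * x⁻¹ ∈ S) → x ^ 2 ^ (n + 1) = 1 →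
    (∀ v : V, ρ x v = v → v = 0) →
    (∀ a ∈ S, ∀ b ∈ S, ∀ c ∈ S, (a * b * a⁻¹ * b⁻¹) * c = c * (a * b * a⁻¹ * b⁻¹)) →
    (∃ a ∈ S, ∃ b ∈ S, ρ (a * b * a⁻¹ * b⁻¹) ≠ 1) →
    S ⊔ zpowers x = ⊤ →
    (∀ U : Submodule K V, HH.Inv ρ U → U = ⊥ ∨ U = ⊤) →
    BlockConcl S x n

/-- The stabiliser of a subspace. -/
def h67_stab {K : Type*} [Field K] {V : Type*} [AddCommGroup V] [Module K V] {G : Type*} [Group G]
    (ρ : Representation K G V) (U : Submodule K V) : Subgroup G where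
  carrier := {g | ∀ u ∈ U, ρ g u ∈ U ∧ ρ g⁻¹ u ∈ U}
  mul_mem' := by
    intro a b ha hb u hu
    refine ⟨?_, ?_⟩
    · rw [map_mul]
      exact (ha _ (hb u hu).1).1
    · rw [mul_inv_rev, map_mul]
      exact (hb _ (ha u hu).2).2
  one_mem' := by
    intro u hu
    simpa using hu
  inv_mem' := by
    intro a ha u hu
    refine ⟨(ha u hu).2, ?_⟩
    rw [inv_inv]
    exact (ha u hu).1

theorem h67_pow_mem {K : Type*} [Field K] {V : Type*} [AddCommGroup V] [Module K V] {G : Type*}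
    [Group G] (ρ : Representation K G V) (U : Submodule K V) (x : G)
    (hxU : ∀ u ∈ U, ρ x u ∈ U) (k : ℕ) : ∀ u ∈ U, ρ (x ^ k) u ∈ U := by
  induction k with
  | zero => intro u hu; simpa using hu
  | succ k ih =>
    intro u hu
    rw [pow_succ, map_mul]
    exact ih _ (hxU u hu)

/-- With `G = S ⟨x⟩`, a subspace invariant under `S` and `x` is invariant. -/
theorem h67_inv_of_gen {K : Type*} [Field K] {V : Type*} [AddCommGroup V] [Module K V]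
    {G : Type*} [Group G] (ρ : Representation K G V) (S : Subgroup G) (x : G) (m : ℕ)
    (hm : 0 < m) (hx : x ^ m = 1) (hgen : S ⊔ zpowers x = ⊤) (U : Submodule K V)
    (hSU : ∀ a ∈ S, ∀ u ∈ U, ρ a u ∈ U) (hxU : ∀ u ∈ U, ρ x u ∈ U) : HH.Inv ρ U := by
  have h1 : S ≤ h67_stab ρ U := by
    intro a ha u hu
    exact ⟨hSU a ha u hu, hSU _ (S.inv_mem ha) u hu⟩
  have h2 : x ∈ h67_stab ρ U := by
    intro u hu
    refine ⟨hxU u hu, ?_⟩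
    have hinv : x⁻¹ = x ^ (m - 1) := by
      apply inv_eq_of_mul_eq_one_left
      rw [← pow_succ, Nat.sub_add_cancel hm, hx]
    rw [hinv]
    exact h67_pow_mem ρ U x hxU _ u hu
  have h3 : (⊤ : Subgroup G) ≤ h67_stab ρ U := by
    rw [← hgen]
    exact sup_le h1 ((zpowers_le).mpr h2)
  intro g u hu
  exact (h3 (mem_top g) u hu).1

/-- An `s`-element acting trivially on `U` and on `V ⧸ U` acts trivially (`char K = r ≠ s`). -/
theorem h67_eq_one_of_sub_quot {K : Type*} [Field K] {V : Type*} [AddCommGroup V] [Module K V]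
    (r s : ℕ) [hr : Fact r.Prime] [hs : Fact s.Prime] (hrs : r ≠ s) [CharP K r]
    (C : End K V) (k : ℕ) (hC : C ^ s ^ k = 1) (U : Submodule K V) (h1 : ∀ u ∈ U, C u = u)
    (h2 : ∀ v, C v - v ∈ U) : C = 1 := by
  apply HH.eq_one_of_sq_zero r s hrs C k hC
  apply LinearMap.ext
  intro v
  rw [pow_two, Module.End.mul_apply, LinearMap.zero_apply]
  have e1 : (C - 1) v = C v - v := by
    rw [LinearMap.sub_apply, Module.End.one_apply]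
  rw [e1, LinearMap.sub_apply, Module.End.one_apply, h1 _ (h2 v), sub_self]

/-- Transfer of the conclusion from `Γ ≥ S ⟨x⟩` back to `G`. -/
theorem h67_blockConcl_of_subgroupOf {G : Type*} [Group G] (Γ S : Subgroup G) (hSΓ : S ≤ Γ)
    (x : G) (hxΓ : x ∈ Γ) (n : ℕ)
    (h : BlockConcl (S.subgroupOf Γ) (⟨x, hxΓ⟩ : Γ) n) : BlockConcl S x n := by
  obtain ⟨j, hj, R', T', hR'S, hT'S, hiff, hex, hRinv, hcard, heq⟩ := h
  have hmemR : ∀ g : Γ, (g : G) ∈ R'.map Γ.subtype ↔ g ∈ R' := fun g =>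
    Subgroup.mem_map_iff_mem Γ.subtype_injective
  have hmemT : ∀ g : Γ, (g : G) ∈ T'.map Γ.subtype ↔ g ∈ T' := fun g =>
    Subgroup.mem_map_iff_mem Γ.subtype_injective
  have hcR : Nat.card (R'.map Γ.subtype) = Nat.card R' :=
    (Nat.card_congr (R'.equivMapOfInjective Γ.subtype Γ.subtype_injective).toEquiv).symm
  have hcE : Nat.card {a : G // a ∈ S ∧ x ^ 2 ^ n * a * (x ^ 2 ^ n)⁻¹ * a ∈ R'.map Γ.subtype} =
      Nat.card {a : Γ // a ∈ S.subgroupOf Γ ∧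
        (⟨x, hxΓ⟩ : Γ) ^ 2 ^ n * a * ((⟨x, hxΓ⟩ : Γ) ^ 2 ^ n)⁻¹ * a ∈ R'} := by
    symm
    refine Nat.card_congr (Equiv.ofBijective
      (fun a => ⟨(a.1 : G), mem_subgroupOf.mp a.2.1, (hmemR _).mpr a.2.2⟩) ⟨?_, ?_⟩)
    · intro a b hab
      apply Subtype.ext
      apply Subtype.ext
      exact congrArg (fun w : {a : G // a ∈ S ∧
        x ^ 2 ^ n * a * (x ^ 2 ^ n)⁻¹ * a ∈ R'.map Γ.subtype} => (w : G)) hab
    · rintro ⟨a, haS, haR⟩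
      refine ⟨⟨⟨a, hSΓ haS⟩, mem_subgroupOf.mpr haS, (hmemR _).mp haR⟩, rfl⟩
  refine ⟨j, hj, R'.map Γ.subtype, T'.map Γ.subtype, ?_, ?_, ?_, ?_, ?_, ?_, ?_⟩
  · rintro _ ⟨g, hg, rfl⟩
    exact mem_subgroupOf.mp (hR'S hg)
  · rintro _ ⟨g, hg, rfl⟩
    exact mem_subgroupOf.mp (hT'S hg)
  · intro a ha
    have h1 := hiff ⟨a, hSΓ ha⟩ (mem_subgroupOf.mpr ha)
    constructor
    · intro haR b hb
      have h2 := (h1.mp ((hmemR ⟨a, hSΓ ha⟩).mp haR)) ⟨b, hSΓ hb⟩ (mem_subgroupOf.mpr hb)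
      exact (hmemT _).mpr h2
    · intro h
      apply (hmemR ⟨a, hSΓ ha⟩).mpr
      apply h1.mpr
      intro b' hb'
      have h2 := h (b' : G) (mem_subgroupOf.mp hb')
      exact (hmemT (⟨a, hSΓ ha⟩ * b' * (⟨a, hSΓ ha⟩ : Γ)⁻¹ * b'⁻¹)).mp h2
  · obtain ⟨a', ha', b', hb', hnot⟩ := hex
    exact ⟨a', mem_subgroupOf.mp ha', b', mem_subgroupOf.mp hb', fun h => hnot ((hmemT _).mp h)⟩
  · rintro _ ⟨g, hg, rfl⟩
    exact (hmemR _).mpr (hRinv g hg)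
  · rw [hcE, hcR]
    exact hcard
  · rw [hcE, hcR]
    intro hE a ha haR
    have h1 := heq hE ⟨a, hSΓ ha⟩ (mem_subgroupOf.mpr ha) ((hmemR _).mp haR)
    exact (hmemR _).mpr h1

/-- The induction on `finrank V`, for `G = S ⟨x⟩`. -/
theorem h67_block_gen {K : Type uK} [Field K] {r s : ℕ} [hr : Fact r.Prime] [CharP K r]
    (hs : s.Prime) (hrs : r ≠ s) (IRR : BlockIrr.{uG, uK, uV} K s)
    {G : Type uG} [Group G] [Finite G] (S : Subgroup G) (x : G) (n : ℕ)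
    (hS : IsPGroup s S) (hxS : ∀ a ∈ S, x * a * x⁻¹ ∈ S) (hx : x ^ 2 ^ (n + 1) = 1)
    (hcl : ∀ a ∈ S, ∀ b ∈ S, ∀ c ∈ S, (a * b * a⁻¹ * b⁻¹) * c = c * (a * b * a⁻¹ * b⁻¹))
    (hgen : S ⊔ zpowers x = ⊤) :
    ∀ (d : ℕ) (V : Type uV) [AddCommGroup V] [Module K V] [FiniteDimensional K V]
      (ρ : Representation K G V), finrank K V = d → (∀ v : V, ρ x v = v → v = 0) →
      (∃ a ∈ S, ∃ b ∈ S, ρ (a * b * a⁻¹ * b⁻¹) ≠ 1) → BlockConcl S x n := by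
  have : Fact s.Prime := ⟨hs⟩
  intro d
  induction d using Nat.strong_induction_on with
  | _ d ih =>
    intro V _ _ _ ρ hd hfix hnab
    by_cases hirr : ∀ U : Submodule K V, HH.Inv ρ U → U = ⊥ ∨ U = ⊤
    · exact IRR V G ρ S x n hS hxS hx hfix hcl hnab hgen hirr
    · push Not at hirr
      obtain ⟨U, hU, hU0, hU1⟩ := hirr
      have hfU : finrank K U < finrank K V := Submodule.finrank_lt hU1
      have hfQ : finrank K (V ⧸ U) < finrank K V := by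
        have h1 := Submodule.finrank_quotient_add_finrank U
        have h2 : 0 < finrank K U := by
          rw [Module.finrank_pos_iff]
          exact (Submodule.nontrivial_iff_ne_bot).mpr hU0
        omega
      have hfixU : ∀ u : U, HH.subRep ρ U hU x u = u → u = 0 := by
        intro u hu
        have h1 : ρ x (u : V) = (u : V) := congrArg Subtype.val hu
        exact Subtype.ext (hfix _ h1)
      have hfixQ : ∀ w : V ⧸ U, HH.quotRep ρ U hU x w = w → w = 0 := by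
        intro w hw
        obtain ⟨v, rfl⟩ := Submodule.Quotient.mk_surjective U w
        rw [HH.quotRep_mk, Submodule.Quotient.eq] at hw
        rw [Submodule.Quotient.mk_eq_zero]
        exact Helper12.SG.helper12_mem_of_sub_mem (ρ x) U (hU x) hfix v hw
      obtain ⟨a, ha, b, hb, hab⟩ := hnab
      have hcS : a * b * a⁻¹ * b⁻¹ ∈ S :=
        S.mul_mem (S.mul_mem (S.mul_mem ha hb) (S.inv_mem ha)) (S.inv_mem hb)
      obtain ⟨k, hk⟩ := hS ⟨a * b * a⁻¹ * b⁻¹, hcS⟩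
      have hk' : (a * b * a⁻¹ * b⁻¹) ^ s ^ k = 1 := by
        have := congrArg (fun w : S => (w : G)) hk
        simpa using this
      have hCk : (ρ (a * b * a⁻¹ * b⁻¹)) ^ s ^ k = 1 := by rw [← map_pow, hk', map_one]
      by_cases hcU : ∀ u ∈ U, ρ (a * b * a⁻¹ * b⁻¹) u = u
      · by_cases hcQ : ∀ v, ρ (a * b * a⁻¹ * b⁻¹) v - v ∈ U
        · exact absurd (h67_eq_one_of_sub_quot r s hrs _ k hCk U hcU hcQ) hab
        · push Not at hcQ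
          obtain ⟨v, hv⟩ := hcQ
          refine ih (finrank K (V ⧸ U)) (by omega) (V ⧸ U) (HH.quotRep ρ U hU) rfl hfixQ
            ⟨a, ha, b, hb, fun h => hv ?_⟩
          have h1 := congrArg (fun f : End K (V ⧸ U) => f (Submodule.Quotient.mk v)) h
          simp only [HH.quotRep_mk, Module.End.one_apply] at h1
          exact (Submodule.Quotient.eq U).mp h1
      · push Not at hcU
        obtain ⟨u, hu, hne⟩ := hcU
        refine ih (finrank K U) (by omega) U (HH.subRep ρ U hU) rfl hfixU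
          ⟨a, ha, b, hb, fun h => hne ?_⟩
        have h1 := congrArg (fun f : End K U => ((f ⟨u, hu⟩ : U) : V)) h
        simpa [HH.subRep_apply] using h1

/-- (BLOCK) from its irreducible case. -/
theorem g2_block_of_irr {K : Type uK} [Field K] {r s : ℕ} [hr : Fact r.Prime]
    [CharP K r] (IRR : BlockIrr.{uG, uK, uV} K s)
    (hs : s.Prime) (hs2 : s ≠ 2) (hr2 : r ≠ 2) (hrs : r ≠ s)
    {V : Type uV} [AddCommGroup V] [Module K V] [FiniteDimensional K V]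
    {G : Type uG} [Group G] [Finite G] (ρ : Representation K G V) (S : Subgroup G) (x : G) (n : ℕ)
    (hS : IsPGroup s S) (hxS : ∀ a ∈ S, x * a * x⁻¹ ∈ S) (hx : x ^ 2 ^ (n + 1) = 1)
    (hfix : ∀ v : V, ρ x v = v → v = 0)
    (hcl : ∀ a ∈ S, ∀ b ∈ S, ∀ c ∈ S, (a * b * a⁻¹ * b⁻¹) * c = c * (a * b * a⁻¹ * b⁻¹))
    (hnab : ∃ a ∈ S, ∃ b ∈ S, ρ (a * b * a⁻¹ * b⁻¹) ≠ 1) :
    ∃ j : ℕ, j ≤ n ∧ ∃ R T : Subgroup G, R ≤ S ∧ T ≤ S ∧
      (∀ a ∈ S, (a ∈ R ↔ ∀ b ∈ S, a * b * a⁻¹ * b⁻¹ ∈ T)) ∧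
      (∃ a ∈ S, ∃ b ∈ S, a * b * a⁻¹ * b⁻¹ ∉ T) ∧
      (∀ a ∈ R, x ^ 2 ^ j * a * (x ^ 2 ^ j)⁻¹ ∈ R) ∧
      Nat.card {a : G // a ∈ S ∧ x ^ 2 ^ n * a * (x ^ 2 ^ n)⁻¹ * a ∈ R} ≤
        (2 ^ (n + 1 - j) - 1) ^ 2 * Nat.card R ∧
      (Nat.card {a : G // a ∈ S ∧ x ^ 2 ^ n * a * (x ^ 2 ^ n)⁻¹ * a ∈ R} =
          (2 ^ (n + 1 - j) - 1) ^ 2 * Nat.card R →
        ∀ a ∈ S, x ^ 2 ^ n * a * (x ^ 2 ^ n)⁻¹ * a⁻¹ ∈ R →
          x ^ 2 ^ j * a * (x ^ 2 ^ j)⁻¹ * a⁻¹ ∈ R) := by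
  set Γ : Subgroup G := S ⊔ zpowers x with hΓ
  have hSΓ : S ≤ Γ := le_sup_left
  have hxΓ : x ∈ Γ := (le_sup_right : zpowers x ≤ Γ) (mem_zpowers x)
  have hS' : IsPGroup s (S.subgroupOf Γ) := hS.comap_subtype
  have hgen' : S.subgroupOf Γ ⊔ zpowers (⟨x, hxΓ⟩ : Γ) = ⊤ := HH.gen_subgroupOf S x hxΓ
  have hx' : (⟨x, hxΓ⟩ : Γ) ^ 2 ^ (n + 1) = 1 := by
    apply Subtype.ext
    rw [Subgroup.coe_pow, Subgroup.coe_one]
    exact hx
  have hxS' : ∀ a ∈ S.subgroupOf Γ, (⟨x, hxΓ⟩ : Γ) * a * (⟨x, hxΓ⟩ : Γ)⁻¹ ∈ S.subgroupOf Γ :=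
    fun a ha => mem_subgroupOf.mpr (hxS _ (mem_subgroupOf.mp ha))
  have hcl' : ∀ a ∈ S.subgroupOf Γ, ∀ b ∈ S.subgroupOf Γ, ∀ c ∈ S.subgroupOf Γ,
      (a * b * a⁻¹ * b⁻¹) * c = c * (a * b * a⁻¹ * b⁻¹) := by
    intro a ha b hb c hc
    apply Subtype.ext
    exact hcl _ (mem_subgroupOf.mp ha) _ (mem_subgroupOf.mp hb) _ (mem_subgroupOf.mp hc)
  have hnab' : ∃ a ∈ S.subgroupOf Γ, ∃ b ∈ S.subgroupOf Γ,
      (ρ.comp Γ.subtype) (a * b * a⁻¹ * b⁻¹) ≠ 1 := by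
    obtain ⟨a, ha, b, hb, hab⟩ := hnab
    exact ⟨⟨a, hSΓ ha⟩, mem_subgroupOf.mpr ha, ⟨b, hSΓ hb⟩, mem_subgroupOf.mpr hb, hab⟩
  exact h67_blockConcl_of_subgroupOf Γ S hSΓ x hxΓ n
    (h67_block_gen hs hrs IRR (S.subgroupOf Γ) (⟨x, hxΓ⟩ : Γ) n hS' hxS' hx' hcl' hgen'
      (finrank K V) V (ρ.comp Γ.subtype) rfl hfix hnab')

end Cfsg.Agent.Helper67.G2
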