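import Mathlib
import Cfsg.Agent.Lib.Helper31.G2Defs
import Cfsg.Agent.Lib.Helper31.SGFin3
import Cfsg.Agent.Lib.Helper67.G2BLOCKRed

set_option autoImplicit false

/-!
# (BLOCK), abstract half: one irreducible block (piece of S3795, helper31 server)
-/

namespace Cfsg.Agent.Helper67.G2

open Module Subgroup Cfsg.Agent.Helper31.SG Cfsg.Agent.Helper31.G2 Cfsg.Agent.Helper31

universe u uG uK uV

/-- The statement of `g2_blk_count`, as a hypothesis. -/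
def BlkCountStmt.{vK, vM, vΓ} : Prop :=
  ∀ {K : Type vK} [Field K] [IsAlgClosed K] {M : Type vM} [AddCommGroup M]
    [Module K M] [FiniteDimensional K M] [Nontrivial M] {Γ : Type vΓ} [Group Γ]
    (ψ : Γ →* Module.End K M) (Ss : Subgroup Γ) [Finite Ss] (y : Γ) {c : ℕ} (_ : 1 ≤ c)
    (_ : Odd (Nat.card Ss)) (_ : (Nat.card Ss : K) ≠ 0) (_ : (2 : K) ≠ 0)
    (_ : y ^ 2 ^ c = 1) (_ : ∀ u ∈ Ss, y * u * y⁻¹ ∈ Ss)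
    (_ : ∀ N : Submodule K M, (∀ u ∈ Ss, ∀ v ∈ N, ψ u v ∈ N) → N = ⊥ ∨ N = ⊤)
    (_ : ∀ u ∈ Ss, ∀ w ∈ Ss, ∃ l : K, ψ (u * w * u⁻¹ * w⁻¹) = l • 1)
    (_ : ∀ m : M, ψ y m = m → m = 0)
    (R : Subgroup Γ) (_ : R ≤ Ss) (_ : ∀ u ∈ Ss, u ∈ R ↔ ∃ l : K, ψ u = l • 1),
    Nat.card {a : Γ // a ∈ Ss ∧ y ^ 2 ^ (c - 1) * a * (y ^ 2 ^ (c - 1))⁻¹ * a ∈ R} ≤
      (2 ^ c - 1) ^ 2 * Nat.card R ∧
    (Nat.card {a : Γ // a ∈ Ss ∧ y ^ 2 ^ (c - 1) * a * (y ^ 2 ^ (c - 1))⁻¹ * a ∈ R} =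
        (2 ^ c - 1) ^ 2 * Nat.card R →
      ∀ a ∈ Ss, y ^ 2 ^ (c - 1) * a * (y ^ 2 ^ (c - 1))⁻¹ * a⁻¹ ∈ R →
        y * a * y⁻¹ * a⁻¹ ∈ R)

/-- The conclusion of `g2_block` in terms of `y = x ^ 2 ^ j`, `t = x ^ 2 ^ n`, `P = 2 ^ (n+1-j)`. -/
def BlockConclY {Γ : Type*} [Group Γ] (S : Subgroup Γ) (y t : Γ) (P : ℕ) : Prop :=
  ∃ R T : Subgroup Γ, R ≤ S ∧ T ≤ S ∧
      (∀ a ∈ S, (a ∈ R ↔ ∀ b ∈ S, a * b * a⁻¹ * b⁻¹ ∈ T)) ∧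
      (∃ a ∈ S, ∃ b ∈ S, a * b * a⁻¹ * b⁻¹ ∉ T) ∧
      (∀ a ∈ R, y * a * y⁻¹ ∈ R) ∧
      Nat.card {a : Γ // a ∈ S ∧ t * a * t⁻¹ * a ∈ R} ≤ (P - 1) ^ 2 * Nat.card R ∧
      (Nat.card {a : Γ // a ∈ S ∧ t * a * t⁻¹ * a ∈ R} = (P - 1) ^ 2 * Nat.card R →
        ∀ a ∈ S, t * a * t⁻¹ * a⁻¹ ∈ R → y * a * y⁻¹ * a⁻¹ ∈ R)

theorem h67_blockConcl_of_Y {G : Type*} [Group G] (S : Subgroup G) (x : G) (n j : ℕ) (hj : j ≤ n)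
    (h : BlockConclY S (x ^ 2 ^ j) (x ^ 2 ^ n) (2 ^ (n + 1 - j))) : BlockConcl S x n := by
  obtain ⟨R, T, h1, h2, h3, h4, h5, h6, h7⟩ := h
  exact ⟨j, hj, R, T, h1, h2, h3, h4, h5, h6, h7⟩

/-- Transfer of `BlockConclY` from a subgroup `Γ` containing `S`, `y`, `t` back to `G`. -/
theorem h67_blockConclY_of_subgroupOf {G : Type*} [Group G] (Γ S : Subgroup G) (hSΓ : S ≤ Γ)
    (y t : G) (hyΓ : y ∈ Γ) (htΓ : t ∈ Γ) (P : ℕ)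
    (h : BlockConclY (S.subgroupOf Γ) (⟨y, hyΓ⟩ : Γ) (⟨t, htΓ⟩ : Γ) P) : BlockConclY S y t P := by
  obtain ⟨R', T', hR'S, hT'S, hiff, hex, hRinv, hcard, heq⟩ := h
  have hmemR : ∀ g : Γ, (g : G) ∈ R'.map Γ.subtype ↔ g ∈ R' := fun g =>
    Subgroup.mem_map_iff_mem Γ.subtype_injective
  have hmemT : ∀ g : Γ, (g : G) ∈ T'.map Γ.subtype ↔ g ∈ T' := fun g =>
    Subgroup.mem_map_iff_mem Γ.subtype_injective
  have hcR : Nat.card (R'.map Γ.subtype) = Nat.card R' :=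
    (Nat.card_congr (R'.equivMapOfInjective Γ.subtype Γ.subtype_injective).toEquiv).symm
  have hcE : Nat.card {a : G // a ∈ S ∧ t * a * t⁻¹ * a ∈ R'.map Γ.subtype} =
      Nat.card {a : Γ // a ∈ S.subgroupOf Γ ∧
        (⟨t, htΓ⟩ : Γ) * a * (⟨t, htΓ⟩ : Γ)⁻¹ * a ∈ R'} := by
    symm
    refine Nat.card_congr (Equiv.ofBijective
      (fun a => ⟨(a.1 : G), mem_subgroupOf.mp a.2.1, (hmemR _).mpr a.2.2⟩) ⟨?_, ?_⟩)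
    · intro a b hab
      apply Subtype.ext
      apply Subtype.ext
      exact congrArg (fun w : {a : G // a ∈ S ∧
        t * a * t⁻¹ * a ∈ R'.map Γ.subtype} => (w : G)) hab
    · rintro ⟨a, haS, haR⟩
      refine ⟨⟨⟨a, hSΓ haS⟩, mem_subgroupOf.mpr haS, (hmemR _).mp haR⟩, rfl⟩
  refine ⟨R'.map Γ.subtype, T'.map Γ.subtype, ?_, ?_, ?_, ?_, ?_, ?_, ?_⟩
  · rintro _ ⟨g, hg, rfl⟩
    exact mem_subgroupOf.mp (hR'S hg)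
  · rintro _ ⟨g, hg, rfl⟩
    exact mem_subgroupOf.mp (hT'S hg)
  · intro a ha
    have h1 := hiff ⟨a, hSΓ ha⟩ (mem_subgroupOf.mpr ha)
    constructor
    · intro haR b hb
      have h2 := (h1.mp ((hmemR ⟨a, hSΓ ha⟩).mp haR)) ⟨b, hSΓ hb⟩ (mem_subgroupOf.mpr hb)
      exact (hmemT _).mpr h2
    · intro h
      apply (hmemR ⟨a, hSΓ ha⟩).mpr
      apply h1.mpr
      intro b' hb'
      have h2 := h (b' : G) (mem_subgroupOf.mp hb')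
      exact (hmemT (⟨a, hSΓ ha⟩ * b' * (⟨a, hSΓ ha⟩ : Γ)⁻¹ * b'⁻¹)).mp h2
  · obtain ⟨a', ha', b', hb', hnot⟩ := hex
    exact ⟨a', mem_subgroupOf.mp ha', b', mem_subgroupOf.mp hb', fun h => hnot ((hmemT _).mp h)⟩
  · rintro _ ⟨g, hg, rfl⟩
    exact (hmemR _).mpr (hRinv g hg)
  · rw [hcE, hcR]
    exact hcard
  · rw [hcE, hcR]
    intro hE a ha haR
    have h1 := heq hE ⟨a, hSΓ ha⟩ (mem_subgroupOf.mpr ha) ((hmemR _).mp haR)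
    exact (hmemR _).mpr h1

/-- One irreducible block: `T` the kernel, `R` the scalars. -/
theorem h67_block_abs {K : Type uK} [Field K] [IsAlgClosed K] {M : Type uV} [AddCommGroup M]
    [Module K M] [FiniteDimensional K M] [Nontrivial M] {Γ : Type uG} [Group Γ]
    (BC : BlkCountStmt.{uK, uV, uG})
    (ψ : Γ →* Module.End K M) (Ss : Subgroup Γ) [Finite Ss] (y : Γ) {c : ℕ} (hc : 1 ≤ c)
    (hodd : Odd (Nat.card Ss)) (hSK : (Nat.card Ss : K) ≠ 0) (h2K : (2 : K) ≠ 0)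
    (hy : y ^ 2 ^ c = 1) (hyS : ∀ u ∈ Ss, y * u * y⁻¹ ∈ Ss)
    (hirr : ∀ N : Submodule K M, (∀ u ∈ Ss, ∀ v ∈ N, ψ u v ∈ N) → N = ⊥ ∨ N = ⊤)
    (hfix : ∀ m : M, ψ y m = m → m = 0)
    (hcl : ∀ a ∈ Ss, ∀ b ∈ Ss, ∀ d ∈ Ss, (a * b * a⁻¹ * b⁻¹) * d = d * (a * b * a⁻¹ * b⁻¹))
    (hnab : ∃ a ∈ Ss, ∃ b ∈ Ss, ψ (a * b * a⁻¹ * b⁻¹) ≠ 1) :
    BlockConclY Ss y (y ^ 2 ^ (c - 1)) (2 ^ c) := by
  set σ : Representation K Ss M := ψ.comp Ss.subtype with hσ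
  have hirrσ : HH.Irr σ := by
    intro W hW
    apply hirr W
    intro u hu v hv
    exact hW ⟨u, hu⟩ ⟨v, hv, rfl⟩
  have hschur : ∀ g : Γ, (∀ h ∈ Ss, ψ g * ψ h = ψ h * ψ g) → ∃ l : K, ψ g = l • 1 := by
    intro g hg
    apply hirrσ.schur (ψ g)
    intro h
    exact hg h.1 h.2
  have hcs : ∀ u ∈ Ss, ∀ w ∈ Ss, ∃ l : K, ψ (u * w * u⁻¹ * w⁻¹) = l • 1 := by
    intro u hu w hw
    apply hschur
    intro h hh
    rw [← map_mul, ← map_mul, hcl u hu w hw h hh]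
  set T : Subgroup Γ := Ss ⊓ ψ.ker with hT
  set R : Subgroup Γ := Ss ⊓ HH.scalarSubgroup ψ with hR
  have hRS : R ≤ Ss := inf_le_left
  have hRiff : ∀ u ∈ Ss, u ∈ R ↔ ∃ l : K, ψ u = l • 1 := by
    intro u hu
    rw [hR, Subgroup.mem_inf, HH.mem_scalarSubgroup]
    exact ⟨fun h => h.2, fun h => ⟨hu, h⟩⟩
  have hcomm_mem : ∀ a ∈ Ss, ∀ b ∈ Ss, a * b * a⁻¹ * b⁻¹ ∈ Ss := fun a ha b hb =>
    Ss.mul_mem (Ss.mul_mem (Ss.mul_mem ha hb) (Ss.inv_mem ha)) (Ss.inv_mem hb)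
  obtain ⟨hB1, hB2⟩ := BC ψ Ss y hc hodd hSK h2K hy hyS hirr hcs hfix R hRS hRiff
  refine ⟨R, T, hRS, inf_le_left, ?_, ?_, ?_, hB1, hB2⟩
  · intro a ha
    constructor
    · intro haR b hb
      obtain ⟨l, hl⟩ := (hRiff a ha).mp haR
      refine ⟨hcomm_mem a ha b hb, ?_⟩
      show a * b * a⁻¹ * b⁻¹ ∈ ψ.ker
      rw [MonoidHom.mem_ker]
      have h1 : ψ (a * b) = ψ (b * a) := by
        rw [map_mul, map_mul, hl, smul_mul_assoc, one_mul, mul_smul_comm, mul_one]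
      have h2 : a * b * a⁻¹ * b⁻¹ = (a * b) * (b * a)⁻¹ := by group
      rw [h2, map_mul, h1, ← map_mul, mul_inv_cancel, map_one]
    · intro h
      apply (hRiff a ha).mpr
      apply hschur
      intro b hb
      have h1 : ψ (a * b * a⁻¹ * b⁻¹) = 1 := MonoidHom.mem_ker.mp (h b hb).2
      have h2 : a * b = (a * b * a⁻¹ * b⁻¹) * (b * a) := by group
      rw [← map_mul, h2, map_mul, h1, one_mul, map_mul]
  · obtain ⟨a, ha, b, hb, hab⟩ := hnab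
    exact ⟨a, ha, b, hb, fun h => hab (MonoidHom.mem_ker.mp h.2)⟩
  · intro a ha
    refine ⟨hyS a ha.1, ?_⟩
    exact (HH.scalarSubgroup_normal ψ).conj_mem a ha.2 y

end Cfsg.Agent.Helper67.G2
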