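import Mathlib
import Cfsg.Agent.Lib.Helper31.G2Defs
import Cfsg.Agent.Lib.Helper31.SGFin3
import Cfsg.Agent.Lib.Helper31.SGPieces
import Cfsg.Agent.Lib.Helper67.G2BLOCKAbs

set_option autoImplicit false
set_option maxHeartbeats 1600000

/-!
# (BLOCK), irreducible case: Clifford tower and one block (piece of S3795, helper31 server)
-/

namespace Cfsg.Agent.Helper67.G2

open Module Subgroup Cfsg.Agent.Helper31.SG Cfsg.Agent.Helper31.G2 Cfsg.Agent.Helper31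

universe u uG uK uV

/-- (BLOCK) in the irreducible case, from (BLKCOUNT). -/
theorem g2_block_irr {K : Type uK} [Field K] [IsAlgClosed K] {r s : ℕ} [hr : Fact r.Prime]
    [CharP K r] (BC : BlkCountStmt.{uK, uV, uG}) (hs : s.Prime) (hs2 : s ≠ 2) (hr2 : r ≠ 2)
    (hrs : r ≠ s) : BlockIrr.{uG, uK, uV} K s := by
  intro V _ _ _ G _ _ ρ S x n hS hxS hx hfixV hcl hnab hgen hirrG
  classical
  have hnt : Nontrivial V := by
    by_contra hcon
    rw [not_nontrivial_iff_subsingleton] at hcon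
    obtain ⟨a, ha, b, hb, hab⟩ := hnab
    apply hab
    apply LinearMap.ext
    intro v
    exact Subsingleton.elim _ _
  have hSn : S.Normal := by
    rw [← normalizer_eq_top_iff, eq_top_iff, ← hgen]
    exact sup_le le_normalizer
      (HH.zpowers_le_normalizer_of_conj_mem S x (pow_pos (by norm_num) (n + 1)) hx hxS)
  -- the Clifford tower
  set τ : Representation K S V := ρ.comp S.subtype with hτ
  set A : End K V := ρ x with hA
  set Ai : End K V := ρ x⁻¹ with hAi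
  set α : Equiv.Perm S := (MulAut.conjNormal x : MulAut S).toEquiv with hα
  have hTw : HH.Twist τ A Ai α := by
    refine ⟨?_, ?_, ?_⟩
    · rw [hA, hAi, ← map_mul, mul_inv_cancel, map_one]
    · rw [hA, hAi, ← map_mul, inv_mul_cancel, map_one]
    · intro g
      show ρ x * ρ (g : G) = ρ ((α g : S) : G) * ρ x
      rw [← map_mul, ← map_mul]
      congr 1
      have : ((α g : S) : G) = x * g * x⁻¹ := MulAut.conjNormal_apply x g
      rw [this]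
      group
  have hAP : A ^ (2 ^ (n + 1)) = 1 := by rw [hA, ← map_pow, hx, map_one]
  have hirr' : ∀ U : Submodule K V, HH.Inv τ U → (∀ u ∈ U, A u ∈ U) → U = ⊥ ∨ U = ⊤ := by
    intro U hU hAU
    apply hirrG
    exact HH.inv_of_gen ρ S x hgen U (fun g hg u hu => hU ⟨g, hg⟩ u hu) hAU
  obtain ⟨j, hj, V₀, hV₀, hV₀A, hsup, hdim⟩ :=
    SGP.sg_clifford_tower 2 Nat.prime_two (n + 1) V S τ A Ai α hTw hAP hirr'
  set J := 2 ^ j with hJ
  have hJpos : 0 < J := pow_pos (by norm_num) j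
  have hinj := block_inj A V₀ J hJpos hsup hdim
  have hfixV₀ : ∀ v ∈ V₀, (A ^ J) v = v → v = 0 := by
    intro v hv hfix
    apply hinj v hv
    apply hfixV
    exact sum_pow_fixed A J v hfix
  have hjn : j ≤ n := by
    by_contra hcon
    have hj' : j = n + 1 := by omega
    obtain ⟨v, hv, hvne⟩ := (Submodule.ne_bot_iff V₀).mp hV₀.2.1
    apply hvne
    apply hfixV₀ v hv
    rw [hJ, hj', hAP]
    rfl
  set y' := x ^ J with hy'
  have hρy' : ρ y' = A ^ J := by rw [hy', map_pow]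
  -- the block
  have : Nontrivial V₀ := (Submodule.nontrivial_iff_ne_bot).mpr hV₀.2.1
  set Γ : Subgroup G := HH.stab ρ V₀ with hΓ
  have hSΓ : S ≤ Γ := fun g hg => (HH.mem_stab ρ V₀).mpr (fun u hu => hV₀.1 ⟨g, hg⟩ u hu)
  have hyΓ : y' ∈ Γ := (HH.mem_stab ρ V₀).mpr (fun u hu => by rw [hρy']; exact hV₀A u hu)
  set φ : Representation K Γ V := ρ.comp Γ.subtype with hφ
  have hInv : HH.Inv φ V₀ := HH.inv_comp_stab ρ V₀
  set ψ : Representation K Γ V₀ := HH.subRep φ V₀ hInv with hψ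
  set Ss : Subgroup Γ := S.subgroupOf Γ with hSs
  set y'' : Γ := ⟨y', hyΓ⟩ with hy''
  have hψapp : ∀ (a : Γ) (u : V₀), ((ψ a u : V₀) : V) = ρ (a : G) (u : V) := fun a u => rfl
  have hc : 1 ≤ n + 1 - j := by omega
  have hcardS : Nat.card Ss = Nat.card S :=
    Nat.card_congr (subgroupOfEquivOfLe hSΓ).toEquiv
  have hsF : Fact s.Prime := ⟨hs⟩
  obtain ⟨k, hk⟩ := IsPGroup.exists_card_eq hS
  have hodd : Odd (Nat.card Ss) := by
    rw [hcardS, hk]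
    exact (hs.odd_of_ne_two hs2).pow
  have hsK : (s : K) ≠ 0 := by
    intro h0
    have h1 := (CharP.cast_eq_zero_iff K r s).mp h0
    exact hrs ((Nat.prime_dvd_prime_iff_eq hr.out hs).mp h1)
  have hSK : (Nat.card Ss : K) ≠ 0 := by
    rw [hcardS, hk, Nat.cast_pow]
    exact pow_ne_zero _ hsK
  have h2K : (2 : K) ≠ 0 := by
    intro h0
    have h0' : ((2 : ℕ) : K) = 0 := by exact_mod_cast h0
    have h1 := (CharP.cast_eq_zero_iff K r 2).mp h0'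
    exact hr2 ((Nat.prime_dvd_prime_iff_eq hr.out Nat.prime_two).mp h1)
  have hypow : y' ^ 2 ^ (n + 1 - j) = 1 := by
    rw [hy', hJ, ← pow_mul, ← pow_add]
    have : j + (n + 1 - j) = n + 1 := by omega
    rw [this, hx]
  have hy : y'' ^ 2 ^ (n + 1 - j) = 1 := by
    apply Subtype.ext
    rw [Subgroup.coe_pow, Subgroup.coe_one]
    exact hypow
  have hyS : ∀ u ∈ Ss, y'' * u * y''⁻¹ ∈ Ss := by
    intro u hu
    rw [hSs, mem_subgroupOf] at hu ⊢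
    have := hSn.conj_mem _ hu y'
    simpa [hy''] using this
  have hirr : ∀ N : Submodule K V₀, (∀ u ∈ Ss, ∀ v ∈ N, ψ u v ∈ N) → N = ⊥ ∨ N = ⊤ := by
    intro N hN
    have h1 : N.map V₀.subtype ≤ V₀ := by
      rintro _ ⟨v, _, rfl⟩
      exact v.2
    have h2 : HH.Inv τ (N.map V₀.subtype) := by
      rintro g _ ⟨v, hv, rfl⟩
      exact ⟨ψ ⟨g.1, hSΓ g.2⟩ v, hN ⟨g.1, hSΓ g.2⟩ (mem_subgroupOf.mpr g.2) v hv, rfl⟩
    rcases hV₀.2.2 _ h2 h1 with h | h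
    · left
      apply Submodule.map_injective_of_injective V₀.injective_subtype
      rw [h, Submodule.map_bot]
    · right
      apply Submodule.map_injective_of_injective V₀.injective_subtype
      rw [h, Submodule.map_subtype_top]
  have hfix : ∀ m : V₀, ψ y'' m = m → m = 0 := by
    intro u hu
    apply Subtype.ext
    apply hfixV₀ u u.2
    have := congrArg (fun z : V₀ => (z : V)) hu
    rw [← hρy']
    simpa [hψapp] using this
  have hcl' : ∀ a ∈ Ss, ∀ b ∈ Ss, ∀ d ∈ Ss,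
      (a * b * a⁻¹ * b⁻¹) * d = d * (a * b * a⁻¹ * b⁻¹) := by
    intro a ha b hb d hd
    apply Subtype.ext
    exact hcl _ (mem_subgroupOf.mp ha) _ (mem_subgroupOf.mp hb) _ (mem_subgroupOf.mp hd)
  have hnab' : ∃ a ∈ Ss, ∃ b ∈ Ss, ψ (a * b * a⁻¹ * b⁻¹) ≠ 1 := by
    by_contra hcon
    push Not at hcon
    obtain ⟨a, ha, b, hb, hab⟩ := hnab
    apply hab
    have hle : (⊤ : Submodule K V) ≤ LinearMap.eqLocus (ρ (a * b * a⁻¹ * b⁻¹)) 1 := by
      rw [← hsup]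
      apply iSup₂_le
      intro i _
      rintro _ ⟨v, hv, rfl⟩
      rw [LinearMap.mem_eqLocus, Module.End.one_apply]
      set xi := x ^ i with hxi
      have ha' : xi⁻¹ * a * xi ∈ S := by
        have := hSn.conj_mem a ha xi⁻¹
        simpa using this
      have hb' : xi⁻¹ * b * xi ∈ S := by
        have := hSn.conj_mem b hb xi⁻¹
        simpa using this
      have h1 := hcon ⟨xi⁻¹ * a * xi, hSΓ ha'⟩ (mem_subgroupOf.mpr ha')
        ⟨xi⁻¹ * b * xi, hSΓ hb'⟩ (mem_subgroupOf.mpr hb')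
      have h2 := congrArg (fun f : End K V₀ => ((f ⟨v, hv⟩ : V₀) : V)) h1
      simp only [hψapp, Module.End.one_apply] at h2
      have h3 : ((⟨xi⁻¹ * a * xi, hSΓ ha'⟩ * ⟨xi⁻¹ * b * xi, hSΓ hb'⟩ *
          (⟨xi⁻¹ * a * xi, hSΓ ha'⟩ : Γ)⁻¹ * (⟨xi⁻¹ * b * xi, hSΓ hb'⟩ : Γ)⁻¹ : Γ) : G) =
          xi⁻¹ * (a * b * a⁻¹ * b⁻¹) * xi := by
        simp only [Subgroup.coe_mul, Subgroup.coe_inv]
        group
      rw [h3] at h2
      have h4 : A ^ i = ρ xi := by rw [hA, hxi, map_pow]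
      rw [h4]
      have h5 : a * b * a⁻¹ * b⁻¹ * xi = xi * (xi⁻¹ * (a * b * a⁻¹ * b⁻¹) * xi) := by group
      rw [← Module.End.mul_apply, ← map_mul, h5, map_mul, Module.End.mul_apply, h2]
    apply LinearMap.ext
    intro v
    exact LinearMap.mem_eqLocus.mp (hle (Submodule.mem_top (x := v)))
  have hY := h67_block_abs BC ψ Ss y'' hc hodd hSK h2K hy hyS hirr hfix hcl' hnab'
  have htΓ : y' ^ 2 ^ (n + 1 - j - 1) ∈ Γ := Γ.pow_mem hyΓ _
  have heq : y'' ^ 2 ^ (n + 1 - j - 1) = (⟨y' ^ 2 ^ (n + 1 - j - 1), htΓ⟩ : Γ) := by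
    apply Subtype.ext
    rw [Subgroup.coe_pow]
  rw [heq] at hY
  have hY' := h67_blockConclY_of_subgroupOf Γ S hSΓ y' (y' ^ 2 ^ (n + 1 - j - 1)) hyΓ htΓ _ hY
  have ht : y' ^ 2 ^ (n + 1 - j - 1) = x ^ 2 ^ n := by
    rw [hy', hJ, ← pow_mul, ← pow_add]
    have : j + (n + 1 - j - 1) = n := by omega
    rw [this]
  rw [ht, hy', hJ] at hY'
  exact h67_blockConcl_of_Y S x n j hjn hY'

/-- (BLOCK) from (BLKCOUNT). -/
theorem g2_block_of_count {K : Type uK} [Field K] [IsAlgClosed K] {r s : ℕ} [hr : Fact r.Prime]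
    [CharP K r] (BC : BlkCountStmt.{uK, uV, uG})
    (hs : s.Prime) (hs2 : s ≠ 2) (hr2 : r ≠ 2) (hrs : r ≠ s)
    {V : Type uV} [AddCommGroup V] [Module K V] [FiniteDimensional K V]
    {G : Type uG} [Group G] [Finite G] (ρ : Representation K G V) (S : Subgroup G) (x : G) (n : ℕ)
    (hS : IsPGroup s S) (hxS : ∀ a ∈ S, x * a * x⁻¹ ∈ S) (hx : x ^ 2 ^ (n + 1) = 1)
    (hfix : ∀ v : V, ρ x v = v → v = 0)
    (hcl : ∀ a ∈ S, ∀ b ∈ S, ∀ c ∈ S, (a * b * a⁻¹ * b⁻¹) * c = c * (a * b * a⁻¹ * b⁻¹))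
    (hnab : ∃ a ∈ S, ∃ b ∈ S, ρ (a * b * a⁻¹ * b⁻¹) ≠ 1) :
    ∃ j : ℕ, j ≤ n ∧ ∃ R T : Subgroup G, R ≤ S ∧ T ≤ S ∧
      (∀ a ∈ S, (a ∈ R ↔ ∀ b ∈ S, a * b * a⁻¹ * b⁻¹ ∈ T)) ∧
      (∃ a ∈ S, ∃ b ∈ S, a * b * a⁻¹ * b⁻¹ ∉ T) ∧
      (∀ a ∈ R, x ^ 2 ^ j * a * (x ^ 2 ^ j)⁻¹ ∈ R) ∧
      Nat.card {a : G // a ∈ S ∧ x ^ 2 ^ n * a * (x ^ 2 ^ n)⁻¹ * a ∈ R} ≤
        (2 ^ (n + 1 - j) - 1) ^ 2 * Nat.card R ∧
      (Nat.card {a : G // a ∈ S ∧ x ^ 2 ^ n * a * (x ^ 2 ^ n)⁻¹ * a ∈ R} =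
          (2 ^ (n + 1 - j) - 1) ^ 2 * Nat.card R →
        ∀ a ∈ S, x ^ 2 ^ n * a * (x ^ 2 ^ n)⁻¹ * a⁻¹ ∈ R →
          x ^ 2 ^ j * a * (x ^ 2 ^ j)⁻¹ * a⁻¹ ∈ R) :=
  g2_block_of_irr (g2_block_irr BC hs hs2 hr2 hrs) hs hs2 hr2 hrs ρ S x n hS hxS hx hfix hcl hnab

end Cfsg.Agent.Helper67.G2
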