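import Mathlib
import Cfsg.Agent.Lib.Helper31.G2Defs
import Cfsg.Agent.Lib.Helper52.FixedPointFree
import Cfsg.Agent.S3794

set_option autoImplicit false

/-!
# Gross `p = 2` (S3795), piece (MAIN2) of helper31's server G2

`g2_main`: the key statement `Key2Stmt` gives the Fitting-height chain of length `2n - 2`, by
induction on `n ≥ 2` (generalised to `σ ^ 2 ^ n = 1`, so that no padding of the chain is needed).
Model: `Helper57.SG.helper57_sg_main_aux`.
-/

namespace Cfsg.Agent.Helper67.G2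

open Subgroup Cfsg.Agent.Helper31.SG Cfsg.Agent.Helper31.G2

universe u

/-- prepend two terms `⊥ ≤ N₁ ≤ N` to the preimage of a chain of `G ⧸ N`. -/
theorem h67_prepend2 {G : Type u} [Group G] (N₁ N : Subgroup G) [hN : N.Normal] (hN₁ : N₁.Normal)
    (hle : N₁ ≤ N) (hnil₁ : ∃ k : ℕ, N₁.lowerCentralSeries k ≤ ⊥)
    (hnil₂ : ∃ k : ℕ, N.lowerCentralSeries k ≤ N₁) (L : ℕ)
    (F' : Fin (L + 1) → Subgroup (G ⧸ N)) (h0 : F' 0 = ⊥) (hlast : F' (Fin.last L) = ⊤)
    (hmono : Monotone F') (hnorm : ∀ i, (F' i).Normal)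
    (hnil : ∀ i : Fin L, ∃ k : ℕ, (F' i.succ).lowerCentralSeries k ≤ F' i.castSucc) :
    ∃ F : Fin ((L + 2) + 1) → Subgroup G, F 0 = ⊥ ∧ F (Fin.last (L + 2)) = ⊤ ∧ Monotone F ∧
      (∀ i, (F i).Normal) ∧
      ∀ i : Fin (L + 2), ∃ k : ℕ, (F i.succ).lowerCentralSeries k ≤ F i.castSucc := by
  have hcomap0 : (F' 0).comap (QuotientGroup.mk' N) = N := by
    rw [h0]
    show (QuotientGroup.mk' N).ker = N
    exact QuotientGroup.ker_mk' N
  -- first prepend `N₁`
  let F₁ : Fin ((L + 1) + 1) → Subgroup G :=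
    Fin.cons N₁ (fun i => (F' i).comap (QuotientGroup.mk' N))
  have hF₁mono : Monotone F₁ := by
    intro i j hij
    induction i using Fin.cases with
    | zero =>
      induction j using Fin.cases with
      | zero => exact le_rfl
      | succ j =>
        show N₁ ≤ (F' j).comap (QuotientGroup.mk' N)
        refine le_trans hle ?_
        have h1 : (F' 0).comap (QuotientGroup.mk' N) ≤ (F' j).comap (QuotientGroup.mk' N) :=
          Subgroup.comap_mono (hmono (Fin.zero_le j))
        rwa [hcomap0] at h1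
    | succ i =>
      induction j using Fin.cases with
      | zero => exact absurd hij (by simp)
      | succ j =>
        show (F' i).comap (QuotientGroup.mk' N) ≤ (F' j).comap (QuotientGroup.mk' N)
        exact Subgroup.comap_mono (hmono (Fin.succ_le_succ_iff.mp hij))
  have hF₁norm : ∀ i, (F₁ i).Normal := by
    intro i
    induction i using Fin.cases with
    | zero => exact hN₁
    | succ i => exact (hnorm i).comap _
  have hF₁nil : ∀ i : Fin (L + 1), ∃ k : ℕ, (F₁ i.succ).lowerCentralSeries k ≤ F₁ i.castSucc := by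
    intro i
    induction i using Fin.cases with
    | zero =>
      obtain ⟨k, hk⟩ := hnil₂
      refine ⟨k, ?_⟩
      show ((F' 0).comap (QuotientGroup.mk' N)).lowerCentralSeries k ≤ N₁
      rw [hcomap0]
      exact hk
    | succ j =>
      obtain ⟨k, hk⟩ := hnil j
      refine ⟨k, ?_⟩
      show ((F' j.succ).comap (QuotientGroup.mk' N)).lowerCentralSeries k ≤
        (F' j.castSucc).comap (QuotientGroup.mk' N)
      rw [← Subgroup.map_le_iff_le_comap, Subgroup.map_lowerCentralSeries]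
      refine le_trans ?_ hk
      exact Subgroup.lowerCentralSeries_mono k (Subgroup.map_comap_le _ _)
  have hF₁last : F₁ (Fin.last (L + 1)) = ⊤ := by
    show (Fin.cons N₁ (fun i => (F' i).comap (QuotientGroup.mk' N)) : Fin ((L + 1) + 1) → Subgroup G)
      (Fin.last (L + 1)) = ⊤
    rw [← Fin.succ_last, Fin.cons_succ, hlast, Subgroup.comap_top]
  -- then prepend `⊥`
  refine ⟨Fin.cons ⊥ F₁, ?_, ?_, ?_, ?_, ?_⟩
  · exact Fin.cons_zero _ _
  · rw [← Fin.succ_last, Fin.cons_succ, hF₁last]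
  · intro i j hij
    induction i using Fin.cases with
    | zero => rw [Fin.cons_zero]; exact bot_le
    | succ i =>
      induction j using Fin.cases with
      | zero => exact absurd hij (by simp)
      | succ j =>
        rw [Fin.cons_succ, Fin.cons_succ]
        exact hF₁mono (Fin.succ_le_succ_iff.mp hij)
  · intro i
    induction i using Fin.cases with
    | zero => rw [Fin.cons_zero]; infer_instance
    | succ i => rw [Fin.cons_succ]; exact hF₁norm i
  · intro i
    induction i using Fin.cases with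
    | zero =>
      obtain ⟨k, hk⟩ := hnil₁
      refine ⟨k, ?_⟩
      rw [Fin.castSucc_zero, Fin.cons_zero, Fin.cons_succ]
      exact hk
    | succ j =>
      obtain ⟨k, hk⟩ := hF₁nil j
      refine ⟨k, ?_⟩
      rw [← Fin.succ_castSucc, Fin.cons_succ, Fin.cons_succ]
      exact hk

/-- The generalised form: only `σ ^ 2 ^ (m + 2) = 1` is assumed; chain of length `2 m + 2`. -/
theorem h67_g2_main_aux (KEY : Key2Stmt.{u}) :
    ∀ (m : ℕ) (G : Type u) [Group G] [Finite G], Group.IsSolvable G → ∀ (σ : MulAut G),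
      σ ^ 2 ^ (m + 2) = 1 → (∀ g : G, σ g = g → g = 1) →
      ∃ F : Fin ((2 * m + 2) + 1) → Subgroup G, F 0 = ⊥ ∧ F (Fin.last (2 * m + 2)) = ⊤ ∧
        Monotone F ∧ (∀ i, (F i).Normal) ∧
        ∀ i : Fin (2 * m + 2), ∃ k : ℕ, (F i.succ).lowerCentralSeries k ≤ F i.castSucc := by
  intro m
  induction m with
  | zero =>
    intro G _ _ hsol σ hσ hfpf
    have hσ4 : σ ^ 4 = 1 := by simpa using hσ
    have hnil : Group.IsNilpotent (commutator G) := Cfsg.Agent.S3794.result hsol σ hσ4 hfpf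
    obtain ⟨k₀, hk₀⟩ := (Subgroup.isNilpotent_iff_lowerCentralSeries (commutator G)).mp hnil
    -- chain `⊥ ≤ G' ≤ ⊤`
    have hcn : (commutator G).Normal := inferInstance
    refine ⟨Fin.cons ⊥ (Fin.cons (commutator G) (fun _ => ⊤)), ?_, ?_, ?_, ?_, ?_⟩
    · exact Fin.cons_zero _ _
    · show (Fin.cons ⊥ (Fin.cons (commutator G) (fun _ => ⊤)) : Fin 3 → Subgroup G) (Fin.last 2) = ⊤
      rfl
    · intro i j hij
      fin_cases i <;> fin_cases j <;> first
        | exact le_rfl
        | exact bot_le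
        | exact le_top
        | exact absurd hij (by decide)
    · intro i
      fin_cases i
      · show (⊥ : Subgroup G).Normal; infer_instance
      · show (commutator G).Normal; exact hcn
      · show (⊤ : Subgroup G).Normal; infer_instance
    · intro i
      fin_cases i
      · refine ⟨k₀, ?_⟩
        show (commutator G).lowerCentralSeries k₀ ≤ ⊥
        rw [hk₀]
      · refine ⟨1, ?_⟩
        show (⊤ : Subgroup G).lowerCentralSeries 1 ≤ commutator G
        rw [Subgroup.top_lowerCentralSeries_one]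
  | succ m ih =>
    intro G _ _ hsol σ hσ hfpf
    obtain ⟨N₁, N, hle, hN₁n, hNn, hN₁inv, hNinv, hN₁nil, hNN₁, hN⟩ :=
      KEY G hsol σ (m + 2) hσ hfpf
    have := hNn
    have hτfpf : ∀ y : G ⧸ N, (Cfsg.Agent.Helper52.quotEquiv σ N hNinv) y = y → y = 1 :=
      Cfsg.Agent.Helper52.quotEquiv_fpf σ hfpf N hNinv
    have hτpow : (Cfsg.Agent.Helper52.quotEquiv σ N hNinv : MulAut (G ⧸ N)) ^ 2 ^ (m + 2) = 1 := by
      ext y
      obtain ⟨x, rfl⟩ := QuotientGroup.mk_surjective y
      rw [Cfsg.Agent.Helper52.mulAut_pow_apply, Cfsg.Agent.Helper52.quotEquiv_iterate,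
        ← Cfsg.Agent.Helper52.mulAut_pow_apply]
      show (((σ ^ 2 ^ (m + 2)) x : G) : G ⧸ N) = (x : G ⧸ N)
      rw [eq_comm, QuotientGroup.eq]
      exact hN x
    have : Group.IsSolvable G := hsol
    obtain ⟨F', h0, hlast, hmono, hnorm, hnil⟩ :=
      ih (G ⧸ N) inferInstance (Cfsg.Agent.Helper52.quotEquiv σ N hNinv) hτpow hτfpf
    obtain ⟨k₁, hk₁⟩ := (Subgroup.isNilpotent_iff_lowerCentralSeries N₁).mp hN₁nil
    have e : 2 * (m + 1) + 2 = (2 * m + 2) + 2 := by ring
    rw [e]
    exact h67_prepend2 N₁ N hN₁n hle ⟨k₁, le_of_eq hk₁⟩ hNN₁ (2 * m + 2) F' h0 hlast hmono hnorm hnil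

/-- (MAIN2) the chain of length `2 n - 2`. -/
theorem g2_main (KEY : Key2Stmt.{u}) :
    ∀ (n : ℕ), 1 < n → ∀ (G : Type u) [Group G] [Finite G], Group.IsSolvable G → ∀ (σ : MulAut G),
      orderOf σ = 2 ^ n → (∀ g : G, σ g = g → g = 1) →
      ∃ F : Fin ((2 * n - 2) + 1) → Subgroup G, F 0 = ⊥ ∧ F (Fin.last (2 * n - 2)) = ⊤ ∧
        Monotone F ∧ (∀ i, (F i).Normal) ∧
        ∀ i : Fin (2 * n - 2), ∃ k : ℕ, (F i.succ).lowerCentralSeries k ≤ F i.castSucc := by
  intro n hn G _ _ hsol σ hσ hfpf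
  obtain ⟨m, rfl⟩ : ∃ m, n = m + 2 := ⟨n - 2, by omega⟩
  have e : 2 * (m + 2) - 2 = 2 * m + 2 := by omega
  rw [e]
  exact h67_g2_main_aux KEY m G hsol σ (by rw [← hσ]; exact pow_orderOf_eq_one σ) hfpf

end Cfsg.Agent.Helper67.G2
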