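import Mathlib
import Cfsg.Agent.Lib.Helper32.C3Defs

/-!
# helper32 lemma server "C3" (row S4415): piece I1 `two_le_finrank_map_dl`
-/

set_option autoImplicit false

namespace Cfsg.Agent.Helper67.C3

open Cfsg.Agent.Helper32.C3

universe u v

section

variable {G : Type u} [Group G] {V : Type v} [AddCommGroup V] [Module (ZMod 3) V]

theorem i1_conj_apply (ρ : Representation (ZMod 3) G V) {b q q' : G} (h : b * q * b⁻¹ = q')
    (y : V) : ρ q' (ρ b y) = ρ b (ρ q y) := by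
  have h1 : q' * b = b * q := by rw [← h]; group
  calc ρ q' (ρ b y) = (ρ q' * ρ b) y := rfl
    _ = ρ (q' * b) y := by rw [map_mul]
    _ = ρ (b * q) y := by rw [h1]
    _ = (ρ b * ρ q) y := by rw [map_mul]
    _ = ρ b (ρ q y) := rfl

theorem i1_rho_injective (ρ : Representation (ZMod 3) G V) (b : G) : Function.Injective (ρ b) := by
  intro x y hxy
  have h1 : ∀ z : V, ρ b⁻¹ (ρ b z) = z := by
    intro z
    calc ρ b⁻¹ (ρ b z) = (ρ b⁻¹ * ρ b) z := rfl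
      _ = ρ (b⁻¹ * b) z := by rw [map_mul]
      _ = z := by rw [inv_mul_cancel, map_one]; rfl
  rw [← h1 x, ← h1 y, hxy]

/-- weight vector case -/
theorem i1_eigen [Finite V] (ρ : Representation (ZMod 3) G V) (b q₁ q₂ q₃ : G)
    (h12 : b * q₁ * b⁻¹ = q₂) (h23 : b * q₂ * b⁻¹ = q₃) (h31 : b * q₃ * b⁻¹ = q₁)
    (M : Submodule (ZMod 3) V) (hMb : ∀ v ∈ M, ρ b v ∈ M)
    (x : V) (hxM : x ∈ M) (hx0 : x ≠ 0) (e1 : ρ q₁ x = -x) (e2 : ρ q₂ x = x)
    (e3 : ρ q₃ x = -x) :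
    2 ≤ Module.finrank (ZMod 3) ↥(M.map (dl ρ b)) := by
  have hTx : ρ b x ∈ M := hMb x hxM
  have a2Tx : ρ q₂ (ρ b x) = - ρ b x := by rw [i1_conj_apply ρ h12, e1, map_neg]
  have a2TTx : ρ q₂ (ρ b (ρ b x)) = - ρ b (ρ b x) := by
    rw [i1_conj_apply ρ h12, i1_conj_apply ρ h31, e3, map_neg, map_neg]
  have a1Tx : ρ q₁ (ρ b x) = - ρ b x := by rw [i1_conj_apply ρ h31, e3, map_neg]
  have a1TTx : ρ q₁ (ρ b (ρ b x)) = ρ b (ρ b x) := by
    rw [i1_conj_apply ρ h31, i1_conj_apply ρ h23, e2]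
  have hTTx0 : ρ b (ρ b x) ≠ 0 := by
    intro h0
    apply hx0
    apply i1_rho_injective ρ b
    apply i1_rho_injective ρ b
    rw [h0, map_zero, map_zero]
  have h2ne : (2 : ZMod 3) ≠ 0 := by decide
  have hli : LinearIndependent (ZMod 3)
      ![(⟨dl ρ b x, Submodule.mem_map_of_mem hxM⟩ : ↥(M.map (dl ρ b))),
        (⟨dl ρ b (ρ b x), Submodule.mem_map_of_mem hTx⟩ : ↥(M.map (dl ρ b)))] := by
    rw [LinearIndependent.pair_iff]
    intro s t hst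
    have hz : s • (ρ b x - x) + t • (ρ b (ρ b x) - ρ b x) = 0 := by
      have := congrArg Subtype.val hst
      simpa [dl_apply] using this
    constructor
    · have h1 := congrArg (fun z => z + ρ q₂ z) hz
      simp only [map_add, map_smul, map_sub, a2Tx, a2TTx, e2, map_zero, add_zero] at h1
      have h2 : (2 * s) • x = 0 := by
        rw [← neg_eq_zero, ← h1]
        module
      rcases smul_eq_zero.mp h2 with h | h
      · exact (mul_eq_zero.mp h).resolve_left h2ne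
      · exact absurd h hx0
    · have h1 := congrArg (fun z => z + ρ q₁ z) hz
      simp only [map_add, map_smul, map_sub, a1Tx, a1TTx, e1, map_zero, add_zero] at h1
      have h2 : (2 * t) • ρ b (ρ b x) = 0 := by
        rw [← h1]
        module
      rcases smul_eq_zero.mp h2 with h | h
      · exact (mul_eq_zero.mp h).resolve_left h2ne
      · exact absurd h hTTx0
  have := hli.fintype_card_le_finrank
  simpa using this

/-- a non-fixed vector for `q₁` -/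
theorem i1_nonfixed [Finite V] (ρ : Representation (ZMod 3) G V) (b q₁ q₂ q₃ : G)
    (h12 : b * q₁ * b⁻¹ = q₂) (h23 : b * q₂ * b⁻¹ = q₃) (h31 : b * q₃ * b⁻¹ = q₁)
    (s1 : q₁ * q₁ = 1) (s2 : q₂ * q₂ = 1) (hcomm : q₁ * q₂ = q₂ * q₁) (hmul : q₁ * q₂ = q₃)
    (M : Submodule (ZMod 3) V) (hMb : ∀ v ∈ M, ρ b v ∈ M)
    (hM1 : ∀ v ∈ M, ρ q₁ v ∈ M) (hM2 : ∀ v ∈ M, ρ q₂ v ∈ M)
    (v : V) (hvM : v ∈ M) (hv : ρ q₁ v ≠ v) :
    2 ≤ Module.finrank (ZMod 3) ↥(M.map (dl ρ b)) := by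
  have A11 : ∀ y : V, ρ q₁ (ρ q₁ y) = y := by
    intro y
    calc ρ q₁ (ρ q₁ y) = (ρ q₁ * ρ q₁) y := rfl
      _ = y := by rw [← map_mul, s1, map_one]; rfl
  have A22 : ∀ y : V, ρ q₂ (ρ q₂ y) = y := by
    intro y
    calc ρ q₂ (ρ q₂ y) = (ρ q₂ * ρ q₂) y := rfl
      _ = y := by rw [← map_mul, s2, map_one]; rfl
  have A12 : ∀ y : V, ρ q₁ (ρ q₂ y) = ρ q₂ (ρ q₁ y) := by
    intro y
    calc ρ q₁ (ρ q₂ y) = (ρ q₁ * ρ q₂) y := rfl
      _ = (ρ q₂ * ρ q₁) y := by rw [← map_mul, hcomm, map_mul]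
      _ = ρ q₂ (ρ q₁ y) := rfl
  have A3 : ∀ y : V, ρ q₃ y = ρ q₁ (ρ q₂ y) := by
    intro y
    rw [← hmul, map_mul]; rfl
  set w : V := v - ρ q₁ v with hw
  have hwM : w ∈ M := M.sub_mem hvM (hM1 v hvM)
  have hw0 : w ≠ 0 := by
    intro h0
    exact hv (sub_eq_zero.mp h0).symm
  have e1w : ρ q₁ w = -w := by
    rw [hw, map_sub, A11]; abel
  -- split by q₂
  by_cases hp : w + ρ q₂ w = 0
  · -- then w - ρ q₂ w = 2 w ≠ 0, eigenvalues (-1, -1, +1): rotate to (q₂, q₃, q₁)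
    have e2w : ρ q₂ w = -w := by
      rw [eq_neg_iff_add_eq_zero, add_comm]; exact hp
    have e3w : ρ q₃ w = w := by
      rw [A3, e2w, map_neg, e1w, neg_neg]
    exact i1_eigen ρ b q₂ q₃ q₁ h23 h31 h12 M hMb w hwM hw0 e2w e3w e1w
  · -- x = w + ρ q₂ w, eigenvalues (-1, +1, -1)
    have hxM : w + ρ q₂ w ∈ M := M.add_mem hwM (hM2 w hwM)
    have e1x : ρ q₁ (w + ρ q₂ w) = -(w + ρ q₂ w) := by
      rw [map_add, A12, e1w, map_neg]; abel
    have e2x : ρ q₂ (w + ρ q₂ w) = w + ρ q₂ w := by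
      rw [map_add, A22]; abel
    have e3x : ρ q₃ (w + ρ q₂ w) = -(w + ρ q₂ w) := by
      rw [A3, e2x, e1x]
    exact i1_eigen ρ b q₁ q₂ q₃ h12 h23 h31 M hMb _ hxM hp e1x e2x e3x

end

/-- **I1.** (`A_4` bound) -/
theorem two_le_finrank_map_dl {G : Type u} [Group G] {V : Type v} [AddCommGroup V]
    [Module (ZMod 3) V] [Finite V] (ρ : Representation (ZMod 3) G V) (Q : Subgroup G) (b : G)
    (hb3 : b ^ 3 = 1) (hQ : Four Q b) (M : Submodule (ZMod 3) V)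
    (hMQ : ∀ q ∈ Q, ∀ v ∈ M, ρ q v ∈ M) (hMb : ∀ v ∈ M, ρ b v ∈ M)
    (hne : ∃ q ∈ Q, ∃ v ∈ M, ρ q v ≠ v) :
    2 ≤ Module.finrank (ZMod 3) ↥(M.map (dl ρ b)) := by
  obtain ⟨hcard, hsq, hconj, q₁, hq₁, hq₁ne⟩ := hQ
  -- the three involutions
  have hq₂ : b * q₁ * b⁻¹ ∈ Q := hconj q₁ hq₁
  have hq₃ : b * (b * q₁ * b⁻¹) * b⁻¹ ∈ Q := hconj _ hq₂
  have h31 : b * (b * (b * q₁ * b⁻¹) * b⁻¹) * b⁻¹ = q₁ := by
    have : b * (b * (b * q₁ * b⁻¹) * b⁻¹) * b⁻¹ = b ^ 3 * q₁ * (b ^ 3)⁻¹ := by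
      simp only [pow_succ, pow_zero, one_mul, mul_inv_rev, mul_assoc]
    rw [this, hb3]; group
  set q₂ : G := b * q₁ * b⁻¹ with hq₂def
  set q₃ : G := b * q₂ * b⁻¹ with hq₃def
  have hconj_inj : ∀ x y : G, b * x * b⁻¹ = b * y * b⁻¹ → x = y := by
    intro x y h
    have := mul_right_cancel h
    exact mul_left_cancel this
  have n12 : q₁ ≠ q₂ := fun h => hq₁ne h.symm
  have n23 : q₂ ≠ q₃ := by
    intro h
    exact n12 (hconj_inj _ _ h)
  have n31 : q₃ ≠ q₁ := by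
    intro h
    apply n23
    apply hconj_inj
    rw [← hq₃def, h31, h]
  have n1 : q₁ ≠ 1 := by
    intro h
    apply n12
    rw [hq₂def, h]; group
  have n2 : q₂ ≠ 1 := by
    intro h
    apply n1
    apply hconj_inj
    rw [← hq₂def, h]; group
  have n3 : q₃ ≠ 1 := by
    intro h
    apply n2
    apply hconj_inj
    rw [← hq₃def, h]; group
  -- `Q` is abelian
  have hinv : ∀ x ∈ Q, x⁻¹ = x := by
    intro x hx
    exact inv_eq_of_mul_eq_one_left (hsq x hx)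
  have hab : ∀ x ∈ Q, ∀ y ∈ Q, x * y = y * x := by
    intro x hx y hy
    have h1 : (x * y)⁻¹ = x * y := hinv _ (Q.mul_mem hx hy)
    rw [mul_inv_rev, hinv x hx, hinv y hy] at h1
    exact h1.symm
  -- `Q = {1, q₁, q₂, q₃}`
  have hfin : Finite ↥Q := Nat.finite_of_card_ne_zero (by rw [hcard]; norm_num)
  have hall : ∀ q ∈ Q, q = 1 ∨ q = q₁ ∨ q = q₂ ∨ q = q₃ := by
    intro q hq
    let f : Fin 4 → ↥Q := ![1, ⟨q₁, hq₁⟩, ⟨q₂, hq₂⟩, ⟨q₃, hq₃⟩]
    have hf : Function.Injective f := by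
      intro i j hij
      have hij' : ((f i : ↥Q) : G) = ((f j : ↥Q) : G) := congrArg Subtype.val hij
      fin_cases i <;> fin_cases j <;> simp [f] at hij' <;> first | rfl | skip
      all_goals first
        | exact absurd hij' n1 | exact absurd hij'.symm n1
        | exact absurd hij' n2 | exact absurd hij'.symm n2
        | exact absurd hij' n3 | exact absurd hij'.symm n3
        | exact absurd hij' n12 | exact absurd hij'.symm n12
        | exact absurd hij' n23 | exact absurd hij'.symm n23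
        | exact absurd hij' n31 | exact absurd hij'.symm n31
    have hbij := hf.bijective_of_nat_card_le (by rw [hcard]; simp)
    obtain ⟨i, hi⟩ := hbij.2 ⟨q, hq⟩
    have hi' : ((f i : ↥Q) : G) = q := by rw [hi]
    fin_cases i <;> simp [f] at hi'
    · exact Or.inl hi'.symm
    · exact Or.inr (Or.inl hi'.symm)
    · exact Or.inr (Or.inr (Or.inl hi'.symm))
    · exact Or.inr (Or.inr (Or.inr hi'.symm))
  -- products
  have s1 : q₁ * q₁ = 1 := hsq q₁ hq₁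
  have s2 : q₂ * q₂ = 1 := hsq q₂ hq₂
  have s3 : q₃ * q₃ = 1 := hsq q₃ hq₃
  have m12 : q₁ * q₂ = q₃ := by
    rcases hall (q₁ * q₂) (Q.mul_mem hq₁ hq₂) with h | h | h | h
    · exfalso
      apply n12
      have : q₁ = q₂⁻¹ := eq_inv_of_mul_eq_one_left h
      rw [this, hinv q₂ hq₂]
    · exfalso
      apply n2
      exact mul_eq_left.mp h
    · exfalso
      apply n1
      exact mul_eq_right.mp h
    · exact h
  have m23 : q₂ * q₃ = q₁ := by
    rw [← m12, hab q₁ hq₁ q₂ hq₂, ← mul_assoc, s2, one_mul]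
  have m31 : q₃ * q₁ = q₂ := by
    rw [← m12, hab q₁ hq₁ q₂ hq₂, mul_assoc, s1, mul_one]
  obtain ⟨q, hq, v, hvM, hv⟩ := hne
  rcases hall q hq with h | h | h | h
  · exfalso
    apply hv
    rw [h, map_one]; rfl
  · rw [h] at hv
    exact i1_nonfixed ρ b q₁ q₂ q₃ rfl rfl h31 s1 s2 (hab q₁ hq₁ q₂ hq₂) m12 M hMb
      (hMQ q₁ hq₁) (hMQ q₂ hq₂) v hvM hv
  · rw [h] at hv
    exact i1_nonfixed ρ b q₂ q₃ q₁ rfl h31 rfl s2 s3 (hab q₂ hq₂ q₃ hq₃) m23 M hMb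
      (hMQ q₂ hq₂) (hMQ q₃ hq₃) v hvM hv
  · rw [h] at hv
    exact i1_nonfixed ρ b q₃ q₁ q₂ h31 rfl rfl s3 s1 (hab q₃ hq₃ q₁ hq₁) m31 M hMb
      (hMQ q₃ hq₃) (hMQ q₁ hq₁) v hvM hv

end Cfsg.Agent.Helper67.C3
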