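import Mathlib
import Cfsg.Agent.Lib.Helper32.C3Defs
import Cfsg.Agent.Lib.Helper48.CoprimeGen

/-!
# helper32 lemma server "C3" (row S4415): piece O4 `comm_Q_of_odd`
-/

set_option autoImplicit false

namespace Cfsg.Agent.Helper67.C3

open Cfsg.Agent.Helper32.C3

universe u v

/-- **O4.** `[Y,Q] = 1` for a `{2,3}'`-subgroup `Y` normalised by `Q` and `b`. -/
theorem comm_Q_of_odd {G : Type u} [Group G] [Finite G] {V : Type v} [AddCommGroup V]
    [Module (ZMod 3) V] [Finite V] (ρ : Representation (ZMod 3) G V)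
    (Q : Subgroup G) (b q₁ q₂ q₃ : G) (v₁ v₂ v₃ : V) (hw : QWeights ρ Q b q₁ q₂ q₃ v₁ v₂ v₃)
    (hb3 : b ^ 3 = 1)
    (hO3 : ∀ y : G, (orderOf y).Coprime 6 → y * q₁ = q₁ * y → q₂ * y * q₂⁻¹ = y⁻¹ → y = 1)
    (Y : Subgroup G) (hY : (Nat.card ↥Y).Coprime 6)
    (hQY : Q ≤ Subgroup.normalizer (Y : Set G)) (hbY : b ∈ Subgroup.normalizer (Y : Set G)) :
    ∀ y ∈ Y, ∀ q ∈ Q, y * q = q * y := by
  classical
  obtain ⟨hmem, hall, hne, hsq, hmul, hconj, hli, hbv, ha1, ha2, ha3, hcom, hfixb, hdec⟩ := hw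
  obtain ⟨n1, n2, n3, n12, n23, n13⟩ := hne
  have hQsq : ∀ x ∈ Q, x * x = 1 := by
    intro x hx
    rcases hall x hx with h | h | h | h
    · rw [h, mul_one]
    · rw [h]; exact hsq.1
    · rw [h]; exact hsq.2.1
    · rw [h]; exact hsq.2.2
  have hQinv : ∀ x ∈ Q, x⁻¹ = x := fun x hx => inv_eq_of_mul_eq_one_left (hQsq x hx)
  have hQab : ∀ x ∈ Q, ∀ y ∈ Q, x * y = y * x := by
    intro x hx y hy
    have h1 : (x * y)⁻¹ = x * y := hQinv _ (Q.mul_mem hx hy)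
    rw [mul_inv_rev, hQinv x hx, hQinv y hy] at h1
    exact h1.symm
  have hQpow : ∀ x ∈ Q, x ^ 2 = 1 := fun x hx => by rw [pow_two]; exact hQsq x hx
  have hcard : 2 ^ 2 ≤ Nat.card ↥Q := by
    let f : Fin 4 → ↥Q := ![1, ⟨q₁, hmem.1⟩, ⟨q₂, hmem.2.1⟩, ⟨q₃, hmem.2.2⟩]
    have hf : Function.Injective f := by
      intro i j hij
      have hij' : ((f i : ↥Q) : G) = ((f j : ↥Q) : G) := congrArg Subtype.val hij
      fin_cases i <;> fin_cases j <;> simp [f] at hij' <;> first | rfl | skip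
      all_goals first
        | exact absurd hij' n1 | exact absurd hij'.symm n1
        | exact absurd hij' n2 | exact absurd hij'.symm n2
        | exact absurd hij' n3 | exact absurd hij'.symm n3
        | exact absurd hij' n12 | exact absurd hij'.symm n12
        | exact absurd hij' n23 | exact absurd hij'.symm n23
        | exact absurd hij' n13 | exact absurd hij'.symm n13
    have := Nat.card_le_card_of_injective f hf
    simpa using this
  have hY2 : (Nat.card ↥Y).Coprime 2 := Nat.Coprime.coprime_dvd_right (by norm_num : 2 ∣ 6) hY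
  have hY6 : ∀ y ∈ Y, (orderOf y).Coprime 6 := by
    intro y hy
    have h1 : orderOf y ∣ Nat.card ↥Y := by
      have := orderOf_dvd_natCard (⟨y, hy⟩ : ↥Y)
      rwa [Subgroup.orderOf_mk] at this
    exact Nat.Coprime.coprime_dvd_left h1 hY
  -- the case `c = q₁`
  have hcore : ∀ y ∈ Y, y * q₁ = q₁ * y → ∀ q ∈ Q, y * q = q * y := by
    intro y hy hyq q hq
    have hq2n := hQY hmem.2.1
    have hy2 : q₂ * y * q₂⁻¹ ∈ Y := (Subgroup.mem_normalizer_iff.mp hq2n y).mp hy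
    have hy' : y⁻¹ * (q₂ * y * q₂⁻¹) ∈ Y := Y.mul_mem (Y.inv_mem hy) hy2
    have hq2inv : q₂⁻¹ = q₂ := hQinv q₂ hmem.2.1
    have h12 : q₁ * q₂ = q₂ * q₁ := hQab q₁ hmem.1 q₂ hmem.2.1
    have hs : q₂ * q₂ = 1 := hsq.2.1
    have e1 : y⁻¹ * q₁ = q₁ * y⁻¹ := (Commute.inv_left (show Commute y q₁ from hyq)).eq
    have hc1 : (y⁻¹ * (q₂ * y * q₂⁻¹)) * q₁ = q₁ * (y⁻¹ * (q₂ * y * q₂⁻¹)) := by
      rw [hq2inv]
      calc y⁻¹ * (q₂ * y * q₂) * q₁ = y⁻¹ * (q₂ * (y * (q₂ * q₁))) := by simp only [mul_assoc]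
        _ = y⁻¹ * (q₂ * (y * (q₁ * q₂))) := by rw [h12]
        _ = y⁻¹ * (q₂ * ((y * q₁) * q₂)) := by simp only [mul_assoc]
        _ = y⁻¹ * (q₂ * ((q₁ * y) * q₂)) := by rw [hyq]
        _ = y⁻¹ * ((q₂ * q₁) * (y * q₂)) := by simp only [mul_assoc]
        _ = y⁻¹ * ((q₁ * q₂) * (y * q₂)) := by rw [h12]
        _ = (y⁻¹ * q₁) * (q₂ * (y * q₂)) := by simp only [mul_assoc]
        _ = (q₁ * y⁻¹) * (q₂ * (y * q₂)) := by rw [e1]
        _ = q₁ * (y⁻¹ * (q₂ * y * q₂)) := by simp only [mul_assoc]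
    have hc2 : q₂ * (y⁻¹ * (q₂ * y * q₂⁻¹)) * q₂⁻¹ = (y⁻¹ * (q₂ * y * q₂⁻¹))⁻¹ := by
      simp only [mul_inv_rev, inv_inv, hq2inv, mul_assoc, hs, mul_one]
    have h1 := hO3 _ (hY6 _ hy') hc1 hc2
    have hyq2 : y * q₂ = q₂ * y := by
      have h2 : q₂ * y * q₂⁻¹ = y := (inv_mul_eq_one.mp h1).symm
      rw [mul_inv_eq_iff_eq_mul] at h2
      exact h2.symm
    rcases hall q hq with h | h | h | h
    · rw [h, mul_one, one_mul]
    · rw [h]; exact hyq
    · rw [h]; exact hyq2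
    · rw [h, ← hmul.1, ← mul_assoc, hyq, mul_assoc, hyq2, mul_assoc]
  have hbconj' : ∀ q ∈ Q, b⁻¹ * q * b ∈ Q := by
    intro q hq
    rcases hall q hq with h | h | h | h
    · rw [h]; simp
    · have : b⁻¹ * q₁ * b = q₃ := by rw [← hconj.2.2]; group
      rw [h, this]; exact hmem.2.2
    · have : b⁻¹ * q₂ * b = q₁ := by rw [← hconj.1]; group
      rw [h, this]; exact hmem.1
    · have : b⁻¹ * q₃ * b = q₂ := by rw [← hconj.2.1]; group
      rw [h, this]; exact hmem.2.1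
  have hstep : ∀ c : G, (∀ y ∈ Y, y * c = c * y → ∀ q ∈ Q, y * q = q * y) →
      (∀ y ∈ Y, y * (b * c * b⁻¹) = (b * c * b⁻¹) * y → ∀ q ∈ Q, y * q = q * y) := by
    intro c hc y hy hyc q hq
    have hy0 : b⁻¹ * y * b ∈ Y := by
      apply (Subgroup.mem_normalizer_iff.mp hbY (b⁻¹ * y * b)).mpr
      have e : b * (b⁻¹ * y * b) * b⁻¹ = y := by group
      rw [e]; exact hy
    have hy0c : (b⁻¹ * y * b) * c = c * (b⁻¹ * y * b) := by
      have h0 : b⁻¹ * (y * (b * c * b⁻¹)) * b = b⁻¹ * ((b * c * b⁻¹) * y) * b := by rw [hyc]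
      calc (b⁻¹ * y * b) * c = b⁻¹ * (y * (b * c * b⁻¹)) * b := by group
        _ = b⁻¹ * ((b * c * b⁻¹) * y) * b := h0
        _ = c * (b⁻¹ * y * b) := by group
    have h := hc _ hy0 hy0c (b⁻¹ * q * b) (hbconj' q hq)
    have h3 : b⁻¹ * (y * q) * b = b⁻¹ * (q * y) * b := by
      calc b⁻¹ * (y * q) * b = (b⁻¹ * y * b) * (b⁻¹ * q * b) := by group
        _ = (b⁻¹ * q * b) * (b⁻¹ * y * b) := h
        _ = b⁻¹ * (q * y) * b := by group
    exact mul_left_cancel (mul_right_cancel h3)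
  have hcore2 : ∀ y ∈ Y, y * q₂ = q₂ * y → ∀ q ∈ Q, y * q = q * y := by
    have := hstep q₁ hcore
    rwa [hconj.1] at this
  have hcore3 : ∀ y ∈ Y, y * q₃ = q₃ * y → ∀ q ∈ Q, y * q = q * y := by
    have := hstep q₂ hcore2
    rwa [hconj.2.1] at this
  have hle : Y ≤ Subgroup.centralizer (Q : Set G) := by
    have : Fact (Nat.Prime 2) := ⟨Nat.prime_two⟩
    refine Cfsg.Agent.Helper48.le_of_forall_inf_centralizer_le (p := 2) Q Y _ hQab hQpow hcard hQY
      hY2 ?_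
    intro c hc hc1 y hy
    obtain ⟨hyY, hyc⟩ := hy
    have hyc' : y * c = c * y :=
      (Subgroup.mem_centralizer_iff.mp hyc c (Set.mem_singleton c)).symm
    rw [Subgroup.mem_centralizer_iff]
    intro q hq
    rcases hall c hc with h | h | h | h
    · exact absurd h hc1
    · rw [h] at hyc'; exact (hcore y hyY hyc' q hq).symm
    · rw [h] at hyc'; exact (hcore2 y hyY hyc' q hq).symm
    · rw [h] at hyc'; exact (hcore3 y hyY hyc' q hq).symm
  intro y hy q hq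
  exact ((Subgroup.mem_centralizer_iff.mp (hle hy)) q hq).symm

end Cfsg.Agent.Helper67.C3
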