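import Mathlib

/-!
# PSU3F piece (SYLABS) for helper87's server (S5319): a 2-subgroup `P` such that every element of
`N(P)` is (element of `P`)·(element of odd order) is a Sylow 2-subgroup.
-/

set_option autoImplicit false

namespace Cfsg.Agent.Helper67.Psu3

theorem exists_sylow_of_normalizer {G : Type*} [Group G] [Finite G] (P : Subgroup G)
    (hP : IsPGroup 2 P)
    (hN : ∀ g : G, g ∈ Subgroup.normalizer (P : Set G) →
      ∃ s ∈ P, ∃ c : G, Odd (orderOf c) ∧ g = s * c) :
    ∃ S : Sylow 2 G, (S : Subgroup G) = P := by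
  classical
  obtain ⟨S, hS⟩ := hP.exists_le_sylow
  refine ⟨S, ?_⟩
  by_contra hne
  have hlt : P < (S : Subgroup G) := lt_of_le_of_ne hS (Ne.symm hne)
  have : Fact (Nat.Prime 2) := ⟨Nat.prime_two⟩
  have hnil : Group.IsNilpotent ↥(S : Subgroup G) := S.2.isNilpotent
  have hnc := Group.normalizerCondition_of_isNilpotent (G := ↥(S : Subgroup G))
  have hlt' : (P.subgroupOf (S : Subgroup G)) < ⊤ := by
    rw [lt_top_iff_ne_top]
    intro htop
    rw [Subgroup.subgroupOf_eq_top] at htop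
    exact (not_le_of_gt hlt) htop
  have hgrow := hnc _ hlt'
  obtain ⟨g, hgN, hgP⟩ := SetLike.exists_of_lt hgrow
  have hg3 : (g : G) ∉ P := fun h => hgP (Subgroup.mem_subgroupOf.2 h)
  have hgN' : (g : G) ∈ Subgroup.normalizer (P : Set G) := by
    rw [Subgroup.mem_normalizer_iff]
    intro x
    rw [Subgroup.mem_normalizer_iff] at hgN
    constructor
    · intro hx
      have := (hgN ⟨x, hS hx⟩).1 (Subgroup.mem_subgroupOf.2 hx)
      exact Subgroup.mem_subgroupOf.1 this
    · intro hx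
      have hxS : x ∈ (S : Subgroup G) := by
        have h1 : (g : G)⁻¹ * ((g : G) * x * (g : G)⁻¹) * (g : G) ∈ (S : Subgroup G) :=
          (S : Subgroup G).mul_mem ((S : Subgroup G).mul_mem ((S : Subgroup G).inv_mem g.2) (hS hx)) g.2
        have h2 : (g : G)⁻¹ * ((g : G) * x * (g : G)⁻¹) * (g : G) = x := by group
        rwa [h2] at h1
      have := (hgN ⟨x, hxS⟩).2 (Subgroup.mem_subgroupOf.2 hx)
      exact Subgroup.mem_subgroupOf.1 this
  obtain ⟨s, hs, t, hc, hgsc⟩ := hN (g : G) hgN'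
  have htS : t ∈ (S : Subgroup G) := by
    have : t = s⁻¹ * (g : G) := by rw [hgsc]; group
    rw [this]
    exact (S : Subgroup G).mul_mem ((S : Subgroup G).inv_mem (hS hs)) g.2
  obtain ⟨k, hk⟩ := S.2 ⟨t, htS⟩
  have hk' : t ^ (2 ^ k) = 1 := by
    have := congrArg (fun y : ↥(S : Subgroup G) => (y : G)) hk
    simpa using this
  have h1 : orderOf t ∣ 2 ^ k := orderOf_dvd_of_pow_eq_one hk'
  have hcop : Nat.Coprime (2 ^ k) (orderOf t) :=
    Nat.Coprime.pow_left k (Nat.coprime_two_left.2 hc)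
  have h3 : orderOf t ∣ 1 := by
    have := Nat.dvd_gcd h1 (dvd_refl (orderOf t))
    rwa [hcop.gcd_eq_one] at this
  have ht1 : t = 1 := orderOf_eq_one_iff.1 (Nat.dvd_one.1 h3)
  apply hg3
  rw [hgsc, ht1, mul_one]
  exact hs

end Cfsg.Agent.Helper67.Psu3
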