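import Mathlib

set_option autoImplicit false

namespace Cfsg.Agent.Helper67

/-- If `g` inverts `x` then `g^2` commutes with `x`. -/
theorem commute_sq_of_inverts {G : Type*} [Group G] {g x : G} (h : g * x * g⁻¹ = x⁻¹) :
    Commute (g ^ 2) x := by
  have h2 : g * x⁻¹ * g⁻¹ = x := by
    have := congrArg Inv.inv h
    simpa [mul_assoc] using this
  have : g ^ 2 * x * (g ^ 2)⁻¹ = x := by
    calc g ^ 2 * x * (g ^ 2)⁻¹ = g * (g * x * g⁻¹) * g⁻¹ := by
          simp [pow_two, mul_assoc]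
      _ = g * x⁻¹ * g⁻¹ := by rw [h]
      _ = x := h2
  show g ^ 2 * x = x * g ^ 2
  calc g ^ 2 * x = g ^ 2 * x * (g ^ 2)⁻¹ * g ^ 2 := by simp
    _ = x * g ^ 2 := by rw [this]

/-- Odd powers of an inverting element invert. -/
theorem conj_pow_odd {G : Type*} [Group G] {g x : G} (h : g * x * g⁻¹ = x⁻¹) {n : ℕ}
    (hn : Odd n) : g ^ n * x * (g ^ n)⁻¹ = x⁻¹ := by
  obtain ⟨m, rfl⟩ := hn
  have hc : Commute ((g ^ 2) ^ m) x := (commute_sq_of_inverts h).pow_left m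
  have hc' : Commute ((g ^ 2) ^ m) x⁻¹ := hc.inv_right
  rw [pow_succ, pow_mul]
  calc (g ^ 2) ^ m * g * x * ((g ^ 2) ^ m * g)⁻¹
      = (g ^ 2) ^ m * (g * x * g⁻¹) * ((g ^ 2) ^ m)⁻¹ := by simp [mul_assoc]
    _ = (g ^ 2) ^ m * x⁻¹ * ((g ^ 2) ^ m)⁻¹ := by rw [h]
    _ = x⁻¹ := by rw [hc'.eq]; simp

/-- The `2`-part of an element, as a power with odd exponent. -/
theorem exists_odd_pow_two_elt {G : Type*} [Group G] [Finite G] (g : G) :
    ∃ b : ℕ, Odd b ∧ ∃ k : ℕ, orderOf (g ^ b) = 2 ^ k := by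
  obtain ⟨k, b, hb, hkb⟩ := Nat.exists_eq_two_pow_mul_odd (orderOf_pos g).ne'
  refine ⟨b, hb, k, ?_⟩
  have hb0 : b ≠ 0 := by
    rintro rfl
    simp at hb
  rw [orderOf_pow_of_dvd hb0 (hkb ▸ Dvd.intro_left _ rfl), hkb]
  exact Nat.mul_div_cancel _ (Nat.pos_of_ne_zero hb0)

/-- If some element inverts `x`, some `2`-element in the cyclic group it generates inverts `x`. -/
theorem exists_two_elt_inverting {G : Type*} [Group G] [Finite G] {g x : G}
    (h : g * x * g⁻¹ = x⁻¹) :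
    ∃ t : G, t ∈ Subgroup.zpowers g ∧ (∃ k : ℕ, orderOf t = 2 ^ k) ∧ t * x * t⁻¹ = x⁻¹ := by
  obtain ⟨b, hb, k, hk⟩ := exists_odd_pow_two_elt g
  exact ⟨g ^ b, Subgroup.npow_mem_zpowers g b, ⟨k, hk⟩, conj_pow_odd h hb⟩

/-- A `p`-element normalizing a Sylow `p`-subgroup lies in it. -/
theorem mem_sylow_of_mem_normalizer {G : Type*} [Group G] {p : ℕ} [Fact p.Prime]
    (S : Sylow p G) {t : G} (ht : t ∈ Subgroup.normalizer ((S : Subgroup G) : Set G))
    (hk : ∃ k : ℕ, orderOf t = p ^ k) : t ∈ S := by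
  have hz : IsPGroup p (Subgroup.zpowers t) := by
    obtain ⟨k, hk⟩ := hk
    intro y
    obtain ⟨y, hy⟩ := y
    obtain ⟨n, rfl⟩ := Subgroup.mem_zpowers_iff.1 hy
    refine ⟨k, ?_⟩
    apply Subtype.ext
    simp only [Subgroup.coe_pow, Subgroup.coe_one]
    rw [← zpow_natCast, ← zpow_mul, mul_comm, zpow_mul, zpow_natCast, ← hk, pow_orderOf_eq_one,
      one_zpow]
  have hle : Subgroup.zpowers t ≤ Subgroup.normalizer ((S : Subgroup G) : Set G) := by
    rw [Subgroup.zpowers_le]; exact ht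
  have hsup := IsPGroup.to_sup_of_normal_right' hz S.isPGroup' hle
  have := S.is_maximal' hsup le_sup_right
  have h2 : t ∈ Subgroup.zpowers t ⊔ (S : Subgroup G) :=
    (le_sup_left : Subgroup.zpowers t ≤ _) (Subgroup.mem_zpowers t)
  rw [this] at h2
  exact h2

end Cfsg.Agent.Helper67
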