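import Mathlib

/-!
# O459648 server (helper53, S1022): pieces (B2) `grow` and (B4a) `endgame_setup`, by helper67.
-/

set_option autoImplicit false

namespace Cfsg.Agent.Helper67.O459648

/-- (B2) normalisers grow: `Sylow.exists_subgroup_card_pow_succ`, a subgroup of index `p` in a
group of order `p ^ (k + 1)` is normal -/
theorem grow {G : Type*} [Group G] [Finite G] {p k : ℕ} [Fact p.Prime] (X : Subgroup G)
    (hX : Nat.card X = p ^ k) (hdvd : p ^ (k + 1) ∣ Nat.card G) :
    ∃ K : Subgroup G, Nat.card K = p ^ (k + 1) ∧ X ≤ K ∧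
      K ≤ Subgroup.normalizer (X : Set G) := by
  have hp : p.Prime := Fact.out
  obtain ⟨K, hK, hXK⟩ := Sylow.exists_subgroup_card_pow_succ hdvd hX
  refine ⟨K, hK, hXK, ?_⟩
  have hcard : Nat.card (X.subgroupOf K) = p ^ k := by
    rw [Nat.card_congr (Subgroup.subgroupOfEquivOfLe hXK).toEquiv, hX]
  have hidx : (X.subgroupOf K).index = p := by
    have h1 := (X.subgroupOf K).card_mul_index
    rw [hcard, hK, pow_succ] at h1
    exact Nat.eq_of_mul_eq_mul_left (pow_pos hp.pos k) h1
  have hmin : (Nat.card K).minFac = p := by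
    rw [hK]
    exact hp.pow_minFac (Nat.succ_ne_zero k)
  have hnorm : (X.subgroupOf K).Normal :=
    Subgroup.normal_of_index_eq_minFac_card (by rw [hidx, hmin])
  exact (Subgroup.normal_subgroupOf_iff_le_normalizer hXK).mp hnorm

/-- index of a subgroup of order 8 in one of order 16 -/
theorem h67_index_two {G : Type*} [Group G] [Finite G] (S0 K2 : Subgroup G) (hS0 : Nat.card S0 = 8)
    (hK2 : Nat.card K2 = 16) (hle : S0 ≤ K2) : (S0.subgroupOf K2).index = 2 := by
  have hcard : Nat.card (S0.subgroupOf K2) = 8 := by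
    rw [Nat.card_congr (Subgroup.subgroupOfEquivOfLe hle).toEquiv, hS0]
  have h1 := (S0.subgroupOf K2).card_mul_index
  rw [hcard, hK2] at h1
  omega

/-- (B4a) (B2) twice: `S0 ⊇ V` of order 8 inside `N_G(V) = N`, then `K2 ⊇ S0` of order 16 inside
`N_G(S0)`; `g ∈ K2 \ S0`; `g * g ∈ S0` (index 2); `g ∉ N` else `K2 = S0 ⊔ ⟨g⟩ ≤ N` and `16 ∣ 456` -/
theorem endgame_setup {G : Type*} [Group G] [Finite G] (hG : Nat.card G = 459648)
    (N V : Subgroup G) (hN : Nat.card N = 456) (hV : Nat.card V = 4)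
    (hNV : Subgroup.normalizer (V : Set G) = N) :
    ∃ (S0 : Subgroup G) (g : G), Nat.card S0 = 8 ∧ V ≤ S0 ∧ S0 ≤ N ∧ g ∉ N ∧
      g ∈ Subgroup.normalizer (S0 : Set G) ∧ g * g ∈ S0 := by
  have : Fact (Nat.Prime 2) := ⟨Nat.prime_two⟩
  obtain ⟨S0, hS0, hVS, hSN⟩ := grow (p := 2) (k := 2) V (by rw [hV]; norm_num)
    (by rw [hG]; norm_num)
  obtain ⟨K2, hK2, hSK, hKN⟩ := grow (p := 2) (k := 3) S0 (by rw [hS0])
    (by rw [hG]; norm_num)
  have hS0' : Nat.card S0 = 8 := by rw [hS0]; norm_num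
  have hK2' : Nat.card K2 = 16 := by rw [hK2]; norm_num
  rw [hNV] at hSN
  have hidx := h67_index_two S0 K2 hS0' hK2' hSK
  -- an element of `K2` outside `S0`
  obtain ⟨g, hgK, hgS⟩ : ∃ g ∈ K2, g ∉ S0 := by
    by_contra hcon
    have hcon' : K2 ≤ S0 := by
      intro x hx
      by_contra hxS
      exact hcon ⟨x, hx, hxS⟩
    have : K2 = S0 := le_antisymm hcon' hSK
    rw [this, hS0'] at hK2'
    omega
  refine ⟨S0, g, hS0', hVS, hSN, ?_, hKN hgK, ?_⟩
  · intro hgN
    have hKle : K2 ≤ N := by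
      intro x hx
      by_cases hxS : x ∈ S0
      · exact hSN hxS
      · have h1 : (⟨x, hx⟩ : K2) * ⟨g, hgK⟩ ∈ S0.subgroupOf K2 := by
          rw [Subgroup.mul_mem_iff_of_index_two hidx]
          constructor
          · intro h; exact absurd (Subgroup.mem_subgroupOf.mp h) hxS
          · intro h; exact absurd (Subgroup.mem_subgroupOf.mp h) hgS
        have h2 : x * g ∈ S0 := by
          have := Subgroup.mem_subgroupOf.mp h1
          simpa using this
        have h3 : x = (x * g) * g⁻¹ := by group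
        rw [h3]
        exact N.mul_mem (hSN h2) (N.inv_mem hgN)
    have hdvd := Subgroup.card_dvd_of_le hKle
    rw [hK2', hN] at hdvd
    omega
  · have h1 := Subgroup.mul_self_mem_of_index_two hidx (⟨g, hgK⟩ : K2)
    have := Subgroup.mem_subgroupOf.mp h1
    simpa using this

end Cfsg.Agent.Helper67.O459648
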