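import Mathlib
import Cfsg.Agent.Lib.Helper67.ClassSize

set_option autoImplicit false

namespace Cfsg.Agent.Helper67

open MulAction

/-- The sum of the inverse orbit sizes is the number of orbits. -/
theorem sum_inv_card_orbit {A X : Type*} [Group A] [MulAction A X] [Fintype X] :
    ∑ x : X, (1 : ℚ) / (Nat.card (orbit A x)) = Nat.card (orbitRel.Quotient A X) := by
  classical
  letI : Fintype (orbitRel.Quotient A X) := Fintype.ofFinite _
  set π : X → orbitRel.Quotient A X := fun x => Quotient.mk'' x with hπ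
  rw [← Finset.sum_fiberwise Finset.univ π]
  rw [Nat.card_eq_fintype_card, ← Finset.card_univ, Finset.card_eq_sum_ones]
  push_cast
  apply Finset.sum_congr rfl
  intro q _
  have hfib : ∀ x ∈ Finset.univ.filter (fun i => π i = q),
      (1 : ℚ) / (Nat.card (orbit A x)) = 1 / ((Finset.univ.filter (fun i => π i = q)).card : ℚ) := by
    intro x hx
    rw [Finset.mem_filter] at hx
    congr 2
    rw [Nat.card_eq_fintype_card, ← Set.toFinset_card]
    congr 1
    ext y
    simp only [Set.mem_toFinset, Finset.mem_filter, Finset.mem_univ, true_and]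
    rw [← hx.2]
    simp only [hπ]
    rw [← orbitRel_apply]
    exact (Quotient.eq'' (s₁ := orbitRel A X)).symm
  rw [Finset.sum_congr rfl hfib, Finset.sum_const, nsmul_eq_mul]
  have hne : (Finset.univ.filter (fun i => π i = q)).card ≠ 0 := by
    obtain ⟨x, hx⟩ := Quotient.exists_rep q
    apply Finset.card_ne_zero_of_mem (a := x)
    simp only [Finset.mem_filter, Finset.mem_univ, true_and]
    exact hx
  field_simp

/-- Weighted orbit count: central part `Z`, intermediate part `F`. -/
theorem card_orbits_mul_le {G : Type*} [Group G] [Finite G] (p : ℕ) (hp : 2 ≤ p)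
    (Z F : Set G) (hZF : Z ⊆ F)
    (hZ : Z.ncard * p ^ 2 ≤ Nat.card G) (hF : F.ncard * p ≤ Nat.card G)
    (h1 : ∀ x, x ∉ Z → p ≤ Nat.card (orbit (MulAut G) x))
    (h2 : ∀ x, x ∉ F → 2 * p ≤ Nat.card (orbit (MulAut G) x)) :
    Nat.card (orbitRel.Quotient (MulAut G) G) * p ≤ Nat.card G := by
  classical
  letI : Fintype G := Fintype.ofFinite G
  have hpq : (2 : ℚ) ≤ (p : ℚ) := by exact_mod_cast hp
  have hp0 : (0 : ℚ) < (p : ℚ) := by linarith
  have hsum := sum_inv_card_orbit (A := MulAut G) (X := G)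
  -- pointwise weights
  have hw : ∀ x : G, (1 : ℚ) / (Nat.card (orbit (MulAut G) x)) ≤
      1 / (2 * p) + (if x ∈ F then 1 / (2 * (p : ℚ)) else 0) +
        (if x ∈ Z then 1 - 1 / (p : ℚ) else 0) := by
    intro x
    have hpos : 0 < Nat.card (orbit (MulAut G) x) := by
      haveI : Nonempty (orbit (MulAut G) x) := ⟨⟨x, mem_orbit_self x⟩⟩
      exact Nat.card_pos
    have hposq : (0 : ℚ) < (Nat.card (orbit (MulAut G) x) : ℚ) := by exact_mod_cast hpos
    by_cases hxZ : x ∈ Z
    · have hxF : x ∈ F := hZF hxZ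
      rw [if_pos hxF, if_pos hxZ]
      have : (1 : ℚ) / (Nat.card (orbit (MulAut G) x)) ≤ 1 := by
        rw [div_le_one hposq]; exact_mod_cast hpos
      have e : (1 : ℚ) / (2 * p) + 1 / (2 * p) + (1 - 1 / p) = 1 := by field_simp; ring
      rw [e]; exact this
    · rw [if_neg hxZ]
      by_cases hxF : x ∈ F
      · rw [if_pos hxF]
        have hb : (p : ℚ) ≤ (Nat.card (orbit (MulAut G) x) : ℚ) := by exact_mod_cast h1 x hxZ
        have e : (1 : ℚ) / (2 * p) + 1 / (2 * p) + 0 = 1 / p := by field_simp; ring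
        rw [e]
        exact one_div_le_one_div_of_le hp0 hb
      · rw [if_neg hxF]
        have hb : (2 * p : ℚ) ≤ (Nat.card (orbit (MulAut G) x) : ℚ) := by exact_mod_cast h2 x hxF
        simp only [add_zero]
        exact one_div_le_one_div_of_le (by linarith) hb
  have hle : (Nat.card (orbitRel.Quotient (MulAut G) G) : ℚ) ≤
      ∑ x : G, (1 / (2 * (p : ℚ)) + (if x ∈ F then 1 / (2 * (p : ℚ)) else 0) +
        (if x ∈ Z then 1 - 1 / (p : ℚ) else 0)) := by
    rw [← hsum]
    exact Finset.sum_le_sum (fun x _ => hw x)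
  rw [Finset.sum_add_distrib, Finset.sum_add_distrib, Finset.sum_const, Finset.card_univ,
    nsmul_eq_mul, ← Finset.sum_filter, ← Finset.sum_filter, Finset.sum_const, Finset.sum_const,
    nsmul_eq_mul, nsmul_eq_mul] at hle
  have hFc : (Finset.univ.filter (fun x => x ∈ F)).card = F.ncard := by
    rw [Set.ncard_eq_toFinset_card' F]
    congr 1
    ext x; simp
  have hZc : (Finset.univ.filter (fun x => x ∈ Z)).card = Z.ncard := by
    rw [Set.ncard_eq_toFinset_card' Z]
    congr 1
    ext x; simp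
  rw [hFc, hZc, ← Nat.card_eq_fintype_card] at hle
  have hZq : (Z.ncard : ℚ) * (p : ℚ) ^ 2 ≤ (Nat.card G : ℚ) := by exact_mod_cast hZ
  have hFq : (F.ncard : ℚ) * (p : ℚ) ≤ (Nat.card G : ℚ) := by exact_mod_cast hF
  have hZnn : (0 : ℚ) ≤ (Z.ncard : ℚ) := by positivity
  have hFnn : (0 : ℚ) ≤ (F.ncard : ℚ) := by positivity
  have hNnn : (0 : ℚ) ≤ (Nat.card G : ℚ) := by positivity
  have key : ((Nat.card G : ℚ) * (1 / (2 * p)) + (F.ncard : ℚ) * (1 / (2 * p)) +
      (Z.ncard : ℚ) * (1 - 1 / p)) * p ≤ (Nat.card G : ℚ) := by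
    have e : ((Nat.card G : ℚ) * (1 / (2 * p)) + (F.ncard : ℚ) * (1 / (2 * p)) +
      (Z.ncard : ℚ) * (1 - 1 / p)) * p =
        (Nat.card G : ℚ) / 2 + (F.ncard : ℚ) / 2 + (Z.ncard : ℚ) * (p - 1) := by
      field_simp
    rw [e]
    -- multiply through by 2 p^2
    have hp2 : (0 : ℚ) < 2 * (p : ℚ) ^ 2 := by positivity
    rw [← sub_nonneg]
    have : 0 ≤ 2 * (p : ℚ) ^ 2 * ((Nat.card G : ℚ) -
        ((Nat.card G : ℚ) / 2 + (F.ncard : ℚ) / 2 + (Z.ncard : ℚ) * (p - 1))) := by
      have h3 : (p : ℚ) * ((F.ncard : ℚ) * p) ≤ p * (Nat.card G : ℚ) :=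
        mul_le_mul_of_nonneg_left hFq hp0.le
      have h4 : 2 * ((p : ℚ) - 1) * ((Z.ncard : ℚ) * (p : ℚ) ^ 2) ≤
          2 * ((p : ℚ) - 1) * (Nat.card G : ℚ) :=
        mul_le_mul_of_nonneg_left hZq (by linarith)
      have h5 : 0 ≤ (Nat.card G : ℚ) * (((p : ℚ) - 1) * ((p : ℚ) - 2)) :=
        mul_nonneg hNnn (mul_nonneg (by linarith) (by linarith))
      nlinarith [h3, h4, h5]
    exact nonneg_of_mul_nonneg_right this hp2
  have hfin : (Nat.card (orbitRel.Quotient (MulAut G) G) : ℚ) * p ≤ (Nat.card G : ℚ) := by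
    refine le_trans (mul_le_mul_of_nonneg_right hle hp0.le) ?_
    convert key using 2
  exact_mod_cast hfin

/-- A noncentral element has at least `minFac` conjugates. -/
theorem minFac_le_ncard_class {G : Type*} [Group G] [Finite G] (x : G)
    (hx : x ∉ Subgroup.center G) :
    (Nat.card G).minFac ≤ (ConjClasses.mk x).carrier.ncard := by
  rw [ncard_carrier_eq_index]
  have hne : (Subgroup.centralizer ({x} : Set G)).index ≠ 1 := by
    intro h1
    rw [Subgroup.index_eq_one] at h1
    apply hx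
    rw [Subgroup.mem_center_iff]
    intro g
    have hg : g ∈ Subgroup.centralizer ({x} : Set G) := by rw [h1]; trivial
    rw [Subgroup.mem_centralizer_iff] at hg
    exact (hg x rfl).symm
  exact (Nat.minFac_le_of_dvd (by
    have := (Subgroup.centralizer ({x} : Set G)).index_ne_zero_of_finite
    omega) (Subgroup.index_dvd_card _))

/-- The conjugacy class is inside the automorphism orbit. -/
theorem carrier_subset_orbit {G : Type*} [Group G] (x : G) :
    (ConjClasses.mk x).carrier ⊆ orbit (MulAut G) x := by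
  intro y hy
  rw [ConjClasses.mem_carrier_iff_mk_eq, ConjClasses.mk_eq_mk_iff_isConj, isConj_comm,
    isConj_iff] at hy
  obtain ⟨c, hc⟩ := hy
  exact ⟨MulAut.conj c, by simp only [MulAut.smul_def, MulAut.conj_apply]; exact hc⟩

theorem minFac_le_card_orbit {G : Type*} [Group G] [Finite G] (x : G)
    (hx : x ∉ Subgroup.center G) :
    (Nat.card G).minFac ≤ Nat.card (orbit (MulAut G) x) := by
  refine le_trans (minFac_le_ncard_class x hx) ?_
  rw [Nat.card_coe_set_eq]
  exact Set.ncard_le_ncard (carrier_subset_orbit x) (Set.toFinite _)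

/-- If an automorphism moves `x` to a non-conjugate element, the orbit has at least `2 * minFac`
elements. -/
theorem two_mul_minFac_le_card_orbit {G : Type*} [Group G] [Finite G] (x : G)
    (hx : x ∉ Subgroup.center G) (α : MulAut G) (hα : ¬ IsConj x (α x)) :
    2 * (Nat.card G).minFac ≤ Nat.card (orbit (MulAut G) x) := by
  have hαx : α x ∉ Subgroup.center G := by
    intro h
    apply hx
    rw [Subgroup.mem_center_iff] at h ⊢
    intro g
    have := h (α g)
    rw [← map_mul, ← map_mul] at this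
    exact α.injective this
  have h1 := minFac_le_ncard_class x hx
  have h2 := minFac_le_ncard_class (α x) hαx
  have hsub2 : (ConjClasses.mk (α x)).carrier ⊆ orbit (MulAut G) x := by
    intro y hy
    rw [ConjClasses.mem_carrier_iff_mk_eq, ConjClasses.mk_eq_mk_iff_isConj, isConj_comm,
      isConj_iff] at hy
    obtain ⟨c, hc⟩ := hy
    exact ⟨MulAut.conj c * α, by
      simp only [MulAut.smul_def, MulAut.mul_apply, MulAut.conj_apply]; exact hc⟩
  have hdisj : Disjoint (ConjClasses.mk x).carrier (ConjClasses.mk (α x)).carrier := by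
    rw [Set.disjoint_left]
    intro y hy1 hy2
    rw [ConjClasses.mem_carrier_iff_mk_eq] at hy1 hy2
    apply hα
    rw [← ConjClasses.mk_eq_mk_iff_isConj, ← hy1, ← hy2]
  rw [Nat.card_coe_set_eq]
  have hun : (ConjClasses.mk x).carrier ∪ (ConjClasses.mk (α x)).carrier ⊆ orbit (MulAut G) x :=
    Set.union_subset (carrier_subset_orbit x) hsub2
  have := Set.ncard_le_ncard hun (Set.toFinite _)
  rw [Set.ncard_union_eq hdisj (Set.toFinite _) (Set.toFinite _)] at this
  omega

end Cfsg.Agent.Helper67
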