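import Mathlib
import Cfsg.Agent.Lib.Helper67.BGCrux
import Cfsg.Agent.Lib.Helper23.BGCruxC1
import Cfsg.Agent.Lib.Helper66.BGCruxC2
import Cfsg.Agent.Lib.Helper77.BGCruxC3
import Cfsg.Agent.Lib.Helper23.BGCruxC4
import Cfsg.Agent.Lib.Helper57.BGCruxC6
import Cfsg.Agent.Lib.Helper68.BGCruxC7
import Cfsg.Agent.Lib.Helper26.BGCruxC9

/-!
# The CRUX (L8): the packages put together (helper67)

`pkgs hG rows inp l2 : Pkgs G` collects the seven packages (C1) helper23, (C2) helper66, (C3) helper77,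
(C4) helper23, (C6) helper57, (C7) helper68, (C9) helper26; `semiprime hG rows inp l2 ...` is
(Q9) of tools/bg142_sigs_helper54 with the rows and inputs still as hypotheses.
-/

set_option autoImplicit false
set_option linter.unusedVariables false

namespace Cfsg.Agent.Helper67.BGCrux

open Subgroup Cfsg

variable {G : Type*} [Group G] [Finite G]

theorem pkgs (hG : IsMinSimpleOddOrder G) (rows : Rows G) (inp : Inputs G)
    (l2 : ∀ (M : Subgroup G), IsCoatom M → ∀ E : Subgroup G, IsComplIn E (sigmaCore M) M →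
      ∀ E1 : Subgroup G, IsPiHallOf (tau1 M) E1 E → ∀ x ∈ E1, x ≠ 1 →
        sigmaCore M ⊓ centralizer ({x} : Set G) ≤ sigmaCore M ⊓ centralizer (E1 : Set G)) :
    Pkgs G where
  c1 := fun hM hE h2 => Cfsg.Agent.Helper23.BGCrux.exists_EStruct hG rows hM hE h2
  c2 := fun cfg hEY hH hNH => Cfsg.Agent.Helper66.BGCrux.hside hG rows inp cfg hEY hH hNH
  c3 := fun cfg hs _ hq hqC => Cfsg.Agent.Helper77.BGCrux.kappa_cyclic hG rows inp cfg hs hq hqC
  c4 := fun cfg hs _ _ _ hT hTE ht =>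
    Cfsg.Agent.Helper23.BGCrux.le_centralizer_of_not_tau1 hG rows inp cfg hs hT hTE ht
  c6 := fun cfg es hs hEY hYE3 f2 f3 f4 =>
    Cfsg.Agent.Helper57.BGCrux.stepA hG rows inp cfg es hs hEY hYE3 f2 f3 f4
  c7 := fun cfg es hs hEY hYE3 f3 hA hC1 hF =>
    Cfsg.Agent.Helper68.BGCrux.stepB hG rows inp cfg es hs hEY hYE3 f3 hA hC1 hF
  c9 := fun hp hq hr hp2 hq2 hpq hpr hqr S K x hS hK hKc hKS hxS hxK hxr hfpf hfix =>
    Cfsg.Agent.Helper26.BGCrux.frob_le_centralizer hp hq hr hp2 hq2 hpq hpr hqr S K x hS hK hKc hKS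
      hxS hxK hxr hfpf hfix
  l2 := l2

/-- (Q9) of tools/bg142_sigs_helper54 = B-G 13.11(c), rows and inputs as hypotheses. -/
theorem semiprime (hG : IsMinSimpleOddOrder G) (rows : Rows G) (inp : Inputs G)
    (l2 : ∀ (M : Subgroup G), IsCoatom M → ∀ E : Subgroup G, IsComplIn E (sigmaCore M) M →
      ∀ E1 : Subgroup G, IsPiHallOf (tau1 M) E1 E → ∀ x ∈ E1, x ≠ 1 →
        sigmaCore M ⊓ centralizer ({x} : Set G) ≤ sigmaCore M ⊓ centralizer (E1 : Set G))
    (M : Subgroup G) (hM : IsCoatom M) (E : Subgroup G) (hE : IsComplIn E (sigmaCore M) M)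
    (h2 : tau2 M = ∅) (s : ℕ) (hs : s ∈ tau3 M) (Y : Subgroup G) (hYE : Y ≤ E)
    (hY : Nat.card Y = s) (hC : sigmaCore M ⊓ centralizer (Y : Set G) ≠ ⊥) :
    ∀ e ∈ E, e ≠ 1 → sigmaCore M ⊓ centralizer ({e} : Set G) =
      sigmaCore M ⊓ centralizer (E : Set G) :=
  semiprime_of_tau3_fixed hG (pkgs hG rows inp l2) M hM E hE h2 s hs Y hYE hY hC

end Cfsg.Agent.Helper67.BGCrux
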