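import Mathlib
import Cfsg.Agent.Lib.Helper67.BGCruxMain
import Cfsg.Agent.S1350
import Cfsg.Agent.S1404
import Cfsg.Agent.S1415
import Cfsg.Agent.S1417
import Cfsg.Agent.S1418
import Cfsg.Agent.S1420
import Cfsg.Agent.S1423
import Cfsg.Agent.S1426
import Cfsg.Agent.S1427
import Cfsg.Agent.S1428
import Cfsg.Agent.Lib.Helper21.BG139Setup
import Cfsg.Agent.Lib.Helper53.BG139b
import Cfsg.Agent.Lib.Helper60.BGAsymAS5
import Cfsg.Agent.Lib.Helper68.BG139R7
import Cfsg.Agent.Lib.Helper79.BG142Q5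
import Cfsg.Agent.Lib.Helper79.BG142Q7
import Cfsg.Agent.Lib.Helper97.BG142Q3

/-!
# (Q9) = (L8) = CRUX = B-G 13.11(c), with the real rows (helper67)

The statement is (Q9) of `tools/bg142_sigs_helper54.lean.txt` VERBATIM; the proof is
`Cfsg.Agent.Helper67.BGCrux.semiprime` (Lib/Helper67/BGCruxMain: the seven packages of the CRUX lemma
server) fed with the real rows S1350 S1404 S1415 S1417 S1418 S1420 S1423 S1426 S1427, and the inputs
sigma-partition (helper21 `exists_setup` + helper53 `false_of_setup`, i.e. the second clause of S1378,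
taken from the libraries), (Q7) helper79, S1428, the asymmetry B-G 13.8 (helper60 AS5), (Q3) helper97,
(Q5) helper79, (L2)=(R7) helper68.  Imports nothing at or above S1378/S1429/S1430.
-/

set_option autoImplicit false
set_option linter.unusedVariables false

namespace Cfsg.Agent.Helper67.BG142Req

open Subgroup

variable {G : Type*} [Group G] [Finite G]

/-- the frozen rows used by the crux. -/
theorem rows (hG : Cfsg.IsMinSimpleOddOrder G) : Cfsg.Agent.Helper67.BGCrux.Rows G where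
  r1350 := fun M hM => Cfsg.Agent.S1350.result hG M hM
  r1404 := fun M hM p _ hp X hXp hX1 hXM => Cfsg.Agent.S1404.result hG M hM p hp X hXp hX1 hXM
  r1415 := fun M hM E hE => Cfsg.Agent.S1415.result hG M hM E hE
  r1417 := fun M hM p _ hp A hA => Cfsg.Agent.S1417.result hG M hM p hp A hA
  r1418 := fun M hM E hE p _ hp A hA => Cfsg.Agent.S1418.result hG M hM E hE p hp A hA
  r1420 := fun M hM E hE => Cfsg.Agent.S1420.result hG M hM E hE
  r1423 := fun M hM p _ hp X hXM hX P h => Cfsg.Agent.S1423.result hG M hM p hp X hXM hX P h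
  r1426 := fun M hM E hE => Cfsg.Agent.S1426.result hG M hM E hE
  r1427 := fun M hM E hE p _ S hS1 hSc => Cfsg.Agent.S1427.result hG M hM E hE p S hS1 hSc

/-- the sigma-partition (second clause of S1378), from helper21's and helper53's libraries. -/
theorem sigma_partition (hG : Cfsg.IsMinSimpleOddOrder G) (M N : Subgroup G) (hM : IsCoatom M)
    (hN : IsCoatom N) (h : (Cfsg.sigma M ∩ Cfsg.sigma N).Nonempty) :
    ∃ g : G, N = M.map (MulAut.conj g).toMonoidHom := by
  obtain ⟨q, hqM, hqN⟩ := h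
  by_contra hcon
  have hcon' : ∀ g : G, N ≠ M.map (MulAut.conj g).toMonoidHom := fun g hg => hcon ⟨g, hg⟩
  have hq : q.Prime := hqM.1
  haveI := Fact.mk hq
  obtain ⟨g, S, h⟩ := Cfsg.Agent.Helper21.BG139.exists_setup hG M N hM hN q hqM hqN hcon'
  exact Cfsg.Agent.Helper53.BG139.false_of_setup hG h

/-- the non-row inputs of the crux. -/
theorem inputs (hG : Cfsg.IsMinSimpleOddOrder G) : Cfsg.Agent.Helper67.BGCrux.Inputs G where
  sp := fun M N hM hN h => sigma_partition hG M N hM hN h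
  l6 := fun M hM p hp hpσ hr X hXM hX hC H hH hNH =>
    Cfsg.Agent.Helper79.BG142Req.le_sigmaCore_of_normalizer_le hG M hM p hp hpσ hr X hXM hX hC H hH hNH
  s1428 := fun M hM E hE p hp P hPE hP R hRE hR =>
    Cfsg.Agent.S1428.result hG M hM E hE p hp P hPE hP R hRE hR
  asym := fun hM hH hnc hqM hqH hQ hQI hwq hw'q hW hWI hWs hQW hfpf hN hW' hW'I hW's hQW' hfpf' hN' =>
    Cfsg.Agent.Helper60.BGAsym.asymmetry hG hM hH hnc hqM hqH hQ hQI hwq hw'q hW hWI hWs hQW hfpf hN
      hW' hW'I hW's hQW' hfpf' hN'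
  q3 := fun M p hp hpσ hr X hXM hX hC =>
    Cfsg.Agent.Helper97.BG142Req.mem_kappa_of_cent_ne_bot hG M p hp hpσ hr X hXM hX hC
  q5 := fun M hM E hE s hs Y hYE hY hC =>
    Cfsg.Agent.Helper79.BG142Req.tau2_eq_empty_of_tau3_fixed hG M hM E hE s hs Y hYE hY hC

/-- (Q9) = (L8) = CRUX (*) = B-G 13.11(c). -/
theorem semiprime_of_tau3_fixed (hG : Cfsg.IsMinSimpleOddOrder G) (M : Subgroup G)
    (hM : IsCoatom M) (E : Subgroup G) (hE : Cfsg.IsComplIn E (Cfsg.sigmaCore M) M)
    (h2 : Cfsg.tau2 M = ∅) (s : ℕ) (hs : s ∈ Cfsg.tau3 M) (Y : Subgroup G) (hYE : Y ≤ E)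
    (hY : Nat.card Y = s) (hC : Cfsg.sigmaCore M ⊓ centralizer (Y : Set G) ≠ ⊥) :
    ∀ e ∈ E, e ≠ 1 → Cfsg.sigmaCore M ⊓ centralizer ({e} : Set G) =
      Cfsg.sigmaCore M ⊓ centralizer (E : Set G) :=
  Cfsg.Agent.Helper67.BGCrux.semiprime hG (rows hG) (inputs hG)
    (fun M hM E hE E1 hE1 x hx hx1 =>
      Cfsg.Agent.Helper68.BG139Req.prime_action_tau1 hG M hM E hE E1 hE1 x hx hx1)
    M hM E hE h2 s hs Y hYE hY hC

end Cfsg.Agent.Helper67.BG142Req
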