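import Mathlib
import Cfsg.Agent.Lib.Helper32.C3Defs

/-!
# helper32 lemma server "C3" (row S4415): piece E `cubic_split`
-/

set_option autoImplicit false

namespace Cfsg.Agent.Helper67.C3

open Cfsg.Agent.Helper32.C3

universe u v

section

variable {G : Type u} [Group G] {V : Type v} [AddCommGroup V] [Module (ZMod 3) V]

theorem e_three_smul (y : V) : y + y + y = 0 := by
  have h : (3 : ZMod 3) • y = 0 := by
    rw [show (3 : ZMod 3) = 0 from by decide, zero_smul]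
  rw [show (3 : ZMod 3) = 1 + 1 + 1 from by decide, add_smul, add_smul, one_smul] at h
  exact h

theorem e_dl_cube (ρ : Representation (ZMod 3) G V) (b : G) (hb3 : b ^ 3 = 1) (v : V) :
    dl ρ b (dl ρ b (dl ρ b v)) = 0 := by
  have hx3 : ρ b (ρ b (ρ b v)) = v := by
    calc ρ b (ρ b (ρ b v)) = (ρ b * ρ b * ρ b) v := rfl
      _ = ρ (b ^ 3) v := by rw [← map_mul, ← map_mul, ← pow_three']
      _ = v := by rw [hb3, map_one]; rfl
  simp only [dl_apply, map_sub, hx3]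
  have e : v - ρ b (ρ b v) - (ρ b (ρ b v) - ρ b v) - (ρ b (ρ b v) - ρ b v - (ρ b v - v)) =
      (ρ b v - ρ b (ρ b v)) + (ρ b v - ρ b (ρ b v)) + (ρ b v - ρ b (ρ b v)) := by abel
  rw [e]
  exact e_three_smul _

theorem e_map_le (ρ : Representation (ZMod 3) G V) (b : G) (U : Submodule (ZMod 3) V)
    (hU : ∀ v ∈ U, ρ b v ∈ U) : U.map (dl ρ b) ≤ U := by
  rintro _ ⟨u, hu, rfl⟩
  rw [dl_apply]
  exact U.sub_mem (hU u hu) hu

theorem e_finrank_sum [Finite V] (d : Module.End (ZMod 3) V) (U W : Submodule (ZMod 3) V)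
    (hUW : U ⊓ W = ⊥) (hUW' : U ⊔ W = ⊤) (hdU : U.map d ≤ U) (hdW : W.map d ≤ W) :
    Module.finrank (ZMod 3) (LinearMap.range d) =
      Module.finrank (ZMod 3) ↥(U.map d) + Module.finrank (ZMod 3) ↥(W.map d) := by
  have h1 : LinearMap.range d = U.map d ⊔ W.map d := by
    rw [← Submodule.map_sup, hUW', Submodule.map_top]
  have h2 : U.map d ⊓ W.map d = ⊥ := by
    rw [eq_bot_iff, ← hUW]
    exact inf_le_inf hdU hdW
  have h3 := Submodule.finrank_sup_add_finrank_inf_eq (U.map d) (W.map d)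
  rw [h2, finrank_bot, add_zero] at h3
  rw [h1]
  exact h3

/-- the core: if `d² W = 0` then `d W = 0` -/
theorem e_core [Finite V] (ρ : Representation (ZMod 3) G V) (b : G) (hc : Cubic ρ b)
    (hb3 : b ^ 3 = 1) (U W : Submodule (ZMod 3) V) (hUW : U ⊓ W = ⊥) (hUW' : U ⊔ W = ⊤)
    (hU : ∀ v ∈ U, ρ b v ∈ U) (hW : ∀ v ∈ W, ρ b v ∈ W)
    (h0 : (W.map (dl ρ b)).map (dl ρ b) = ⊥) : ∀ v ∈ W, ρ b v = v := by
  have hdU := e_map_le ρ b U hU
  have hdW := e_map_le ρ b W hW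
  have hddU : (U.map (dl ρ b)).map (dl ρ b) ≤ U.map (dl ρ b) := Submodule.map_mono hdU
  have hddW : (W.map (dl ρ b)).map (dl ρ b) ≤ W.map (dl ρ b) := Submodule.map_mono hdW
  have s1 := e_finrank_sum (dl ρ b) U W hUW hUW' hdU hdW
  have hmul : ∀ X : Submodule (ZMod 3) V, X.map (dl ρ b * dl ρ b) = (X.map (dl ρ b)).map (dl ρ b) := by
    intro X
    rw [Module.End.mul_eq_comp, Submodule.map_comp]
  have s2 := e_finrank_sum (dl ρ b * dl ρ b) U W hUW hUW'
    (by rw [hmul]; exact hddU.trans hdU) (by rw [hmul]; exact hddW.trans hdW)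
  rw [hmul, hmul, h0, finrank_bot, add_zero] at s2
  rw [hc.1] at s1
  rw [hc.2] at s2
  -- `finrank (d W) = 0`
  have hW0 : Module.finrank (ZMod 3) ↥(W.map (dl ρ b)) = 0 := by
    by_contra hne
    have hle : Module.finrank (ZMod 3) ↥(U.map (dl ρ b)) ≤ 1 := by omega
    have hge : Module.finrank (ZMod 3) ↥((U.map (dl ρ b)).map (dl ρ b)) ≤
        Module.finrank (ZMod 3) ↥(U.map (dl ρ b)) := Submodule.finrank_mono hddU
    have heq : (U.map (dl ρ b)).map (dl ρ b) = U.map (dl ρ b) :=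
      Submodule.eq_of_le_of_finrank_eq hddU (by omega)
    have h3 : ((U.map (dl ρ b)).map (dl ρ b)).map (dl ρ b) = ⊥ := by
      rw [eq_bot_iff]
      rintro _ ⟨_, ⟨_, ⟨u, _, rfl⟩, rfl⟩, rfl⟩
      rw [e_dl_cube ρ b hb3 u]
      exact Submodule.zero_mem _
    rw [heq, heq] at h3
    rw [heq, h3, finrank_bot] at s2
    omega
  have hWbot : W.map (dl ρ b) = ⊥ := Submodule.finrank_eq_zero.mp hW0
  intro v hv
  have : dl ρ b v ∈ W.map (dl ρ b) := Submodule.mem_map_of_mem hv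
  rw [hWbot, Submodule.mem_bot, dl_apply, sub_eq_zero] at this
  exact this

end

/-- **E.** (Lemma 1) -/
theorem cubic_split {G : Type u} [Group G] {V : Type v} [AddCommGroup V] [Module (ZMod 3) V]
    [Finite V] (ρ : Representation (ZMod 3) G V) (b : G) (hc : Cubic ρ b) (hb3 : b ^ 3 = 1)
    (U W : Submodule (ZMod 3) V) (hUW : U ⊓ W = ⊥) (hUW' : U ⊔ W = ⊤)
    (hU : ∀ v ∈ U, ρ b v ∈ U) (hW : ∀ v ∈ W, ρ b v ∈ W) :
    (∀ v ∈ U, ρ b v = v) ∨ (∀ v ∈ W, ρ b v = v) := by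
  have hdU := e_map_le ρ b U hU
  have hdW := e_map_le ρ b W hW
  have hddU : (U.map (dl ρ b)).map (dl ρ b) ≤ U.map (dl ρ b) := Submodule.map_mono hdU
  have hddW : (W.map (dl ρ b)).map (dl ρ b) ≤ W.map (dl ρ b) := Submodule.map_mono hdW
  have hmul : ∀ X : Submodule (ZMod 3) V, X.map (dl ρ b * dl ρ b) = (X.map (dl ρ b)).map (dl ρ b) := by
    intro X
    rw [Module.End.mul_eq_comp, Submodule.map_comp]
  have s2 := e_finrank_sum (dl ρ b * dl ρ b) U W hUW hUW'
    (by rw [hmul]; exact hddU.trans hdU) (by rw [hmul]; exact hddW.trans hdW)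
  rw [hmul, hmul, hc.2] at s2
  by_cases h : Module.finrank (ZMod 3) ↥((W.map (dl ρ b)).map (dl ρ b)) = 0
  · right
    exact e_core ρ b hc hb3 U W hUW hUW' hU hW (Submodule.finrank_eq_zero.mp h)
  · left
    have h' : Module.finrank (ZMod 3) ↥((U.map (dl ρ b)).map (dl ρ b)) = 0 := by omega
    exact e_core ρ b hc hb3 W U (by rw [inf_comm]; exact hUW) (by rw [sup_comm]; exact hUW') hW hU
      (Submodule.finrank_eq_zero.mp h')

end Cfsg.Agent.Helper67.C3
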