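import Mathlib
import Cfsg.Agent.Lib.Helper32.C3Defs
import Cfsg.Agent.Lib.Helper9.C3M3Defs

/-!
# helper9 sub-server "C3M3" (C3 (M3), row S4415): piece A `sign_mul`
-/

set_option autoImplicit false

namespace Cfsg.Agent.Helper67.C3M3

open Cfsg.Agent.Helper32.C3 Cfsg.Agent.Helper9.C3M3

universe u v

section Mono

variable {G : Type u} [Group G] [Finite G] {V : Type v} [AddCommGroup V] [Module (ZMod 3) V]
  [Finite V] (ρ : Representation (ZMod 3) G V) (R Q : Subgroup G) (b : G)
  (e : Module.Basis (Fin 4) (ZMod 3) V) (π : G →* Equiv.Perm (Fin 4))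
  (s : G → Fin 4 → (ZMod 3)ˣ)

/-- (A) [S-M] the sign cocycle. -/
theorem sign_mul
    (hmono : ∀ g i, ρ g (e i) = ((s g i : (ZMod 3)ˣ) : ZMod 3) • e (π g i)) :
    (∀ g h i, s (g * h) i = s h i * s g (π h i)) ∧ ∀ i, s 1 i = 1 := by
  constructor
  · intro g h i
    have h1 : ρ (g * h) (e i) = ρ g (ρ h (e i)) := by rw [map_mul]; rfl
    rw [hmono (g * h) i, hmono h i, map_smul, hmono g (π h i), map_mul,
      Equiv.Perm.mul_apply] at h1
    have h2 := congrArg (fun v => e.repr v (π g (π h i))) h1
    simp only [map_smul, Module.Basis.repr_self, Finsupp.smul_apply, Finsupp.single_eq_same,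
      smul_eq_mul, mul_one] at h2
    apply Units.ext
    rw [Units.val_mul]
    exact h2
  · intro i
    have h1 : ρ 1 (e i) = e i := by rw [map_one]; rfl
    rw [hmono 1 i, map_one, Equiv.Perm.one_apply] at h1
    have h2 := congrArg (fun v => e.repr v i) h1
    simp only [map_smul, Module.Basis.repr_self, Finsupp.smul_apply, Finsupp.single_eq_same,
      smul_eq_mul, mul_one] at h2
    apply Units.ext
    rw [Units.val_one]
    exact h2

end Mono

end Cfsg.Agent.Helper67.C3M3
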