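import Mathlib
import Cfsg.Agent.Lib.Helper32.C3Defs

/-!
# helper32 lemma server "C3" (row S4415): piece O1 `triv_on_of_small`
-/

set_option autoImplicit false

namespace Cfsg.Agent.Helper67.C3

open Cfsg.Agent.Helper32.C3

universe u v

section

variable {G : Type u} [Group G] {V : Type v} [AddCommGroup V] [Module (ZMod 3) V]

theorem o1_three_smul (y : V) : y + y + y = 0 := by
  have h : (3 : ZMod 3) • y = 0 := by
    rw [show (3 : ZMod 3) = 0 from by decide, zero_smul]
  rw [show (3 : ZMod 3) = 1 + 1 + 1 from by decide, add_smul, add_smul, one_smul] at h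
  exact h

theorem o1_fix_pow (ρ : Representation (ZMod 3) G V) (h : G) (u : V) (hu : ρ h u = u) (k : ℕ) :
    ρ (h ^ k) u = u := by
  induction k with
  | zero => simp
  | succ k ih =>
    rw [pow_succ, map_mul]
    show ρ (h ^ k) (ρ h u) = u
    rw [hu, ih]

theorem o1_rho_injective (ρ : Representation (ZMod 3) G V) (b : G) :
    Function.Injective (ρ b) := by
  intro x y hxy
  have h1 : ∀ z : V, ρ b⁻¹ (ρ b z) = z := by
    intro z
    calc ρ b⁻¹ (ρ b z) = (ρ b⁻¹ * ρ b) z := rfl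
      _ = ρ (b⁻¹ * b) z := by rw [map_mul]
      _ = z := by rw [inv_mul_cancel, map_one]; rfl
  rw [← h1 x, ← h1 y, hxy]

theorem o1_card_dvd (U : Type v) [AddCommGroup U] [Module (ZMod 3) U] [Finite U]
    (hd : Module.finrank (ZMod 3) U ≤ 2) : Nat.card (U ≃ₗ[ZMod 3] U) ∣ 48 := by
  classical
  have : Module.Finite (ZMod 3) U := Module.Finite.of_finite
  let b := Module.finBasis (ZMod 3) U
  have e3 : (U ≃ₗ[ZMod 3] U) ≃ (Module.End (ZMod 3) U)ˣ :=
    (LinearMap.GeneralLinearGroup.generalLinearEquiv (ZMod 3) U).symm.toEquiv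
  have e4 : (Module.End (ZMod 3) U)ˣ ≃ GL (Fin (Module.finrank (ZMod 3) U)) (ZMod 3) :=
    (Units.mapEquiv (LinearMap.toMatrixAlgEquiv b).toMulEquiv).toEquiv
  rw [Nat.card_congr (e3.trans e4), Matrix.card_GL_field, ZMod.card]
  generalize Module.finrank (ZMod 3) U = d at hd ⊢
  interval_cases d
  · simp
  · simp
  · simp [Fin.prod_univ_succ]

end

/-- **O1.** A `{2,3}'`-element `g` with `dim (g-1)W ≤ 2` on a `g`-invariant `W` is trivial on `W`. -/
theorem triv_on_of_small {G : Type u} [Group G] [Finite G] {V : Type v} [AddCommGroup V]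
    [Module (ZMod 3) V] [Finite V] (ρ : Representation (ZMod 3) G V) (g : G)
    (hg : (orderOf g).Coprime 6) (W : Submodule (ZMod 3) V) (hW : ∀ v ∈ W, ρ g v ∈ W)
    (hsm : Module.finrank (ZMod 3) ↥(W.map (dl ρ g)) ≤ 2) : ∀ v ∈ W, ρ g v = v := by
  classical
  have hUinv : ∀ u ∈ W.map (dl ρ g), ρ g u ∈ W.map (dl ρ g) := by
    rintro _ ⟨w, hw, rfl⟩
    refine ⟨ρ g w, hW w hw, ?_⟩
    simp only [dl_apply, map_sub]
  have hTinj : Function.Injective ((ρ g).restrict hUinv) := by
    intro x y hxy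
    apply Subtype.ext
    apply o1_rho_injective ρ g
    exact congrArg Subtype.val hxy
  have hTbij : Function.Bijective ((ρ g).restrict hUinv) := Finite.injective_iff_bijective.mp hTinj
  let e : ↥(W.map (dl ρ g)) ≃ₗ[ZMod 3] ↥(W.map (dl ρ g)) :=
    LinearEquiv.ofBijective ((ρ g).restrict hUinv) hTbij
  have he : ∀ u : ↥(W.map (dl ρ g)), ((e u : ↥(W.map (dl ρ g))) : V) = ρ g (u : V) := fun u => rfl
  have hpow : ∀ k : ℕ, ∀ u : ↥(W.map (dl ρ g)),
      (((e ^ k) u : ↥(W.map (dl ρ g))) : V) = ρ (g ^ k) (u : V) := by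
    intro k
    induction k with
    | zero => intro u; simp
    | succ k ih =>
      intro u
      rw [pow_succ, LinearEquiv.mul_apply, ih, he, pow_succ, map_mul]
      rfl
  have h48 : e ^ 48 = 1 := by
    obtain ⟨m, hm⟩ := o1_card_dvd ↥(W.map (dl ρ g)) hsm
    rw [hm, pow_mul, pow_card_eq_one', one_pow]
  have h2 : Nat.Coprime (orderOf g) 2 := Nat.Coprime.coprime_dvd_right (by norm_num : 2 ∣ 6) hg
  have h3 : Nat.Coprime (orderOf g) 3 := Nat.Coprime.coprime_dvd_right (by norm_num : 3 ∣ 6) hg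
  have hU1 : ∀ u ∈ W.map (dl ρ g), ρ g u = u := by
    intro u hu
    have h1 : ρ (g ^ 48) u = u := by
      have := hpow 48 ⟨u, hu⟩
      rw [h48] at this
      exact this.symm
    have hcop : Nat.Coprime 48 (orderOf g) := by
      have : Nat.Coprime (orderOf g) (2 ^ 4 * 3) :=
        Nat.Coprime.mul_right (Nat.Coprime.pow_right 4 h2) h3
      exact this.symm
    obtain ⟨m, hm⟩ := exists_pow_eq_self_of_coprime hcop
    have := o1_fix_pow ρ (g ^ 48) u h1 m
    rwa [hm] at this
  intro w hw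
  have hu : dl ρ g w ∈ W.map (dl ρ g) := Submodule.mem_map_of_mem hw
  have hgu := hU1 _ hu
  rw [dl_apply] at hgu
  -- ρ g (ρ g w - w) = ρ g w - w
  have hgg : ρ g (ρ g w) = ρ g w + (ρ g w - w) := by
    rw [map_sub] at hgu
    rw [← hgu]; abel
  have h3w : ρ (g ^ 3) w = w := by
    have e1 : ρ (g ^ 3) w = ρ g (ρ g (ρ g w)) := by
      rw [pow_three, map_mul, map_mul]; rfl
    rw [e1, hgg, map_add, hgg, hgu]
    have := o1_three_smul (ρ g w - w)
    calc ρ g w + (ρ g w - w) + (ρ g w - w)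
        = w + ((ρ g w - w) + (ρ g w - w) + (ρ g w - w)) := by abel
      _ = w := by rw [this, add_zero]
  obtain ⟨m, hm⟩ := exists_pow_eq_self_of_coprime h3.symm
  have := o1_fix_pow ρ (g ^ 3) w h3w m
  rwa [hm] at this

end Cfsg.Agent.Helper67.C3
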