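import Mathlib
import Cfsg.Agent.Lib.Helper32.C3Defs

/-!
# helper32 lemma server "C3" (row S4415): piece O3 `inverted_trivial`
-/

set_option autoImplicit false

namespace Cfsg.Agent.Helper67.C3

open Cfsg.Agent.Helper32.C3

universe u v

section

variable {G : Type u} [Group G] {V : Type v} [AddCommGroup V] [Module (ZMod 3) V]

theorem o3_three_smul (y : V) : y + y + y = 0 := by
  have h : (3 : ZMod 3) • y = 0 := by
    rw [show (3 : ZMod 3) = 0 from by decide, zero_smul]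
  rw [show (3 : ZMod 3) = 1 + 1 + 1 from by decide, add_smul, add_smul, one_smul] at h
  exact h

theorem o3_comm_apply (ρ : Representation (ZMod 3) G V) {a c : G} (h : a * c = c * a) (v : V) :
    ρ a (ρ c v) = ρ c (ρ a v) := by
  calc ρ a (ρ c v) = (ρ a * ρ c) v := rfl
    _ = (ρ c * ρ a) v := by rw [← map_mul, h, map_mul]
    _ = ρ c (ρ a v) := rfl

theorem o3_finrank_le_two [Finite V] (N : Submodule (ZMod 3) V) (a c : V)
    (h : N ≤ Submodule.span (ZMod 3) {a, c}) : Module.finrank (ZMod 3) ↥N ≤ 2 := by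
  classical
  refine (Submodule.finrank_mono h).trans ?_
  refine (finrank_span_le_card ({a, c} : Set V)).trans ?_
  rw [Set.toFinset_insert, Set.toFinset_singleton]
  exact Finset.card_le_two

theorem o3_finrank_le_one [Finite V] (N : Submodule (ZMod 3) V) (a : V)
    (h : N ≤ Submodule.span (ZMod 3) {a}) : Module.finrank (ZMod 3) ↥N ≤ 1 := by
  classical
  refine (Submodule.finrank_mono h).trans ?_
  refine (finrank_span_le_card ({a} : Set V)).trans ?_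
  simp

end

/-- **O3.** A `{2,3}'`-element `y` commuting with `q₁` and inverted by `q₂` is `1`. -/
theorem inverted_trivial {G : Type u} [Group G] [Finite G] {V : Type v} [AddCommGroup V]
    [Module (ZMod 3) V] [Finite V] (ρ : Representation (ZMod 3) G V) (hf : Function.Injective ρ)
    (Q : Subgroup G) (b q₁ q₂ q₃ : G) (v₁ v₂ v₃ : V) (hw : QWeights ρ Q b q₁ q₂ q₃ v₁ v₂ v₃)
    (hO1 : ∀ (g : G), (orderOf g).Coprime 6 → ∀ W : Submodule (ZMod 3) V, (∀ v ∈ W, ρ g v ∈ W) →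
      Module.finrank (ZMod 3) ↥(W.map (dl ρ g)) ≤ 2 → ∀ v ∈ W, ρ g v = v)
    (hO2 : ∀ (q y : G), q * q = 1 → q * y * q⁻¹ = y⁻¹ → Odd (orderOf y) →
      ∀ C : Submodule (ZMod 3) V, (∀ v ∈ C, ρ q v ∈ C) → (∀ v ∈ C, ρ y v ∈ C) →
      Module.finrank (ZMod 3) ↥(C.map (dl ρ q)) ≤ 1 →
      Module.finrank (ZMod 3) ↥(C.map (dl ρ y)) ≤ 2)
    (y : G) (hy : (orderOf y).Coprime 6) (hy1 : y * q₁ = q₁ * y) (hy2 : q₂ * y * q₂⁻¹ = y⁻¹) :
    y = 1 := by
  classical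
  obtain ⟨hmem, hall, hne, hsq, hmul, hconj, hli, hbv, ha1, ha2, ha3, hcom, hfixb, hdec⟩ := hw
  have h2 : (-2 : ZMod 3) = 1 := by decide
  have comm_y1 : ∀ v, ρ y (ρ q₁ v) = ρ q₁ (ρ y v) := o3_comm_apply ρ hy1
  have h21 : q₂ * q₁ = q₁ * q₂ := by rw [hmul.2.1, hmul.1]
  have comm_21 : ∀ v, ρ q₂ (ρ q₁ v) = ρ q₁ (ρ q₂ v) := o3_comm_apply ρ h21
  -- representation of an arbitrary vector
  have hrep : ∀ v : V, ∃ f ∈ fixS ρ Q, ∃ α β γ : ZMod 3,
      v = f + (α • v₁ + β • v₂ + γ • v₃) := by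
    intro v
    have hv : v ∈ fixS ρ Q ⊔ comS ρ Q := by rw [hdec.2]; trivial
    obtain ⟨f, hf', c, hc, rfl⟩ := Submodule.mem_sup.mp hv
    rw [hcom, Submodule.mem_span_triple] at hc
    obtain ⟨α, β, γ, rfl⟩ := hc
    exact ⟨f, hf', α, β, γ, rfl⟩
  have hd1 : ∀ f ∈ fixS ρ Q, ∀ α β γ : ZMod 3,
      ρ q₁ (f + (α • v₁ + β • v₂ + γ • v₃)) - (f + (α • v₁ + β • v₂ + γ • v₃)) =
        β • v₂ + γ • v₃ := by
    intro f hf' α β γ
    rw [map_add, map_add, map_add, map_smul, map_smul, map_smul, ha1.1, ha1.2.1, ha1.2.2,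
      (mem_fixS ρ Q f).mp hf' q₁ hmem.1]
    have : f + (α • v₁ + β • -v₂ + γ • -v₃) - (f + (α • v₁ + β • v₂ + γ • v₃)) =
        ((-2 : ZMod 3) * β) • v₂ + ((-2 : ZMod 3) * γ) • v₃ := by module
    rw [this, h2, one_mul, one_mul]
  have hd2 : ∀ f ∈ fixS ρ Q, ∀ α : ZMod 3,
      ρ q₂ (f + α • v₁) - (f + α • v₁) = α • v₁ := by
    intro f hf' α
    rw [map_add, map_smul, ha2.1, (mem_fixS ρ Q f).mp hf' q₂ hmem.2.1]
    have : f + α • -v₁ - (f + α • v₁) = ((-2 : ZMod 3) * α) • v₁ := by module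
    rw [this, h2, one_mul]
  -- `W₁ = range (q₁ - 1)`
  have hW1le : LinearMap.range (dl ρ q₁) ≤ Submodule.span (ZMod 3) {v₂, v₃} := by
    rintro _ ⟨v, rfl⟩
    obtain ⟨f, hf', α, β, γ, rfl⟩ := hrep v
    rw [dl_apply, hd1 f hf']
    exact Submodule.mem_span_pair.mpr ⟨β, γ, rfl⟩
  have hW1inv : ∀ w ∈ LinearMap.range (dl ρ q₁), ρ y w ∈ LinearMap.range (dl ρ q₁) := by
    rintro _ ⟨v, rfl⟩
    refine ⟨ρ y v, ?_⟩
    rw [dl_apply, dl_apply, map_sub, comm_y1]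
  have hyW1 : ∀ w ∈ LinearMap.range (dl ρ q₁), ρ y w = w := by
    refine hO1 y hy _ hW1inv ?_
    refine o3_finrank_le_two _ v₂ v₃ (le_trans ?_ hW1le)
    rintro _ ⟨w, hw', rfl⟩
    rw [dl_apply]
    exact Submodule.sub_mem _ (hW1inv w hw') hw'
  -- `C₁ = ker (q₁ - 1)`
  have hC1mem : ∀ v : V, v ∈ LinearMap.ker (dl ρ q₁) ↔ ρ q₁ v = v := by
    intro v
    rw [LinearMap.mem_ker, dl_apply, sub_eq_zero]
  have hC1y : ∀ v ∈ LinearMap.ker (dl ρ q₁), ρ y v ∈ LinearMap.ker (dl ρ q₁) := by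
    intro v hv
    rw [hC1mem] at hv ⊢
    rw [← comm_y1, hv]
  have hC1q : ∀ v ∈ LinearMap.ker (dl ρ q₁), ρ q₂ v ∈ LinearMap.ker (dl ρ q₁) := by
    intro v hv
    rw [hC1mem] at hv ⊢
    rw [← comm_21, hv]
  have hC1map : (LinearMap.ker (dl ρ q₁)).map (dl ρ q₂) ≤ Submodule.span (ZMod 3) {v₁} := by
    rintro _ ⟨v, hv, rfl⟩
    obtain ⟨f, hf', α, β, γ, rfl⟩ := hrep v
    have hv' := (hC1mem _).mp hv
    have h0 : β • v₂ + γ • v₃ = 0 := by
      rw [← hd1 f hf' α β γ, hv', sub_self]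
    have hβγ : β = 0 ∧ γ = 0 := by
      have := Fintype.linearIndependent_iff.mp hli ![0, β, γ] (by
        simp [Fin.sum_univ_three, h0])
      exact ⟨by simpa using this 1, by simpa using this 2⟩
    rw [hβγ.1, hβγ.2, zero_smul, zero_smul, add_zero, add_zero, dl_apply, hd2 f hf']
    exact Submodule.mem_span_singleton.mpr ⟨α, rfl⟩
  have hodd : Odd (orderOf y) :=
    Nat.coprime_two_right.mp (Nat.Coprime.coprime_dvd_right (by norm_num : 2 ∣ 6) hy)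
  have hyC1 : ∀ v ∈ LinearMap.ker (dl ρ q₁), ρ y v = v := by
    refine hO1 y hy _ hC1y ?_
    exact hO2 q₂ y hsq.2.1 hy2 hodd _ hC1q hC1y (o3_finrank_le_one _ v₁ hC1map)
  -- conclusion
  have hall' : ∀ v : V, ρ y v = v := by
    intro v
    have A_sq : ρ q₁ (ρ q₁ v) = v := by
      calc ρ q₁ (ρ q₁ v) = (ρ q₁ * ρ q₁) v := rfl
        _ = v := by rw [← map_mul, hsq.1, map_one]; rfl
    have hc : v + ρ q₁ v ∈ LinearMap.ker (dl ρ q₁) := by
      rw [hC1mem, map_add, A_sq, add_comm]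
    have hw' : dl ρ q₁ v ∈ LinearMap.range (dl ρ q₁) := ⟨v, rfl⟩
    have e : v = dl ρ q₁ v - (v + ρ q₁ v) := by
      rw [dl_apply]
      have := o3_three_smul v
      have e2 : ρ q₁ v - v - (v + ρ q₁ v) = v - (v + v + v) := by abel
      rw [e2, this, sub_zero]
    calc ρ y v = ρ y (dl ρ q₁ v - (v + ρ q₁ v)) := by rw [← e]
      _ = dl ρ q₁ v - (v + ρ q₁ v) := by rw [map_sub, hyW1 _ hw', hyC1 _ hc]
      _ = v := e.symm
  apply hf
  apply LinearMap.ext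
  intro v
  rw [hall' v, map_one]
  rfl

end Cfsg.Agent.Helper67.C3
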