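import Mathlib
import Cfsg.Agent.Lib.Helper67.AutOrbitCount

set_option autoImplicit false

namespace Cfsg.Agent.Helper67

namespace ClassTwo

open scoped commutatorElement

variable {G : Type*} [Group G]

/-- class two hypothesis: all commutators are central -/
def CommCentral (G : Type*) [Group G] : Prop := ∀ a b : G, ⁅a, b⁆ ∈ Subgroup.center G

theorem comm_comm (h : CommCentral G) (a b g : G) : ⁅a, b⁆ * g = g * ⁅a, b⁆ :=
  ((Subgroup.mem_center_iff.1 (h a b)) g).symm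

theorem mul_eq (h : CommCentral G) (a b : G) : a * b = b * a * ⁅a, b⁆ := by
  rw [← comm_comm h a b (b * a)]
  simp [commutatorElement_def, mul_assoc]

theorem comm_mul_left (h : CommCentral G) (a b c : G) : ⁅a * b, c⁆ = ⁅a, c⁆ * ⁅b, c⁆ := by
  have hw : b * c * b⁻¹ = ⁅b, c⁆ * c := by simp [commutatorElement_def, mul_assoc]
  calc ⁅a * b, c⁆ = a * (b * c * b⁻¹) * a⁻¹ * c⁻¹ := by
        simp [commutatorElement_def, mul_assoc]
    _ = a * (⁅b, c⁆ * c) * a⁻¹ * c⁻¹ := by rw [hw]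
    _ = ⁅b, c⁆ * (a * c * a⁻¹ * c⁻¹) := by
        rw [← mul_assoc a, ← comm_comm h b c a]; simp [mul_assoc]
    _ = ⁅a, c⁆ * ⁅b, c⁆ := by rw [comm_comm h b c]; rfl

theorem comm_mul_right (h : CommCentral G) (a b c : G) : ⁅a, b * c⁆ = ⁅a, b⁆ * ⁅a, c⁆ := by
  have e1 : ∀ x y : G, ⁅x, y⁆ = ⁅y, x⁆⁻¹ := fun x y => (commutatorElement_inv y x).symm
  rw [e1 a (b * c), comm_mul_left h, mul_inv_rev, e1 a b, e1 a c]
  have := comm_comm h c a (⁅b, a⁆⁻¹)
  have h2 : ⁅c, a⁆⁻¹ * ⁅b, a⁆⁻¹ = ⁅b, a⁆⁻¹ * ⁅c, a⁆⁻¹ := by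
    rw [← mul_inv_rev, ← mul_inv_rev]
    congr 1
    exact comm_comm h b a _
  exact h2

/-- `a ↦ ⁅a, c⁆` as a homomorphism -/
def commL (h : CommCentral G) (c : G) : G →* G where
  toFun a := ⁅a, c⁆
  map_one' := by simp
  map_mul' a b := comm_mul_left h a b c

/-- `b ↦ ⁅a, b⁆` as a homomorphism -/
def commR (h : CommCentral G) (a : G) : G →* G where
  toFun b := ⁅a, b⁆
  map_one' := by simp
  map_mul' b c := comm_mul_right h a b c

@[simp] theorem commL_apply (h : CommCentral G) (c a : G) : commL h c a = ⁅a, c⁆ := rfl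
@[simp] theorem commR_apply (h : CommCentral G) (a b : G) : commR h a b = ⁅a, b⁆ := rfl

theorem comm_pow_left (h : CommCentral G) (a c : G) (n : ℕ) : ⁅a ^ n, c⁆ = ⁅a, c⁆ ^ n :=
  map_pow (commL h c) a n

theorem comm_zpow_left (h : CommCentral G) (a c : G) (n : ℤ) : ⁅a ^ n, c⁆ = ⁅a, c⁆ ^ n :=
  map_zpow (commL h c) a n

theorem comm_pow_right (h : CommCentral G) (a c : G) (n : ℕ) : ⁅a, c ^ n⁆ = ⁅a, c⁆ ^ n :=
  map_pow (commR h a) c n

theorem comm_eq_one_iff (a b : G) : ⁅a, b⁆ = 1 ↔ a * b = b * a := by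
  rw [commutatorElement_eq_one_iff_mul_comm]

/-- the binomial formula in class two -/
theorem mul_pow_eq (h : CommCentral G) (a b : G) (n : ℕ) :
    (a * b) ^ n = a ^ n * b ^ n * ⁅b, a⁆ ^ (n.choose 2) := by
  induction n with
  | zero => simp
  | succ n ih =>
    have hc : ∀ g : G, ⁅b, a⁆ * g = g * ⁅b, a⁆ := comm_comm h b a
    have hcn : ∀ (k : ℕ) (g : G), ⁅b, a⁆ ^ k * g = g * ⁅b, a⁆ ^ k := by
      intro k g
      exact ((Commute.pow_left (show Commute ⁅b, a⁆ g from hc g) k)).eq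
    have hba : b ^ n * a = a * b ^ n * ⁅b, a⁆ ^ n := by
      rw [mul_eq h (b ^ n) a, comm_pow_left h]
    rw [pow_succ, ih, Nat.choose_succ_succ', Nat.choose_one_right]
    calc a ^ n * b ^ n * ⁅b, a⁆ ^ n.choose 2 * (a * b)
        = a ^ n * (b ^ n * a) * b * ⁅b, a⁆ ^ n.choose 2 := by
          rw [mul_assoc (a ^ n * b ^ n), hcn]; simp only [mul_assoc]
      _ = a ^ n * (a * b ^ n * ⁅b, a⁆ ^ n) * b * ⁅b, a⁆ ^ n.choose 2 := by rw [hba]
      _ = a ^ (n + 1) * b ^ (n + 1) * ⁅b, a⁆ ^ (n + n.choose 2) := by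
          rw [pow_succ, pow_succ, pow_add]
          rw [mul_assoc (a ^ n * (a * b ^ n * ⁅b, a⁆ ^ n)), hcn n]
          simp only [mul_assoc]
          rw [hcn n]
          simp only [mul_assoc]

end ClassTwo

end Cfsg.Agent.Helper67
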