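import Mathlib
import Cfsg.Agent.Lib.Helper67.ClassTwo

set_option autoImplicit false

namespace Cfsg.Agent.Helper67

namespace ClassTwo

open scoped commutatorElement

variable {G : Type*} [Group G]

/-- `g ↦ g * θ g` for a central-valued endomorphism `θ` -/
def twistHom (θ : G →* G) (hθ : ∀ g, θ g ∈ Subgroup.center G) : G →* G where
  toFun g := g * θ g
  map_one' := by simp
  map_mul' a b := by
    rw [map_mul]
    have := (Subgroup.mem_center_iff.1 (hθ a)) b
    calc a * b * (θ a * θ b) = a * (b * θ a) * θ b := by simp only [mul_assoc]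
      _ = a * (θ a * b) * θ b := by rw [this]
      _ = a * θ a * (b * θ b) := by simp only [mul_assoc]

section Lift

variable (ζ u : G) (hu : orderOf u ∣ orderOf ζ) (κ : G →* G)
  (hκ : ∀ g, κ g ∈ Subgroup.zpowers ζ)

theorem zpow_eq_of_zpow_eq {ζ u : G} (hu : orderOf u ∣ orderOf ζ) {a b : ℤ}
    (hab : ζ ^ a = ζ ^ b) : u ^ a = u ^ b := by
  rw [zpow_eq_zpow_iff_modEq] at hab ⊢
  exact Int.ModEq.of_dvd (Int.natCast_dvd_natCast.mpr hu) hab

/-- the exponent of `κ g` with respect to `ζ` -/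
noncomputable def expo (g : G) : ℤ := Classical.choose (Subgroup.mem_zpowers_iff.1 (hκ g))

theorem expo_spec (g : G) : ζ ^ expo ζ κ hκ g = κ g :=
  Classical.choose_spec (Subgroup.mem_zpowers_iff.1 (hκ g))

/-- the composite `G → ⟨ζ⟩ → ⟨u⟩`, `ζ ↦ u` -/
noncomputable def liftHom : G →* G where
  toFun g := u ^ expo ζ κ hκ g
  map_one' := by
    have h1 : ζ ^ expo ζ κ hκ 1 = ζ ^ (0 : ℤ) := by rw [expo_spec, map_one, zpow_zero]
    rw [zpow_eq_of_zpow_eq hu h1, zpow_zero]
  map_mul' a b := by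
    have h1 : ζ ^ expo ζ κ hκ (a * b) = ζ ^ (expo ζ κ hκ a + expo ζ κ hκ b) := by
      rw [expo_spec, map_mul, zpow_add, expo_spec, expo_spec]
    rw [zpow_eq_of_zpow_eq hu h1, zpow_add]

theorem liftHom_eq (g : G) (k : ℤ) (hk : ζ ^ k = κ g) : liftHom ζ u hu κ hκ g = u ^ k := by
  change u ^ expo ζ κ hκ g = u ^ k
  apply zpow_eq_of_zpow_eq hu
  rw [expo_spec, hk]

theorem liftHom_mem (g : G) : liftHom ζ u hu κ hκ g ∈ Subgroup.zpowers u :=
  ⟨expo ζ κ hκ g, rfl⟩

end Lift

/-- Case (a): a central automorphism moving `x` to `x * w`. -/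
theorem exists_aut_mul_central [Finite G] (h : CommCentral G) (x y w : G)
    (hcomm : ∀ a b : G, ⁅a, b⁆ ∈ Subgroup.zpowers ⁅x, y⁆) (hw : w ∈ Subgroup.center G)
    (hwo : orderOf w ∣ orderOf ⁅x, y⁆) :
    ∃ α : MulAut G, α x = x * w := by
  set ζ := ⁅x, y⁆ with hζ
  set κ := commL h y with hκd
  have hκ : ∀ g, κ g ∈ Subgroup.zpowers ζ := fun g => hcomm g y
  set θ := liftHom ζ w hwo κ hκ with hθd
  have hθc : ∀ g, θ g ∈ Subgroup.center G := by
    intro g
    obtain ⟨k, hk⟩ := liftHom_mem ζ w hwo κ hκ g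
    rw [hθd, ← hk]
    exact Subgroup.zpow_mem _ hw k
  have hinj : Function.Injective (twistHom θ hθc) := by
    rw [injective_iff_map_eq_one]
    intro g hg
    change g * θ g = 1 at hg
    have hgc : g ∈ Subgroup.center G := by
      have : g = (θ g)⁻¹ := eq_inv_of_mul_eq_one_left hg
      rw [this]; exact Subgroup.inv_mem _ (hθc g)
    have hκg : κ g = 1 := by
      change ⁅g, y⁆ = 1
      rw [commutatorElement_eq_one_iff_mul_comm]
      exact ((Subgroup.mem_center_iff.1 hgc) y).symm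
    have : θ g = w ^ (0 : ℤ) := liftHom_eq ζ w hwo κ hκ g 0 (by rw [zpow_zero, hκg])
    rw [this, zpow_zero, mul_one] at hg
    exact hg
  refine ⟨MulEquiv.ofBijective (twistHom θ hθc) ⟨hinj, Finite.surjective_of_injective hinj⟩, ?_⟩
  change x * θ x = x * w
  have : θ x = w ^ (1 : ℤ) := liftHom_eq ζ w hwo κ hκ x 1 (by rw [zpow_one]; rfl)
  rw [this, zpow_one]

/-- Case (b), odd `p`: a transvection-like automorphism. -/
theorem exists_aut_odd [Finite G] (h : CommCentral G) (p : ℕ) (hp : p.Prime) (hodd : p ≠ 2)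
    (ζ : G) (hζo : orderOf ζ = p) (hcomm : ∀ a b : G, ⁅a, b⁆ ∈ Subgroup.zpowers ζ)
    (v : G) (hvp : v ^ p = 1) (hv : v ∉ Subgroup.center G) :
    ∃ α : MulAut G, ∀ g, ⁅v, g⁆ ≠ 1 → ∀ c ∈ Subgroup.center G, α g ≠ g * c := by
  have hvo : orderOf v ∣ orderOf ζ := by rw [hζo]; exact orderOf_dvd_of_pow_eq_one hvp
  set κ := commR h v with hκd
  have hκ : ∀ g, κ g ∈ Subgroup.zpowers ζ := fun g => hcomm v g
  set β := liftHom ζ v hvo κ hκ with hβd
  have hβk : ∀ g, ∃ k : ℤ, ζ ^ k = ⁅v, g⁆ ∧ β g = v ^ k := by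
    intro g
    obtain ⟨k, hk⟩ := Subgroup.mem_zpowers_iff.1 (hκ g)
    exact ⟨k, hk, liftHom_eq ζ v hvo κ hκ g k hk⟩
  have hsym : ∀ g t, ⁅β g, t⁆ = ⁅β t, g⁆ := by
    intro g t
    obtain ⟨kg, hkg, hg⟩ := hβk g
    obtain ⟨kt, hkt, ht⟩ := hβk t
    rw [hg, ht, comm_zpow_left h, comm_zpow_left h, ← hkg, ← hkt, ← zpow_mul, ← zpow_mul,
      mul_comm]
  have hcommβ : ∀ g t, β g * β t = β t * β g := by
    intro g t
    obtain ⟨kg, -, hg⟩ := hβk g
    obtain ⟨kt, -, ht⟩ := hβk t
    rw [hg, ht, ← zpow_add, ← zpow_add, add_comm]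
  let αh : G →* G :=
    { toFun := fun g => β g * g * β g
      map_one' := by simp
      map_mul' := by
        intro g t
        set A := β g with hA
        set B := β t with hB
        set c := ⁅A, t⁆ with hc
        have hcB : ⁅B, g⁆ = c := (hsym g t).symm
        have hcc : ∀ s : G, c * s = s * c := comm_comm h A t
        have e1 : A * t = t * A * c := mul_eq h A t
        have e2 : B * g = g * B * c := by rw [← hcB]; exact mul_eq h B g
        have e2' : g * B = B * g * c⁻¹ := by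
          rw [e2, mul_assoc, mul_inv_cancel, mul_one]
        have hAB : A * B = B * A := hcommβ g t
        have hcancel : c⁻¹ * (t * A * c) = t * A := by
          rw [← hcc (t * A), inv_mul_cancel_left]
        rw [map_mul]
        symm
        calc A * g * A * (B * t * B)
            = A * g * (A * B) * t * B := by simp only [mul_assoc]
          _ = A * g * (B * A) * t * B := by rw [hAB]
          _ = A * (g * B) * (A * t) * B := by simp only [mul_assoc]
          _ = A * (B * g * c⁻¹) * (t * A * c) * B := by rw [e1, e2']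
          _ = A * (B * g) * (c⁻¹ * (t * A * c)) * B := by simp only [mul_assoc]
          _ = A * (B * g) * (t * A) * B := by rw [hcancel]
          _ = A * B * (g * t) * (A * B) := by simp only [mul_assoc] }
  have hαh : ∀ g, αh g = β g * g * β g := fun g => rfl
  have hinj : Function.Injective αh := by
    rw [injective_iff_map_eq_one]
    intro g hg
    rw [hαh] at hg
    obtain ⟨k, hk, hgk⟩ := hβk g
    have hgv : g = v ^ (-k - k) := by
      have : g = (β g)⁻¹ * (β g)⁻¹ := by
        have h1 : β g * g = (β g)⁻¹ := eq_inv_of_mul_eq_one_left hg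
        calc g = (β g)⁻¹ * (β g * g) := by rw [inv_mul_cancel_left]
          _ = (β g)⁻¹ * (β g)⁻¹ := by rw [h1]
      rw [this, hgk, ← zpow_neg, ← zpow_add]
      congr 1
    have hcomm1 : ⁅v, g⁆ = 1 := by
      rw [commutatorElement_eq_one_iff_mul_comm, hgv]
      exact ((Commute.refl v).zpow_right _).eq
    have hβ1 : β g = v ^ (0 : ℤ) :=
      liftHom_eq ζ v hvo κ hκ g 0 (by rw [zpow_zero]; exact hcomm1.symm)
    rw [hβ1, zpow_zero, one_mul, mul_one] at hg
    exact hg
  refine ⟨MulEquiv.ofBijective αh ⟨hinj, Finite.surjective_of_injective hinj⟩, ?_⟩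
  intro g hg c hc hEq
  change β g * g * β g = g * c at hEq
  obtain ⟨k, hk, hgk⟩ := hβk g
  set A := β g with hA
  have e1 : A * g = g * A * ⁅A, g⁆ := mul_eq h A g
  have hAA : A * A ∈ Subgroup.center G := by
    have h2 : g * (A * ⁅A, g⁆ * A) = g * c := by
      rw [← hEq, e1]; simp only [mul_assoc]
    have h3 : A * ⁅A, g⁆ * A = c := mul_left_cancel h2
    have h4 : A * A = c * ⁅A, g⁆⁻¹ := by
      rw [← h3, mul_assoc A, comm_comm h A g A, ← mul_assoc, mul_assoc (A * A), mul_inv_cancel,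
        mul_one]
    rw [h4]
    exact Subgroup.mul_mem _ hc (Subgroup.inv_mem _ (h A g))
  -- p does not divide k
  have hpk : ¬ (p : ℤ) ∣ k := by
    intro hdvd
    apply hg
    rw [← hk]
    obtain ⟨m, rfl⟩ := hdvd
    rw [zpow_mul, zpow_natCast, ← hζo, pow_orderOf_eq_one, one_zpow]
  have hpi : Prime (p : ℤ) := Nat.prime_iff_prime_int.1 hp
  have hp2k : ¬ (p : ℤ) ∣ 2 * k := by
    intro hdvd
    rcases hpi.dvd_or_dvd hdvd with h2 | h2
    · have : p ∣ 2 := by exact_mod_cast h2
      exact hodd ((Nat.prime_dvd_prime_iff_eq hp Nat.prime_two).1 this)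
    · exact hpk h2
  have hcop : IsCoprime (2 * k) (p : ℤ) :=
    (hpi.irreducible.coprime_iff_not_dvd.2 hp2k).symm
  obtain ⟨a, b, hab⟩ := hcop
  apply hv
  have hv1 : v = (A * A) ^ a := by
    have : v = v ^ (a * (2 * k) + b * (p : ℤ)) := by rw [hab, zpow_one]
    rw [this, zpow_add, mul_comm b (p : ℤ), zpow_mul v (p : ℤ) b, zpow_natCast, hvp, one_zpow,
      mul_one, hgk, ← zpow_add, ← zpow_mul]
    congr 1
    ring
  rw [hv1]
  exact Subgroup.zpow_mem _ hAA a

/-- Case (b), `p = 2`. -/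
theorem exists_aut_two [Finite G] (h : CommCentral G) (z : G) (hz2 : z * z = 1)
    (hcomm : ∀ a b : G, ⁅a, b⁆ = 1 ∨ ⁅a, b⁆ = z) (b : G) (hb : b * b = z)
    (hbc : b ∉ Subgroup.center G) :
    ∃ α : MulAut G, ∀ g, ⁅b, g⁆ ≠ 1 → ∀ c ∈ Subgroup.center G, α g ≠ g * c := by
  classical
  have hne : ∀ g, ⁅b, g⁆ ≠ 1 → ⁅b, g⁆ = z := fun g hg => (hcomm b g).resolve_left hg
  have hrel : ∀ g, ⁅b, g⁆ ≠ 1 → b * g = g * b * z := by
    intro g hg
    rw [← hne g hg]; exact mul_eq h b g
  have hzc : ∀ g : G, ⁅b, g⁆ ≠ 1 → ∀ s : G, z * s = s * z := by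
    intro g hg s
    rw [← hne g hg]; exact comm_comm h b g s
  let αh : G →* G :=
    { toFun := fun g => if ⁅b, g⁆ = 1 then g else g * b
      map_one' := by simp
      map_mul' := by
        intro g t
        have hgt : ⁅b, g * t⁆ = ⁅b, g⁆ * ⁅b, t⁆ := comm_mul_right h b g t
        by_cases h1 : ⁅b, g⁆ = 1
        · by_cases h2 : ⁅b, t⁆ = 1
          · have : ⁅b, g * t⁆ = 1 := by rw [hgt, h1, h2, one_mul]
            simp only [this, h1, h2, if_true]
          · have : ⁅b, g * t⁆ ≠ 1 := by rw [hgt, h1, one_mul]; exact h2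
            simp only [this, h1, h2, if_true, if_false, mul_assoc]
        · by_cases h2 : ⁅b, t⁆ = 1
          · have : ⁅b, g * t⁆ ≠ 1 := by rw [hgt, h2, mul_one]; exact h1
            simp only [this, h1, h2, if_true, if_false]
            rw [commutatorElement_eq_one_iff_mul_comm] at h2
            rw [mul_assoc g b t, h2, mul_assoc]
          · have : ⁅b, g * t⁆ = 1 := by rw [hgt, hne g h1, hne t h2, hz2]
            simp only [this, h1, h2, if_true, if_false]
            rw [mul_assoc g b, ← mul_assoc b t b, hrel t h2, mul_assoc (t * b), hzc t h2 b,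
              ← mul_assoc (t * b), mul_assoc t b b, hb, mul_assoc t, hz2, mul_one] }
  have hαh : ∀ g, αh g = if ⁅b, g⁆ = 1 then g else g * b := fun g => rfl
  have hinj : Function.Injective αh := by
    rw [injective_iff_map_eq_one]
    intro g hg
    rw [hαh] at hg
    by_cases h1 : ⁅b, g⁆ = 1
    · rw [if_pos h1] at hg; exact hg
    · rw [if_neg h1] at hg
      exfalso
      apply h1
      have : g = b⁻¹ := eq_inv_of_mul_eq_one_left hg
      rw [this, commutatorElement_eq_one_iff_mul_comm]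
      simp
  refine ⟨MulEquiv.ofBijective αh ⟨hinj, Finite.surjective_of_injective hinj⟩, ?_⟩
  intro g hg c hc hEq
  change αh g = g * c at hEq
  rw [hαh, if_neg hg] at hEq
  exact hbc (mul_left_cancel hEq ▸ hc)

end ClassTwo

end Cfsg.Agent.Helper67
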