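import Mathlib
import Cfsg.Agent.Lib.Helper67.ClassTwoAut

set_option autoImplicit false

namespace Cfsg.Agent.Helper67

namespace ClassTwo

open scoped commutatorElement
open MulAction

variable {G : Type*} [Group G]

/-- If the commutator subgroup has order `minFac`, it is central. -/
theorem commCentral_of_card [Finite G]
    (hcard : Nat.card (commutator G) = (Nat.card G).minFac) : CommCentral G := by
  intro a b
  by_contra hz
  set z := ⁅a, b⁆ with hzd
  have hzmem : z ∈ commutator G := by
    rw [commutator_def]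
    exact Subgroup.commutator_mem_commutator (Subgroup.mem_top a) (Subgroup.mem_top b)
  have hz1 : z ≠ 1 := by
    intro h1
    apply hz
    rw [h1]; exact Subgroup.one_mem _
  have hle := minFac_le_ncard_class z hz
  have hsub : (ConjClasses.mk z).carrier ⊆ ((commutator G : Subgroup G) : Set G) \ {1} := by
    intro y hy
    rw [ConjClasses.mem_carrier_iff_mk_eq, ConjClasses.mk_eq_mk_iff_isConj, isConj_comm,
      isConj_iff] at hy
    obtain ⟨c, hc⟩ := hy
    refine ⟨?_, ?_⟩
    · rw [← hc]
      have hn : (commutator G).Normal := inferInstance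
      exact hn.conj_mem z hzmem c
    · intro hy1
      rw [Set.mem_singleton_iff] at hy1
      apply hz1
      rw [hy1] at hc
      have : z = c⁻¹ * 1 * c := by rw [← hc]; group
      rw [this]; group
  have h2 := Set.ncard_le_ncard hsub (Set.toFinite _)
  rw [Set.ncard_diff_singleton_of_mem (Subgroup.one_mem _)] at h2
  have h3 : ((commutator G : Subgroup G) : Set G).ncard = (Nat.card G).minFac := by
    rw [← hcard]; exact (Nat.card_coe_set_eq _).symm
  have hpos : 0 < (Nat.card G).minFac := Nat.minFac_pos _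
  omega

/-- a nontrivial commutator generates the commutator subgroup of prime order -/
theorem generator_of_card [Finite G] {p : ℕ} (hp : p.Prime)
    (hcard : Nat.card (commutator G) = p) (x y : G) (hxy : ⁅x, y⁆ ≠ 1) :
    orderOf ⁅x, y⁆ = p ∧ ∀ a b : G, ⁅a, b⁆ ∈ Subgroup.zpowers ⁅x, y⁆ := by
  have hmem : ∀ a b : G, ⁅a, b⁆ ∈ commutator G := by
    intro a b
    rw [commutator_def]
    exact Subgroup.commutator_mem_commutator (Subgroup.mem_top a) (Subgroup.mem_top b)
  have ho : orderOf ⁅x, y⁆ = p := by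
    have hd : orderOf ⁅x, y⁆ ∣ p := by
      rw [← hcard]; exact Subgroup.orderOf_dvd_natCard _ (hmem x y)
    rcases (Nat.dvd_prime hp).1 hd with h1 | h1
    · exact absurd (orderOf_eq_one_iff.1 h1) hxy
    · exact h1
  refine ⟨ho, ?_⟩
  have hle : Subgroup.zpowers ⁅x, y⁆ ≤ commutator G := by
    rw [Subgroup.zpowers_le]; exact hmem x y
  have heq : Subgroup.zpowers ⁅x, y⁆ = commutator G := by
    apply Subgroup.eq_of_le_of_card_ge hle
    rw [Nat.card_zpowers, ho, hcard]
  intro a b
  rw [heq]; exact hmem a b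

/-- the center of a non-abelian group has index at least `minFac ^ 2` -/
theorem card_center_mul_sq_le [Finite G] (hna : ∃ x y : G, x * y ≠ y * x) :
    Nat.card (Subgroup.center G) * (Nat.card G).minFac ^ 2 ≤ Nat.card G := by
  set p := (Nat.card G).minFac with hp
  set n := (Subgroup.center G).index with hn
  have hn0 : n ≠ 0 := Subgroup.index_ne_zero_of_finite
  have hnd : n ∣ Nat.card G := Subgroup.index_dvd_card _
  have hcyc : ¬ IsCyclic (G ⧸ Subgroup.center G) := by
    intro hc
    obtain ⟨x, y, hxy⟩ := hna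
    exact hxy (commutative_of_cyclic_center_quotient (QuotientGroup.mk' (Subgroup.center G))
      (by rw [QuotientGroup.ker_mk']) x y)
  have hn1 : n ≠ 1 := by
    intro h1
    apply hcyc
    have : Nat.card (G ⧸ Subgroup.center G) = 1 := by rw [← Subgroup.index_eq_card]; exact h1
    haveI : Subsingleton (G ⧸ Subgroup.center G) := (Nat.card_eq_one_iff_unique.1 this).1
    infer_instance
  have hnp : ¬ n.Prime := by
    intro hpr
    apply hcyc
    haveI : Fact n.Prime := ⟨hpr⟩
    exact isCyclic_of_prime_card (p := n) (by rw [← Subgroup.index_eq_card])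
  -- n = q * m with q, m ≥ p
  set q := n.minFac with hq
  have hqd : q ∣ n := Nat.minFac_dvd n
  obtain ⟨m, hm⟩ := hqd
  have hqp : p ≤ q := by
    apply Nat.minFac_le_of_dvd (Nat.minFac_prime hn1).two_le
    exact dvd_trans (Nat.minFac_dvd n) hnd
  have hm1 : m ≠ 1 := by
    intro h1
    apply hnp
    rw [hm, h1, mul_one]
    exact Nat.minFac_prime hn1
  have hm0 : m ≠ 0 := by
    intro h0
    rw [h0, mul_zero] at hm
    exact hn0 hm
  have hmp : p ≤ m := by
    have h1 : p ≤ m.minFac := by
      apply Nat.minFac_le_of_dvd (Nat.minFac_prime hm1).two_le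
      exact dvd_trans (Nat.minFac_dvd m) (dvd_trans (Dvd.intro_left q hm.symm) hnd)
    exact le_trans h1 (Nat.minFac_le (Nat.pos_of_ne_zero hm0))
  have hpn : p ^ 2 ≤ n := by
    rw [hm, pow_two]
    exact Nat.mul_le_mul hqp hmp
  calc Nat.card (Subgroup.center G) * p ^ 2 ≤ Nat.card (Subgroup.center G) * n :=
        Nat.mul_le_mul_left _ hpn
    _ = Nat.card G := Subgroup.card_mul_index _

theorem exists_comm_of_isConj (h : CommCentral G) (x y : G) (hc : IsConj x y) :
    ∃ c : G, y = x * ⁅c, x⁆ := by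
  rw [isConj_iff] at hc
  obtain ⟨c, hc⟩ := hc
  refine ⟨c, ?_⟩
  rw [← hc, ← comm_comm h c x x]
  simp [commutatorElement_def]

theorem not_isConj_of_forall_center (h : CommCentral G) (x y : G)
    (hy : ∀ c ∈ Subgroup.center G, y ≠ x * c) : ¬ IsConj x y := by
  intro hc
  obtain ⟨c, hc⟩ := exists_comm_of_isConj h x y hc
  exact hy ⁅c, x⁆ (h c x) hc

/-- odd `p`: a noncentral element of order dividing `p` -/
theorem exists_noncentral_pow_eq_one [Finite G] (h : CommCentral G) (p : ℕ) (hp : p.Prime)
    (hodd : p ≠ 2) (ζ : G) (hζo : orderOf ζ = p)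
    (hcomm : ∀ a b : G, ⁅a, b⁆ ∈ Subgroup.zpowers ζ)
    (hZ : Nat.card (Subgroup.center G) * p ^ 2 ≤ Nat.card G)
    (hb : ∀ w ∈ Subgroup.center G, w ^ p = 1 → w ∈ Subgroup.zpowers ζ) :
    ∃ v : G, v ^ p = 1 ∧ v ∉ Subgroup.center G := by
  by_contra hcon
  push Not at hcon
  have hp3 : 2 < p := lt_of_le_of_ne hp.two_le (Ne.symm hodd)
  have hcp : ∀ a b : G, ⁅a, b⁆ ^ p = 1 := by
    intro a b
    obtain ⟨k, hk⟩ := Subgroup.mem_zpowers_iff.1 (hcomm a b)
    rw [← hk, ← zpow_natCast, ← zpow_mul, mul_comm, zpow_mul, zpow_natCast, ← hζo,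
      pow_orderOf_eq_one, one_zpow]
  let f : G →* G :=
    { toFun := fun g => g ^ p
      map_one' := one_pow p
      map_mul' := by
        intro a b
        rw [mul_pow_eq h a b p]
        obtain ⟨m, hm⟩ := hp.dvd_choose_self (k := 2) (by norm_num) hp3
        rw [hm, pow_mul, hcp, one_pow, mul_one] }
  have hf : ∀ g, f g = g ^ p := fun g => rfl
  have hrange : f.range ≤ Subgroup.center G := by
    rintro _ ⟨g, rfl⟩
    rw [hf, Subgroup.mem_center_iff]
    intro t
    have : ⁅g ^ p, t⁆ = 1 := by rw [comm_pow_left h, hcp]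
    rw [commutatorElement_eq_one_iff_mul_comm] at this
    exact this.symm
  have hker : f.ker ≤ Subgroup.zpowers ζ := by
    intro v hv
    rw [MonoidHom.mem_ker, hf] at hv
    exact hb v (hcon v hv) hv
  have h1 : Nat.card f.ker * Nat.card f.range = Nat.card G := by
    rw [← Subgroup.index_ker]; exact Subgroup.card_mul_index _
  have h2 : Nat.card f.range ≤ Nat.card (Subgroup.center G) := Subgroup.card_le_of_le hrange
  have h3 : Nat.card f.ker ≤ p := by
    have := Subgroup.card_le_of_le hker
    rwa [Nat.card_zpowers, hζo] at this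
  have hcpos : 0 < Nat.card (Subgroup.center G) := Nat.card_pos
  have h4 : Nat.card (Subgroup.center G) * p ^ 2 ≤ p * Nat.card (Subgroup.center G) := by
    calc Nat.card (Subgroup.center G) * p ^ 2 ≤ Nat.card G := hZ
      _ = Nat.card f.ker * Nat.card f.range := h1.symm
      _ ≤ p * Nat.card (Subgroup.center G) := Nat.mul_le_mul h3 h2
  have h5 : p ^ 2 ≤ p := by
    rw [mul_comm] at h4
    exact Nat.le_of_mul_le_mul_right h4 hcpos
  have : p * p ≤ p * 1 := by rw [mul_one, ← pow_two]; exact h5
  have := Nat.le_of_mul_le_mul_left this hp.pos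
  omega

theorem eq_one_or_eq_of_mem_zpowers_two {ζ w : G} (hζ : orderOf ζ = 2)
    (hw : w ∈ Subgroup.zpowers ζ) : w = 1 ∨ w = ζ := by
  obtain ⟨k, rfl⟩ := Subgroup.mem_zpowers_iff.1 hw
  rw [← zpow_mod_orderOf, hζ]
  have h2 : k % ((2 : ℕ) : ℤ) = 0 ∨ k % ((2 : ℕ) : ℤ) = 1 := by
    have : ((2 : ℕ) : ℤ) = 2 := rfl
    omega
  rcases h2 with h2 | h2
  · left; rw [h2, zpow_zero]
  · right; rw [h2, zpow_one]

/-- `p = 2`: a noncentral element squaring to the commutator -/
theorem exists_noncentral_sq_eq [Finite G] (h : CommCentral G) (z : G) (hz2 : z * z = 1)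
    (hcomm : ∀ a b : G, ⁅a, b⁆ = 1 ∨ ⁅a, b⁆ = z) (x y : G) (hxy : ⁅x, y⁆ = z) (hz1 : z ≠ 1)
    (hb : ∀ w ∈ Subgroup.center G, w * w = 1 → w = 1 ∨ w = z) :
    ∃ b : G, b * b = z ∧ b ∉ Subgroup.center G := by
  have hzc : z ∈ Subgroup.center G := hxy ▸ h x y
  -- squares are central
  have hsqc : ∀ t : G, t * t ∈ Subgroup.center G := by
    intro t
    rw [Subgroup.mem_center_iff]
    intro s
    have : ⁅t * t, s⁆ = 1 := by
      rw [comm_mul_left h]
      rcases hcomm t s with h1 | h1 <;> rw [h1]
      · simp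
      · exact hz2
    rw [commutatorElement_eq_one_iff_mul_comm] at this
    exact this.symm
  -- the finishing step
  have hfinish : ∀ t d : G, t ∉ Subgroup.center G → d ∈ Subgroup.center G → t * t = d * d * z →
      ∃ b : G, b * b = z ∧ b ∉ Subgroup.center G := by
    intro t d ht hd htd
    refine ⟨t * d⁻¹, ?_, ?_⟩
    · have hdi : d⁻¹ ∈ Subgroup.center G := Subgroup.inv_mem _ hd
      have e1 : d⁻¹ * t = t * d⁻¹ := ((Subgroup.mem_center_iff.1 hdi) t).symm
      have e2 : z * d⁻¹ = d⁻¹ * z := ((Subgroup.mem_center_iff.1 hdi) z)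
      calc t * d⁻¹ * (t * d⁻¹) = t * (d⁻¹ * t) * d⁻¹ := by simp only [mul_assoc]
        _ = t * (t * d⁻¹) * d⁻¹ := by rw [e1]
        _ = (t * t) * d⁻¹ * d⁻¹ := by simp only [mul_assoc]
        _ = d * d * z * d⁻¹ * d⁻¹ := by rw [htd]
        _ = d * d * (z * d⁻¹) * d⁻¹ := by simp only [mul_assoc]
        _ = d * d * (d⁻¹ * z) * d⁻¹ := by rw [e2]
        _ = d * (z * d⁻¹) := by simp only [mul_assoc, mul_inv_cancel_left]
        _ = d * (d⁻¹ * z) := by rw [e2]
        _ = z := by rw [mul_inv_cancel_left]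
    · intro hc
      apply ht
      have : t = t * d⁻¹ * d := by simp
      rw [this]
      exact Subgroup.mul_mem _ hc hd
  have hxnc : x ∉ Subgroup.center G := by
    intro hc
    apply hz1
    rw [← hxy, commutatorElement_eq_one_iff_mul_comm]
    exact ((Subgroup.mem_center_iff.1 hc) y).symm
  have hync : y ∉ Subgroup.center G := by
    intro hc
    apply hz1
    rw [← hxy, commutatorElement_eq_one_iff_mul_comm]
    exact ((Subgroup.mem_center_iff.1 hc) x)
  have hxync : x * y ∉ Subgroup.center G := by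
    intro hc
    apply hz1
    have h1 : ⁅x * y, y⁆ = z := by rw [comm_mul_left h, hxy]; simp
    rw [← h1, commutatorElement_eq_one_iff_mul_comm]
    exact ((Subgroup.mem_center_iff.1 hc) y).symm
  -- the squaring map on the center
  let Zc := Subgroup.center G
  let sq : ↥Zc →* ↥Zc :=
    { toFun := fun c => c * c
      map_one' := by simp
      map_mul' := by
        intro a b
        apply Subtype.ext
        have hba : (b : G) * (a : G) = (a : G) * (b : G) := (Subgroup.mem_center_iff.1 a.2) b
        change (a : G) * (b : G) * ((a : G) * (b : G)) = (a : G) * (a : G) * ((b : G) * (b : G))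
        calc (a : G) * (b : G) * ((a : G) * (b : G))
            = (a : G) * ((b : G) * (a : G)) * (b : G) := by simp only [mul_assoc]
          _ = (a : G) * ((a : G) * (b : G)) * (b : G) := by rw [hba]
          _ = (a : G) * (a : G) * ((b : G) * (b : G)) := by simp only [mul_assoc] }
  have hsq : ∀ c : ↥Zc, ((sq c : ↥Zc) : G) = (c : G) * (c : G) := by
    intro c
    rfl
  have hkercard : Nat.card sq.ker = 2 := by
    have hk : ∀ c : ↥Zc, c ∈ sq.ker ↔ (c = 1 ∨ c = ⟨z, hzc⟩) := by
      intro c
      rw [MonoidHom.mem_ker]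
      constructor
      · intro hc
        have : (c : G) * (c : G) = 1 := by rw [← hsq, hc]; rfl
        rcases hb c c.2 this with h1 | h1
        · left; exact Subtype.ext h1
        · right; exact Subtype.ext h1
      · rintro (rfl | rfl)
        · exact map_one _
        · apply Subtype.ext; rw [hsq]; exact hz2
    have : (sq.ker : Set ↥Zc) = {1, ⟨z, hzc⟩} := by
      ext c
      simp only [SetLike.mem_coe, hk, Set.mem_insert_iff, Set.mem_singleton_iff]
    have h0 : Nat.card sq.ker = (sq.ker : Set ↥Zc).ncard := (Nat.card_coe_set_eq _)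
    rw [h0, this, Set.ncard_pair]
    intro h1
    apply hz1
    exact (congrArg Subtype.val h1).symm
  have hidx : sq.range.index = 2 := by
    have h1 : Nat.card sq.ker * Nat.card sq.range = Nat.card ↥Zc := by
      rw [← Subgroup.index_ker]; exact Subgroup.card_mul_index _
    have h2 : Nat.card sq.range * sq.range.index = Nat.card ↥Zc := Subgroup.card_mul_index _
    have hpos : 0 < Nat.card sq.range := Nat.card_pos
    rw [hkercard] at h1
    have : Nat.card sq.range * sq.range.index = Nat.card sq.range * 2 := by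
      rw [h2, ← h1, mul_comm]
    exact Nat.eq_of_mul_eq_mul_left hpos this
  have hiff := fun a b : ↥Zc => Subgroup.mul_mem_iff_of_index_two hidx (a := a) (b := b)
  set X2 : ↥Zc := ⟨x * x, hsqc x⟩ with hX2
  set Y2 : ↥Zc := ⟨y * y, hsqc y⟩ with hY2
  set Z1 : ↥Zc := ⟨z, hzc⟩ with hZ1
  have hmemrange : ∀ c : ↥Zc, c ∈ sq.range → ∃ d ∈ Subgroup.center G, (c : G) = d * d := by
    rintro c ⟨d, rfl⟩
    exact ⟨d, d.2, hsq d⟩
  by_cases hac : (X2 ∈ sq.range ↔ Z1 ∈ sq.range)
  · obtain ⟨d, hd, hdd⟩ := hmemrange (X2 * Z1) ((hiff X2 Z1).2 hac)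
    have : x * x * z = d * d := hdd
    apply hfinish x d hxnc hd
    rw [← this, mul_assoc, hz2, mul_one]
  · by_cases hbc : (Y2 ∈ sq.range ↔ Z1 ∈ sq.range)
    · obtain ⟨d, hd, hdd⟩ := hmemrange (Y2 * Z1) ((hiff Y2 Z1).2 hbc)
      have : y * y * z = d * d := hdd
      apply hfinish y d hync hd
      rw [← this, mul_assoc, hz2, mul_one]
    · have hab : (X2 ∈ sq.range ↔ Y2 ∈ sq.range) := by tauto
      obtain ⟨d, hd, hdd⟩ := hmemrange (X2 * Y2) ((hiff X2 Y2).2 hab)
      have hd2 : x * x * (y * y) = d * d := hdd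
      apply hfinish (x * y) d hxync hd
      have hyx : ⁅y, x⁆ = z := by
        have : ⁅y, x⁆ = ⁅x, y⁆⁻¹ := (commutatorElement_inv x y).symm
        rw [this, hxy]
        exact inv_eq_of_mul_eq_one_left hz2
      have := mul_pow_eq h x y 2
      rw [pow_two, pow_two, pow_two, Nat.choose_self, pow_one, hyx] at this
      rw [this, ← hd2]

/-- The orbit bound when the commutator subgroup has order `minFac`. -/
theorem main_of_card_commutator [Finite G] (hna : ∃ x y : G, x * y ≠ y * x)
    (hcard : Nat.card (commutator G) = (Nat.card G).minFac) :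
    Nat.card (orbitRel.Quotient (MulAut G) G) * (Nat.card G).minFac ≤ Nat.card G := by
  set p := (Nat.card G).minFac with hpd
  obtain ⟨x0, y0, hxy0⟩ := hna
  have hG1 : Nat.card G ≠ 1 := by
    intro h1
    haveI : Subsingleton G := (Nat.card_eq_one_iff_unique.1 h1).1
    exact hxy0 (Subsingleton.elim _ _)
  have hp : p.Prime := Nat.minFac_prime hG1
  have h := commCentral_of_card hcard
  have hne0 : ⁅x0, y0⁆ ≠ 1 := by
    rwa [Ne, commutatorElement_eq_one_iff_mul_comm]
  obtain ⟨hζo, hcomm⟩ := generator_of_card hp hcard x0 y0 hne0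
  set ζ := ⁅x0, y0⁆ with hζd
  have hZ := card_center_mul_sq_le (G := G) ⟨x0, y0, hxy0⟩
  rw [← hpd] at hZ
  have hZn : ((Subgroup.center G : Subgroup G) : Set G).ncard * p ^ 2 ≤ Nat.card G := by
    rw [← Nat.card_coe_set_eq]; exact hZ
  have hZ1 : ((Subgroup.center G : Subgroup G) : Set G).ncard * p ≤ Nat.card G := by
    refine le_trans (Nat.mul_le_mul_left _ ?_) hZn
    calc p = p ^ 1 := (pow_one p).symm
      _ ≤ p ^ 2 := Nat.pow_le_pow_right hp.pos (by norm_num)
  have hnc : ∀ x : G, x ∉ Subgroup.center G → ∃ y : G, ⁅x, y⁆ ≠ 1 := by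
    intro x hx
    by_contra hcon
    push Not at hcon
    apply hx
    rw [Subgroup.mem_center_iff]
    intro g
    have := hcon g
    rw [commutatorElement_eq_one_iff_mul_comm] at this
    exact this.symm
  by_cases hcase : ∃ w ∈ Subgroup.center G, w ^ p = 1 ∧ w ∉ Subgroup.zpowers ζ
  · obtain ⟨w, hwc, hwp, hwn⟩ := hcase
    apply card_orbits_mul_le p hp.two_le ((Subgroup.center G : Subgroup G) : Set G)
      ((Subgroup.center G : Subgroup G) : Set G) subset_rfl hZn hZ1
    · intro x hx; exact minFac_le_card_orbit x hx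
    · intro x hx
      have hx' : x ∉ Subgroup.center G := hx
      obtain ⟨y, hy⟩ := hnc x hx'
      obtain ⟨ho', hcomm'⟩ := generator_of_card hp hcard x y hy
      obtain ⟨α, hα⟩ := exists_aut_mul_central h x y w hcomm' hwc
        (by rw [ho']; exact orderOf_dvd_of_pow_eq_one hwp)
      apply two_mul_minFac_le_card_orbit x hx' α
      rw [hα]
      intro hconj
      obtain ⟨c, hc⟩ := exists_comm_of_isConj h x (x * w) hconj
      apply hwn
      rw [mul_left_cancel hc]
      exact hcomm c x
  · push Not at hcase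
    have key : ∃ (v : G) (α : MulAut G), v ∉ Subgroup.center G ∧
        ∀ g : G, ⁅v, g⁆ ≠ 1 → ∀ c ∈ Subgroup.center G, α g ≠ g * c := by
      by_cases hp2 : p = 2
      · have hζ2 : orderOf ζ = 2 := by rw [hζo, hp2]
        have hz2 : ζ * ζ = 1 := by rw [← pow_two, ← hζ2, pow_orderOf_eq_one]
        have hcomm2 : ∀ a b : G, ⁅a, b⁆ = 1 ∨ ⁅a, b⁆ = ζ := fun a b =>
          eq_one_or_eq_of_mem_zpowers_two hζ2 (hcomm a b)
        have hb2 : ∀ w ∈ Subgroup.center G, w * w = 1 → w = 1 ∨ w = ζ := by
          intro w hw hww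
          apply eq_one_or_eq_of_mem_zpowers_two hζ2
          apply hcase w hw
          rw [hp2, pow_two, hww]
        obtain ⟨b, hbb, hbc⟩ := exists_noncentral_sq_eq h ζ hz2 hcomm2 x0 y0 rfl hne0 hb2
        obtain ⟨α, hα⟩ := exists_aut_two h ζ hz2 hcomm2 b hbb hbc
        exact ⟨b, α, hbc, hα⟩
      · obtain ⟨v, hvp, hvc⟩ := exists_noncentral_pow_eq_one h p hp hp2 ζ hζo hcomm hZ hcase
        obtain ⟨α, hα⟩ := exists_aut_odd h p hp hp2 ζ hζo hcomm v hvp hvc
        exact ⟨v, α, hvc, hα⟩
    obtain ⟨v, α, hvc, hα⟩ := key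
    have hFZ : ((Subgroup.center G : Subgroup G) : Set G) ⊆
        ((Subgroup.centralizer ({v} : Set G) : Subgroup G) : Set G) := by
      intro g hg
      exact Subgroup.center_le_centralizer _ hg
    have hF : ((Subgroup.centralizer ({v} : Set G) : Subgroup G) : Set G).ncard * p ≤
        Nat.card G := by
      rw [← Nat.card_coe_set_eq]
      have hidx : p ≤ (Subgroup.centralizer ({v} : Set G)).index := by
        have hne : (Subgroup.centralizer ({v} : Set G)).index ≠ 1 := by
          intro h1
          rw [Subgroup.index_eq_one] at h1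
          apply hvc
          rw [Subgroup.mem_center_iff]
          intro g
          have hg : g ∈ Subgroup.centralizer ({v} : Set G) := by rw [h1]; trivial
          rw [Subgroup.mem_centralizer_iff] at hg
          exact (hg v rfl).symm
        exact Nat.minFac_le_of_dvd (by
          have := (Subgroup.centralizer ({v} : Set G)).index_ne_zero_of_finite
          omega) (Subgroup.index_dvd_card _)
      calc Nat.card (Subgroup.centralizer ({v} : Set G)) * p
          ≤ Nat.card (Subgroup.centralizer ({v} : Set G)) *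
            (Subgroup.centralizer ({v} : Set G)).index := Nat.mul_le_mul_left _ hidx
        _ = Nat.card G := Subgroup.card_mul_index _
    apply card_orbits_mul_le p hp.two_le ((Subgroup.center G : Subgroup G) : Set G)
      ((Subgroup.centralizer ({v} : Set G) : Subgroup G) : Set G) hFZ hZn hF
    · intro x hx; exact minFac_le_card_orbit x hx
    · intro x hx
      have hx' : x ∉ Subgroup.center G := fun hc => hx (hFZ hc)
      have hvx : ⁅v, x⁆ ≠ 1 := by
        intro h1
        apply hx
        rw [commutatorElement_eq_one_iff_mul_comm] at h1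
        change x ∈ Subgroup.centralizer ({v} : Set G)
        rw [Subgroup.mem_centralizer_iff]
        intro t ht
        rw [Set.mem_singleton_iff] at ht
        rw [ht]; exact h1
      apply two_mul_minFac_le_card_orbit x hx' α
      exact not_isConj_of_forall_center h x (α x) (hα x hvx)

end ClassTwo

end Cfsg.Agent.Helper67
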