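import Mathlib
import Cfsg.Agent.Lib.Helper52.FCDefs

/-!
# FC server (helper52, S3816): piece (D3) `dich_split`, plus the shared machinery for (D1).
-/

set_option autoImplicit false

namespace Cfsg.Agent.Helper67.FC

open Subgroup Cfsg.Agent.Helper52.FC
open scoped commutatorElement

universe u

variable {G : Type u} [Group G]

/-- powers of `a` preserve an `a`-invariant subgroup -/
theorem h67_inv_pow {a : G} {X : Subgroup G} (hX : Inv a X) (i : ℕ) :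
    ∀ x ∈ X, a ^ i * x * (a ^ i)⁻¹ ∈ X := by
  induction i with
  | zero => intro x hx; simpa using hx
  | succ k ih =>
    intro x hx
    have h1 := hX _ (ih x hx)
    have e : a ^ (k + 1) * x * (a ^ (k + 1))⁻¹ = a * (a ^ k * x * (a ^ k)⁻¹) * a⁻¹ := by
      rw [pow_succ']; group
    rw [e]; exact h1

theorem h67_gen_mem (a h : G) (i : ℕ) : h⁻¹ * (a ^ i * h * (a ^ i)⁻¹) ∈ Lh a h :=
  Subgroup.subset_closure ⟨i, rfl⟩

theorem h67_Lh_le_iff (a h : G) (K : Subgroup G) :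
    Lh a h ≤ K ↔ ∀ i : ℕ, h⁻¹ * (a ^ i * h * (a ^ i)⁻¹) ∈ K := by
  constructor
  · intro hle i; exact hle (h67_gen_mem a h i)
  · intro hall
    unfold Lh
    rw [Subgroup.closure_le]
    rintro c ⟨i, rfl⟩
    exact hall i

/-- elements of `N ⊔ L` are products when `L` normalises `N` -/
theorem h67_mem_sup {N L : Subgroup G} (h : ∀ y ∈ L, ∀ n ∈ N, y * n * y⁻¹ ∈ N) {x : G}
    (hx : x ∈ N ⊔ L) : ∃ n ∈ N, ∃ y ∈ L, x = n * y := by
  rw [Subgroup.sup_eq_closure] at hx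
  induction hx using Subgroup.closure_induction with
  | mem x hx =>
    rcases hx with hx | hx
    · exact ⟨x, hx, 1, L.one_mem, by simp⟩
    · exact ⟨1, N.one_mem, x, hx, by simp⟩
  | one => exact ⟨1, N.one_mem, 1, L.one_mem, by simp⟩
  | mul x y _ _ hx hy =>
    obtain ⟨n, hn, l, hl, rfl⟩ := hx
    obtain ⟨n', hn', l', hl', rfl⟩ := hy
    exact ⟨n * (l * n' * l⁻¹), N.mul_mem hn (h l hl n' hn'), l * l', L.mul_mem hl hl', by group⟩
  | inv x _ hx =>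
    obtain ⟨n, hn, l, hl, rfl⟩ := hx
    exact ⟨l⁻¹ * n⁻¹ * l⁻¹⁻¹, h l⁻¹ (L.inv_mem hl) n⁻¹ (N.inv_mem hn), l⁻¹, L.inv_mem hl, by group⟩

/-- Dedekind -/
theorem h67_dedekind {N L L' : Subgroup G} (hNL : N ⊓ L = ⊥) (hL' : L' ≤ L) (hle : L ≤ N ⊔ L')
    (h : ∀ y ∈ L', ∀ n ∈ N, y * n * y⁻¹ ∈ N) : L ≤ L' := by
  intro y hy
  obtain ⟨m, hm, y', hy', rfl⟩ := h67_mem_sup h (hle hy)
  have hmL : m ∈ L := by
    have e : m = (m * y') * y'⁻¹ := by group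
    rw [e]; exact L.mul_mem hy (L.inv_mem (hL' hy'))
  have hmb : m ∈ N ⊓ L := ⟨hm, hmL⟩
  rw [hNL, Subgroup.mem_bot] at hmb
  rw [hmb, one_mul]; exact hy'

/-- `N [nl, P] = N [l, P]` -/
theorem h67_sup_Lh_mul {a : G} {N : Subgroup G} (hNa : Inv a N) (n l : G) (hn : n ∈ N)
    (hl : ∀ m ∈ N, l⁻¹ * m * l ∈ N) : N ⊔ Lh a (n * l) = N ⊔ Lh a l := by
  have key : ∀ i : ℕ, ∃ m ∈ N, (n * l)⁻¹ * (a ^ i * (n * l) * (a ^ i)⁻¹) =
      m * (l⁻¹ * (a ^ i * l * (a ^ i)⁻¹)) := by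
    intro i
    exact ⟨l⁻¹ * (n⁻¹ * (a ^ i * n * (a ^ i)⁻¹)) * l,
      hl _ (N.mul_mem (N.inv_mem hn) (h67_inv_pow hNa i n hn)), by group⟩
  apply le_antisymm
  · refine sup_le le_sup_left ?_
    rw [h67_Lh_le_iff]
    intro i
    obtain ⟨m, hm, e⟩ := key i
    rw [e]
    exact Subgroup.mul_mem _ (Subgroup.mem_sup_left hm) (Subgroup.mem_sup_right (h67_gen_mem a l i))
  · refine sup_le le_sup_left ?_
    rw [h67_Lh_le_iff]
    intro i
    obtain ⟨m, hm, e⟩ := key i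
    have e' : l⁻¹ * (a ^ i * l * (a ^ i)⁻¹) = m⁻¹ * ((n * l)⁻¹ * (a ^ i * (n * l) * (a ^ i)⁻¹)) := by
      rw [e]; group
    rw [e']
    exact Subgroup.mul_mem _ (Subgroup.mem_sup_left (N.inv_mem hm))
      (Subgroup.mem_sup_right (h67_gen_mem a (n * l) i))

/-- elements normalising `N` whose commutators with `N` lie in `D` -/
def h67_S (N D : Subgroup G) (hD : D ≤ N) : Subgroup G where
  carrier := {g | g ∈ normalizer (N : Set G) ∧ ∀ n ∈ N, ⁅n, g⁆ ∈ D}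
  one_mem' := ⟨Subgroup.one_mem _, fun n _ => by
    rw [commutatorElement_def]; simp⟩
  mul_mem' := by
    rintro x y ⟨hx1, hx2⟩ ⟨hy1, hy2⟩
    refine ⟨Subgroup.mul_mem _ hx1 hy1, fun n hn => ?_⟩
    have hd : ⁅n, y⁆ ∈ D := hy2 n hn
    have hd' : ⁅(⁅n, y⁆)⁻¹, x⁆ ∈ D := hx2 _ (N.inv_mem (hD hd))
    have e : ⁅n, x * y⁆ = ⁅n, x⁆ * (⁅n, y⁆ * ⁅(⁅n, y⁆)⁻¹, x⁆) := by
      simp only [commutatorElement_def]; group
    rw [e]
    exact D.mul_mem (hx2 n hn) (D.mul_mem hd hd')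
  inv_mem' := by
    rintro x ⟨hx1, hx2⟩
    refine ⟨Subgroup.inv_mem _ hx1, fun n hn => ?_⟩
    have hxi : x⁻¹ ∈ normalizer (N : Set G) := Subgroup.inv_mem _ hx1
    have hm : x⁻¹ * n * x ∈ N := by
      have := (Subgroup.mem_normalizer_iff.1 hxi n).1 hn
      simpa using this
    have e : ⁅n, x⁻¹⁆ = (⁅x⁻¹ * n * x, x⁆)⁻¹ := by
      simp only [commutatorElement_def]; group
    rw [e]
    exact D.inv_mem (hx2 _ hm)

theorem h67_mem_S {N D : Subgroup G} {hD : D ≤ N} {g : G} :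
    g ∈ h67_S N D hD ↔ g ∈ normalizer (N : Set G) ∧ ∀ n ∈ N, ⁅n, g⁆ ∈ D := Iff.rfl

theorem h67_le_S {N D K : Subgroup G} (hD : D ≤ N) (hK : K ≤ normalizer (N : Set G)) (hc : ⁅N, K⁆ ≤ D) :
    K ≤ h67_S N D hD :=
  fun g hg => ⟨hK hg, fun _ hn => hc (Subgroup.commutator_mem_commutator hn hg)⟩

theorem h67_comm_le_of_S {N D K : Subgroup G} (hD : D ≤ N) (hK : K ≤ h67_S N D hD) : ⁅N, K⁆ ≤ D :=
  Subgroup.commutator_le.2 (fun n hn g hg => (hK hg).2 n hn)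

theorem h67_comm_le_self {N K : Subgroup G} (hK : K ≤ normalizer (N : Set G)) : ⁅N, K⁆ ≤ N := by
  refine Subgroup.commutator_le.2 (fun n hn g hg => ?_)
  have h1 : g * n⁻¹ * g⁻¹ ∈ N := (Subgroup.mem_normalizer_iff.1 (hK hg) n⁻¹).1 (N.inv_mem hn)
  have e : ⁅n, g⁆ = n * (g * n⁻¹ * g⁻¹) := by rw [commutatorElement_def]; group
  rw [e]; exact N.mul_mem hn h1

theorem h67_normBy_le_normalizer {H N : Subgroup G} (hNn : NormBy H N) : H ≤ normalizer (N : Set G) := by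
  intro h hh
  rw [Subgroup.mem_normalizer_iff]
  intro n
  constructor
  · exact hNn h hh n
  · intro hc
    have := hNn h⁻¹ (H.inv_mem hh) _ hc
    simpa [mul_assoc] using this

theorem h67_inv_mem_normalizer [Finite G] {a : G} {N : Subgroup G} (hNa : Inv a N) :
    a ∈ normalizer (N : Set G) := by
  have hpos := orderOf_pos a
  have h1 : a * a ^ (orderOf a - 1) = 1 := by
    rw [← pow_succ', Nat.sub_add_cancel hpos, pow_orderOf_eq_one]
  have hinv : a⁻¹ = a ^ (orderOf a - 1) := inv_eq_of_mul_eq_one_right h1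
  rw [Subgroup.mem_normalizer_iff]
  intro n
  constructor
  · exact hNa n
  · intro hc
    have h2 := h67_inv_pow hNa (orderOf a - 1) _ hc
    rw [← hinv] at h2
    simpa [mul_assoc] using h2

theorem h67_conj_pow (l a : G) (i : ℕ) : (l⁻¹ * a * l) ^ i = l⁻¹ * a ^ i * l := by
  have := conj_pow (a := l⁻¹) (b := a) (i := i)
  simpa using this

/-- Lemma C: with `D ≥ Dh a N l`, the subgroup `Lh a l` lies in `h67_S N D`. -/
theorem h67_Lh_le_S [Finite G] {a : G} {N D : Subgroup G} (hD : D ≤ N) (hNa : Inv a N) (l : G)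
    (hl : l ∈ normalizer (N : Set G)) (hDl : Dh a N l ≤ D) : Lh a l ≤ h67_S N D hD ∧ zpowers a ≤ h67_S N D hD := by
  have ha : a ∈ normalizer (N : Set G) := h67_inv_mem_normalizer hNa
  have hla : l⁻¹ * a * l ∈ normalizer (N : Set G) :=
    Subgroup.mul_mem _ (Subgroup.mul_mem _ (Subgroup.inv_mem _ hl) ha) hl
  have h1 : zpowers a ≤ h67_S N D hD :=
    h67_le_S hD ((Subgroup.zpowers_le).2 ha) (le_trans le_sup_left hDl)
  have h2 : zpowers (l⁻¹ * a * l) ≤ h67_S N D hD :=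
    h67_le_S hD ((Subgroup.zpowers_le).2 hla) (le_trans le_sup_right hDl)
  refine ⟨?_, h1⟩
  rw [h67_Lh_le_iff]
  intro i
  have e : l⁻¹ * (a ^ i * l * (a ^ i)⁻¹) = (l⁻¹ * a * l) ^ i * (a ^ i)⁻¹ := by
    rw [h67_conj_pow]; group
  rw [e]
  exact Subgroup.mul_mem _ (h2 (Subgroup.pow_mem _ (Subgroup.mem_zpowers _) i))
    (Subgroup.inv_mem _ (h1 (Subgroup.pow_mem _ (Subgroup.mem_zpowers _) i)))

/-- `D = ⨆ h ∈ T, Dh a N h ≤ N` when `T` and `a` normalise `N`. -/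
theorem h67_D_le [Finite G] {a : G} {N : Subgroup G} (hNa : Inv a N) (T : Set G)
    (hT : ∀ h ∈ T, h ∈ normalizer (N : Set G)) : (⨆ h ∈ T, Dh a N h) ≤ N := by
  have ha : a ∈ normalizer (N : Set G) := h67_inv_mem_normalizer hNa
  refine iSup₂_le (fun h hh => ?_)
  have hl := hT h hh
  have hla : h⁻¹ * a * h ∈ normalizer (N : Set G) :=
    Subgroup.mul_mem _ (Subgroup.mul_mem _ (Subgroup.inv_mem _ hl) ha) hl
  exact sup_le (h67_comm_le_self ((Subgroup.zpowers_le).2 ha))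
    (h67_comm_le_self ((Subgroup.zpowers_le).2 hla))

theorem h67_N_le_S {N D : Subgroup G} (hD : D ≤ N) (hNab : Ab N) : N ≤ h67_S N D hD := by
  intro g hg
  refine ⟨Subgroup.le_normalizer hg, fun n hn => ?_⟩
  have e : ⁅n, g⁆ = 1 := by
    rw [commutatorElement_def, hNab n hn g hg]; group
  rw [e]; exact D.one_mem

/-- core of (D3) with `L` abstract -/
theorem h67_dich_core [Finite G] {p : ℕ} {a : G} {H : Subgroup G} (mx : MCX p G a H) (N : Subgroup G)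
    (hNn : NormBy H N) (hNa : Inv a N) (hNab : Ab N)
    (hS3 : Fix a ⊓ (⨆ h ∈ {h : G | h ∈ H ∧ N ⊔ Lh a h ≠ H}, Dh a N h) ≤ star a H)
    (hD2 : ∀ L : Subgroup G, Hyp p a L → comm a L = L →
      (⨆ l : {l : G // l ∈ L ∧ Lh a l ≠ L}, Lh a (l : G)) ≠ L → ∃ s : ℕ, s.Prime ∧ IsPGroup s L)
    (L : Subgroup G) (hLH : L ≤ H) (hLinv : Inv a L) (hLc : comm a L = L) (hgen : N ⊔ L = H)
    (hNL : N ⊓ L = ⊥) (l₀ : G) (hl₀ : l₀ ∈ L) (hLeq : L = Lh a l₀) :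
    Fix a ⊓ ⁅N, H ⊔ zpowers a⁆ ≤ star a H ∨ SplitS a H N := by
  by_cases h2 : (⨆ l : {l : G // l ∈ L ∧ Lh a l ≠ L}, Lh a (l : G)) = L
  · rcases isEmpty_or_nonempty {l : G // l ∈ L ∧ Lh a l ≠ L} with hemp | ⟨⟨l₁, hl₁L, hl₁ne⟩⟩
    · right
      have hbot : L = ⊥ := by rw [← h2]; exact iSup_of_empty _
      refine ⟨L, l₀, 2, hl₀, hLeq, hLH, hgen, hNL, Nat.prime_two, ?_⟩
      intro g
      refine ⟨0, ?_⟩
      have hg : (g : G) ∈ (⊥ : Subgroup G) := hbot ▸ g.2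
      rw [Subgroup.mem_bot] at hg
      apply Subtype.ext
      simpa using hg
    · left
      have hHnz : H ≤ normalizer (N : Set G) := h67_normBy_le_normalizer hNn
      have hT : ∀ l ∈ L, Lh a l ≠ L → l ∈ {h : G | h ∈ H ∧ N ⊔ Lh a h ≠ H} := by
        intro l hl hne
        refine ⟨hLH hl, fun hsup' => hne ?_⟩
        have hle : Lh a l ≤ L := mx.Lh_le L hLinv l hl
        refine le_antisymm hle (h67_dedekind hNL hle ?_ (fun y hy => hNn y (hLH (hle hy))))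
        rw [hsup']; exact hLH
      have hD : (⨆ h ∈ {h : G | h ∈ H ∧ N ⊔ Lh a h ≠ H}, Dh a N h) ≤ N :=
        h67_D_le hNa _ (fun h hh => hHnz hh.1)
      have hLhS : ∀ l ∈ {h : G | h ∈ H ∧ N ⊔ Lh a h ≠ H},
          Lh a l ≤ h67_S N _ hD ∧ zpowers a ≤ h67_S N _ hD := by
        intro l hl
        exact h67_Lh_le_S hD hNa l (hHnz hl.1)
          (le_iSup₂ (f := fun h (_ : h ∈ {h : G | h ∈ H ∧ N ⊔ Lh a h ≠ H}) => Dh a N h) l hl)
      have haS : zpowers a ≤ h67_S N _ hD := (hLhS l₁ (hT l₁ hl₁L hl₁ne)).2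
      have hNS : N ≤ h67_S N _ hD := h67_N_le_S hD hNab
      have hLS : L ≤ h67_S N _ hD := by
        refine le_trans (le_of_eq h2.symm) (iSup_le ?_)
        rintro ⟨l, hl, hne⟩
        exact (hLhS l (hT l hl hne)).1
      have hHS : H ≤ h67_S N _ hD := le_trans (le_of_eq hgen.symm) (sup_le hNS hLS)
      have hcomm := h67_comm_le_of_S hD (sup_le hHS haS)
      exact le_trans (inf_le_inf_left _ hcomm) hS3
  · right
    have hsol : Group.IsSolvable L := by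
      have := mx.mc.hyp.sol
      exact Group.isSolvable_of_isSolvable_injective (f := Subgroup.inclusion hLH) (Subgroup.inclusion_injective hLH)
    have hcop : (Nat.card L).Coprime p :=
      Nat.Coprime.coprime_dvd_left (Subgroup.card_dvd_of_le hLH) mx.mc.hyp.cop
    obtain ⟨s, hs, hLs⟩ := hD2 L ⟨mx.mc.hyp.pow, hLinv, hsol, hcop⟩ hLc h2
    exact ⟨L, l₀, s, hl₀, hLeq, hLH, hgen, hNL, hs, hLs⟩

/-- (D3) [L] see (3)(D3). `hD2` is (D2) for `L`. -/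
theorem dich_split [Finite G] {p : ℕ} {a : G} {H : Subgroup G} (mx : MCX p G a H) (N : Subgroup G) (hNH : N ≤ H) (hNn : NormBy H N)
    (hNa : Inv a N) (hNab : Ab N) (hN : HypN a H N)
    (hS3 : Fix a ⊓ (⨆ h ∈ {h : G | h ∈ H ∧ N ⊔ Lh a h ≠ H}, Dh a N h) ≤ star a H)
    (hD2 : ∀ L : Subgroup G, Hyp p a L → comm a L = L →
      (⨆ l : {l : G // l ∈ L ∧ Lh a l ≠ L}, Lh a (l : G)) ≠ L → ∃ s : ℕ, s.Prime ∧ IsPGroup s L)
    (h₀ : G) (hh₀ : h₀ ∈ H) (hgen : N ⊔ Lh a h₀ = H) :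
    Fix a ⊓ ⁅N, H ⊔ zpowers a⁆ ≤ star a H ∨ SplitS a H N := by
  have hHinv : Inv a H := mx.mc.hyp.inv
  have hLH : Lh a h₀ ≤ H := mx.Lh_le H hHinv h₀ hh₀
  have hLinv : Inv a (Lh a h₀) := mx.Lh_inv h₀
  have hLc : comm a (Lh a h₀) = Lh a h₀ := mx.Lh_comm h₀ hh₀
  have hLne : Lh a h₀ ≠ H := mx.no_gen h₀ hh₀
  have hNL : N ⊓ Lh a h₀ = ⊥ := hN _ hLH hLinv hLc hLne hgen
  have hh₀' : h₀ ∈ N ⊔ Lh a h₀ := by rw [hgen]; exact hh₀
  obtain ⟨n, hn, l₀, hl₀, hnl⟩ := h67_mem_sup (fun y hy => hNn y (hLH hy)) hh₀'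
  have hl₀H : l₀ ∈ H := hLH hl₀
  have hle : Lh a l₀ ≤ Lh a h₀ := mx.Lh_le _ hLinv l₀ hl₀
  have hsup : N ⊔ Lh a l₀ = H := by
    rw [← h67_sup_Lh_mul hNa n l₀ hn (fun m hm => by
      have := hNn l₀⁻¹ (H.inv_mem hl₀H) m hm
      simpa using this), ← hnl]
    exact hgen
  have hLeq : Lh a h₀ = Lh a l₀ :=
    le_antisymm (h67_dedekind hNL hle (by rw [hsup]; exact hLH)
      (fun y hy => hNn y (hLH (hle hy)))) hle
  exact h67_dich_core mx N hNn hNa hNab hS3 hD2 (Lh a h₀) hLH hLinv hLc hgen hNL l₀ hl₀ hLeq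

end Cfsg.Agent.Helper67.FC
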