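import Mathlib
import Cfsg.Agent.Lib.Helper52.FCDefs
import Cfsg.Agent.Lib.Helper67.FCD3

/-!
# FC server (helper52, S3816): piece (D1) `dich_all`.
-/

set_option autoImplicit false

namespace Cfsg.Agent.Helper67.FC

open Subgroup Cfsg.Agent.Helper52.FC
open scoped commutatorElement

universe u

variable {G : Type u} [Group G]

/-- (D1) [M-L] see (3)(D1): `H ⊔ P = ⟨h⁻¹ P h : h ∈ H⟩` (as `comm a H = H`), `⁅N, ⟨A_i⟩⁆ = ⨆ ⁅N, A_i⁆` for abelian `N` normalised by the `A_i`. -/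
theorem dich_all [Finite G] {p : ℕ} {a : G} {H : Subgroup G} (mx : MCX p G a H) (N : Subgroup G) (hNH : N ≤ H) (hNn : NormBy H N)
    (hNa : Inv a N) (hNab : Ab N)
    (hS3 : Fix a ⊓ (⨆ h ∈ {h : G | h ∈ H ∧ N ⊔ Lh a h ≠ H}, Dh a N h) ≤ star a H)
    (hall : ∀ h ∈ H, N ⊔ Lh a h ≠ H) : Fix a ⊓ ⁅N, H ⊔ zpowers a⁆ ≤ star a H := by
  have hHnz : H ≤ normalizer (N : Set G) := h67_normBy_le_normalizer hNn
  have hD : (⨆ h ∈ {h : G | h ∈ H ∧ N ⊔ Lh a h ≠ H}, Dh a N h) ≤ N :=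
    h67_D_le hNa _ (fun h hh => hHnz hh.1)
  have hLhS : ∀ l ∈ H, Lh a l ≤ h67_S N _ hD ∧ zpowers a ≤ h67_S N _ hD := by
    intro l hl
    have hlT : l ∈ {h : G | h ∈ H ∧ N ⊔ Lh a h ≠ H} := ⟨hl, hall l hl⟩
    exact h67_Lh_le_S hD hNa l (hHnz hl)
      (le_iSup₂ (f := fun h (_ : h ∈ {h : G | h ∈ H ∧ N ⊔ Lh a h ≠ H}) => Dh a N h) l hlT)
  have haS : zpowers a ≤ h67_S N _ hD := (hLhS 1 H.one_mem).2
  have hHS : H ≤ h67_S N _ hD := by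
    refine le_trans (le_of_eq mx.comm_eq.symm) ?_
    unfold Cfsg.Agent.Helper52.FC.comm
    rw [Subgroup.closure_le]
    rintro c ⟨h, hh, i, rfl⟩
    exact (hLhS h hh).1 (h67_gen_mem a h i)
  have hcomm := h67_comm_le_of_S hD (sup_le hHS haS)
  exact le_trans (inf_le_inf_left _ hcomm) hS3

end Cfsg.Agent.Helper67.FC
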