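import Mathlib
import Cfsg.Agent.Lib.Helper31.G2Defs
import Cfsg.Agent.Lib.Helper12.SGRED

set_option autoImplicit false

/-!
# (TRED) Gross's theorem for `p = 2`: reduction of the three-level statement to the minimal
faithful configuration (piece of S3795, helper31 server)
-/

namespace Cfsg.Agent.Helper67.G2

open Module Subgroup Cfsg.Agent.Helper31.SG Cfsg.Agent.Helper31.G2 Cfsg.Agent.Helper31

universe u uG uK uV

/-- An involutory operator without fixed vectors is `-1`. -/
theorem h67_neg_of_sq {K : Type*} [Field K] {V : Type*} [AddCommGroup V] [Module K V]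
    (X : End K V) (hX : X * X = 1) (hfix : ∀ v : V, X v = v → v = 0) (v : V) : X v = -v := by
  have h1 : X (X v + v) = X v + v := by
    rw [map_add]
    have : X (X v) = v := by
      have := congrArg (fun f : End K V => f v) hX
      simpa using this
    rw [this, add_comm]
  have h2 := hfix _ h1
  exact eq_neg_of_add_eq_zero_left h2

/-- `cm` is compatible with group homomorphisms. -/
theorem h67_map_cm {G H : Type*} [Group G] [Group H] (f : G →* H) (t g : G) :
    f (cm t g) = cm (f t) (f g) := by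
  unfold cm
  simp only [map_mul, map_inv]

theorem h67_card_map_le {G H : Type*} [Group G] [Group H] [Finite G] (f : G →* H)
    (S : Subgroup G) : Nat.card (S.map f) ≤ Nat.card S :=
  Nat.card_le_card_of_surjective (f.subgroupMap S) (f.subgroupMap_surjective S)

/-- (TRED) the reduction. -/
theorem g2_tt_red {K : Type uK} [Field K] (q s : ℕ)
    (FIN : TTFinal.{uG, uK, uV} K q s) : ∀ N, TTStmt.{uG, uK, uV} K q s N := by
  intro N
  induction N using Nat.strong_induction_on with
  | _ N ih =>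
    intro V _ _ _ G _ _ ρ S Q x n hN hS hQ hQS hxS hxQ hx hfix hfS hfQ
    rcases Nat.eq_zero_or_pos n with hn0 | hn1
    · -- `n = 0`
      subst hn0
      intro g hg a ha
      have hx2 : x * x = 1 := by
        have : x ^ 2 ^ (0 + 1) = x * x := by
          norm_num [pow_two]
        rw [← this]
        exact hx
      have hXX : ρ x * ρ x = 1 := by rw [← map_mul, hx2, map_one]
      have hneg : ∀ v : V, ρ x v = -v := h67_neg_of_sq (ρ x) hXX hfix
      have hxinv : x⁻¹ = x := inv_eq_of_mul_eq_one_left hx2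
      have hone : ρ (cm (x ^ 2 ^ 0) g) = 1 := by
        have h1 : x ^ 2 ^ 0 = x := by norm_num
        rw [h1]
        unfold cm
        rw [hxinv]
        apply LinearMap.ext
        intro v
        have h2 : ρ g⁻¹ (ρ g v) = v := by
          have := congrArg (fun f : End K V => f v) (show ρ g⁻¹ * ρ g = 1 by
            rw [← map_mul, inv_mul_cancel, map_one])
          simpa using this
        rw [map_mul, map_mul, map_mul, Module.End.mul_apply, Module.End.mul_apply,
          Module.End.mul_apply, hneg, Module.End.one_apply]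
        simp only [map_neg, hneg, neg_neg, h2]
      rw [hone, one_mul, mul_one]
    · -- `n ≥ 1`
      by_contra hcon
      push Not at hcon
      obtain ⟨g₀, hg₀, a₀, ha₀, hne⟩ := hcon
      set π : G →* G ⧸ ρ.ker := QuotientGroup.mk' ρ.ker with hπ
      set ρ' : Representation K (G ⧸ ρ.ker) V := HH.kerLiftM ρ with hρ'
      have hρmk : ∀ g : G, ρ' (π g) = ρ g := fun g => HH.kerLiftM_mk ρ g
      have hinj : Function.Injective ρ' := HH.kerLiftM_injective ρ
      set S' : Subgroup (G ⧸ ρ.ker) := S.map π with hS'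
      set Q' : Subgroup (G ⧸ ρ.ker) := Q.map π with hQ'
      set x' : G ⧸ ρ.ker := π x with hx'
      have hcS : Nat.card S' ≤ Nat.card S := h67_card_map_le π S
      have hcQ : Nat.card Q' ≤ Nat.card Q := h67_card_map_le π Q
      have hS'p : IsPGroup s S' := hS.map π
      have hQ'p : IsPGroup q Q' := hQ.map π
      have hQS' : ∀ g ∈ Q', ∀ a ∈ S', g * a * g⁻¹ ∈ S' := by
        rintro _ ⟨g, hg, rfl⟩ _ ⟨a, ha, rfl⟩
        exact ⟨g * a * g⁻¹, hQS g hg a ha, by simp⟩
      have hxS' : ∀ a ∈ S', x' * a * x'⁻¹ ∈ S' := by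
        rintro _ ⟨a, ha, rfl⟩
        exact ⟨x * a * x⁻¹, hxS a ha, by simp [hx']⟩
      have hxQ' : ∀ g ∈ Q', x' * g * x'⁻¹ ∈ Q' := by
        rintro _ ⟨g, hg, rfl⟩
        exact ⟨x * g * x⁻¹, hxQ g hg, by simp [hx']⟩
      have hx'P : x' ^ 2 ^ (n + 1) = 1 := by
        rw [hx', ← map_pow, hx, map_one]
      have hfix' : ∀ v : V, ρ' x' v = v → v = 0 := by
        intro v hv
        rw [hx', hρmk] at hv
        exact hfix v hv
      have hfS' : FpfOn x' S' := Helper12.SG.helper12_fpfOn_map π x S hxS hfS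
      have hfQ' : FpfOn x' Q' := Helper12.SG.helper12_fpfOn_map π x Q hxQ hfQ
      have hNC' : ∃ g ∈ Q', ∃ a ∈ S', cm (x' ^ 2 ^ n) g * a ≠ a * cm (x' ^ 2 ^ n) g := by
        refine ⟨π g₀, ⟨g₀, hg₀, rfl⟩, π a₀, ⟨a₀, ha₀, rfl⟩, fun h => hne ?_⟩
        have h1 := congrArg ρ' h
        rw [hx', ← map_pow, ← h67_map_cm, ← map_mul, ← map_mul, hρmk, hρmk, map_mul,
          map_mul] at h1
        exact h1
      have hminQ : ∀ Q₁ : Subgroup (G ⧸ ρ.ker), Q₁ ≤ Q' → Q₁ ≠ Q' →
          (∀ g ∈ Q₁, x' * g * x'⁻¹ ∈ Q₁) →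
          ∀ g ∈ Q₁, ∀ a ∈ S', cm (x' ^ 2 ^ n) g * a = a * cm (x' ^ 2 ^ n) g := by
        intro Q₁ hle hne₁ hinv g hg a ha
        have hcard : Nat.card Q₁ < Nat.card Q' := by
          by_contra hc
          push Not at hc
          exact hne₁ (Subgroup.eq_of_le_of_card_ge hle hc)
        have h1 := ih (Nat.card S' + Nat.card Q₁) (by omega) V (G ⧸ ρ.ker) ρ' S' Q₁ x' n le_rfl
          hS'p (hQ'p.to_le hle) (fun g hg a ha => hQS' g (hle hg) a ha) hxS' hinv hx'P hfix' hfS'
          (Helper12.SG.helper12_fpfOn_mono hle hfQ') g hg a ha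
        apply hinj
        rw [map_mul, map_mul]
        exact h1
      have hminS : ∀ S₁ : Subgroup (G ⧸ ρ.ker), S₁ ≤ S' → S₁ ≠ S' →
          (∀ g ∈ Q', ∀ a ∈ S₁, g * a * g⁻¹ ∈ S₁) → (∀ a ∈ S₁, x' * a * x'⁻¹ ∈ S₁) →
          ∀ g ∈ Q', ∀ a ∈ S₁, cm (x' ^ 2 ^ n) g * a = a * cm (x' ^ 2 ^ n) g := by
        intro S₁ hle hne₁ hQinv hxinv g hg a ha
        have hcard : Nat.card S₁ < Nat.card S' := by
          by_contra hc
          push Not at hc
          exact hne₁ (Subgroup.eq_of_le_of_card_ge hle hc)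
        have h1 := ih (Nat.card S₁ + Nat.card Q') (by omega) V (G ⧸ ρ.ker) ρ' S₁ Q' x' n le_rfl
          (hS'p.to_le hle) hQ'p hQinv hxinv hxQ' hx'P hfix'
          (Helper12.SG.helper12_fpfOn_mono hle hfS') hfQ' g hg a ha
        apply hinj
        rw [map_mul, map_mul]
        exact h1
      exact FIN V (G ⧸ ρ.ker) ρ' hinj S' Q' x' n hn1 hS'p hQ'p hQS' hxS' hxQ' hx'P hfix' hfS'
        hfQ' hNC' hminQ hminS

end Cfsg.Agent.Helper67.G2
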