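import Mathlib
import Cfsg.Agent.S1946
import Cfsg.Agent.Lib.Helper53.NormalComplement
import Cfsg.Agent.Lib.Helper2.PComplement

set_option autoImplicit false

/-!
# Isolated elements and fusion classes of a Sylow `2`-subgroup

If the number of `G`-classes meeting a Sylow `2`-subgroup `P` exceeds `|P|/2`, then `G` has a normal
`2`-complement (elementary: isolated elements control fusion; no `Z*`-theorem).
-/

namespace Cfsg.Agent.Helper67.IsoFusion

open Subgroup

universe u

variable {G : Type*} [Group G]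

/-- the set of `G`-classes meeting `P` -/
def fus (P : Subgroup G) : Set (ConjClasses G) := Set.range (fun y : P => ConjClasses.mk (y : G))

theorem mem_fus {P : Subgroup G} {c : ConjClasses G} : c ∈ fus P ↔ ∃ y ∈ P, ConjClasses.mk y = c := by
  unfold fus
  constructor
  · rintro ⟨y, rfl⟩
    exact ⟨y, y.2, rfl⟩
  · rintro ⟨y, hy, rfl⟩
    exact ⟨⟨y, hy⟩, rfl⟩

theorem mk_conj_eq (g y : G) : ConjClasses.mk (g * y * g⁻¹) = ConjClasses.mk y := by
  rw [ConjClasses.mk_eq_mk_iff_isConj, isConj_iff]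
  exact ⟨g⁻¹, by group⟩

/-- a normal `2`-complement forces `P` to control its own fusion -/
theorem conj_of_npc [Finite G] (P : Sylow 2 G) (h : Cfsg.HasNormalPComplement 2 G)
    (x : G) (hx : x ∈ (P : Subgroup G)) (g : G) (hg : g * x * g⁻¹ ∈ (P : Subgroup G)) :
    ∃ u ∈ (P : Subgroup G), u * x * u⁻¹ = g * x * g⁻¹ := by
  obtain ⟨N, hN, hc⟩ := (Cfsg.Agent.Helper2.hasNormalPComplement_iff P).mp h
  obtain ⟨⟨⟨n, hn⟩, ⟨u, hu⟩⟩, hnu⟩ := hc.2 g
  have hnu' : n * u = g := hnu
  refine ⟨u, hu, ?_⟩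
  have hx' : u * x * u⁻¹ ∈ (P : Subgroup G) :=
    Subgroup.mul_mem _ (Subgroup.mul_mem _ hu hx) (Subgroup.inv_mem _ hu)
  have hdP : (g * x * g⁻¹) * (u * x * u⁻¹)⁻¹ ∈ (P : Subgroup G) :=
    Subgroup.mul_mem _ hg (Subgroup.inv_mem _ hx')
  have hdN : (g * x * g⁻¹) * (u * x * u⁻¹)⁻¹ ∈ N := by
    have h1 : (g * x * g⁻¹) * (u * x * u⁻¹)⁻¹ = n * ((u * x * u⁻¹) * n⁻¹ * (u * x * u⁻¹)⁻¹) := by
      rw [← hnu']; group
    rw [h1]
    exact Subgroup.mul_mem _ hn (hN.conj_mem _ (Subgroup.inv_mem _ hn) _)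
  have hdisj := hc.disjoint
  have h1 : (g * x * g⁻¹) * (u * x * u⁻¹)⁻¹ = 1 := by
    have := Subgroup.disjoint_def.mp hdisj hdN hdP
    exact this
  have := mul_inv_eq_one.mp h1
  exact this.symm

/-- more than `|P|/2` fusion classes force a nontrivial isolated element -/
theorem exists_isolated [Finite G] (P : Subgroup G) (heven : Even (Nat.card P))
    (h : Nat.card P < 2 * Nat.card (fus P)) :
    ∃ x ∈ P, x ≠ 1 ∧ ∀ g : G, g * x * g⁻¹ ∈ P → g * x * g⁻¹ = x := by
  classical
  by_contra hcon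
  push Not at hcon
  haveI : Fintype P := Fintype.ofFinite P
  let φ : P → ConjClasses G := fun y => ConjClasses.mk (y : G)
  have hF : Nat.card (fus P) = (Finset.univ.image φ).card := by
    have h1 : fus P = ((Finset.univ.image φ : Finset (ConjClasses G)) : Set (ConjClasses G)) := by
      ext c
      simp [fus, φ]
    rw [Nat.card_coe_set_eq, h1, Set.ncard_coe_finset]
  have hPc : Nat.card P = (Finset.univ : Finset P).card := by
    rw [Nat.card_eq_fintype_card, Finset.card_univ]
  let s : Finset P := Finset.univ.erase 1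
  have hs : s.card + 1 = (Finset.univ : Finset P).card := by
    rw [Finset.card_erase_of_mem (Finset.mem_univ _)]
    have : 0 < (Finset.univ : Finset P).card := Finset.card_pos.mpr ⟨1, Finset.mem_univ _⟩
    omega
  have h2 : 2 * (s.image φ).card ≤ s.card := by
    apply Finset.mul_card_image_le_card
    intro c hc
    obtain ⟨x, hxs, rfl⟩ := Finset.mem_image.mp hc
    have hx1 : x ≠ 1 := (Finset.mem_erase.mp hxs).1
    have hx1' : (x : G) ≠ 1 := fun h => hx1 (Subtype.ext h)
    obtain ⟨g, hgP, hgne⟩ := hcon x x.2 hx1'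
    let y : P := ⟨g * x * g⁻¹, hgP⟩
    have hyx : y ≠ x := fun h => hgne (congrArg Subtype.val h)
    have hy1 : y ≠ 1 := by
      intro h
      have h' : g * (x : G) * g⁻¹ = 1 := congrArg Subtype.val h
      apply hx1'
      have : (x : G) = g⁻¹ * (g * x * g⁻¹) * g := by group
      rw [this, h']; group
    have hφ : φ y = φ x := mk_conj_eq g x
    have hsub : ({x, y} : Finset P) ⊆ s.filter (fun a => φ a = φ x) := by
      intro a ha
      rw [Finset.mem_insert, Finset.mem_singleton] at ha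
      rw [Finset.mem_filter]
      rcases ha with rfl | rfl
      · exact ⟨hxs, rfl⟩
      · exact ⟨Finset.mem_erase.mpr ⟨hy1, Finset.mem_univ _⟩, hφ⟩
    have := Finset.card_le_card hsub
    rwa [Finset.card_pair hyx.symm] at this
  have h3 : (Finset.univ.image φ).card ≤ (s.image φ).card + 1 := by
    have hsub : Finset.univ.image φ ⊆ insert (φ 1) (s.image φ) := by
      intro c hc
      obtain ⟨x, -, rfl⟩ := Finset.mem_image.mp hc
      by_cases hx : x = 1
      · rw [hx]; exact Finset.mem_insert_self _ _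
      · exact Finset.mem_insert_of_mem
          (Finset.mem_image_of_mem _ (Finset.mem_erase.mpr ⟨hx, Finset.mem_univ _⟩))
    exact (Finset.card_le_card hsub).trans (Finset.card_insert_le _ _)
  obtain ⟨r, hr⟩ := heven
  omega

/-- the centralizer of an isolated element controls fusion in `P` -/
theorem control_of_isolated [Finite G] (P : Sylow 2 G) (x : G) (hx : x ∈ (P : Subgroup G))
    (hiso : ∀ g : G, g * x * g⁻¹ ∈ (P : Subgroup G) → g * x * g⁻¹ = x)
    (y : G) (hy : y ∈ (P : Subgroup G)) (g : G) (hg : g * y * g⁻¹ ∈ (P : Subgroup G)) :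
    ∃ c : G, c * x = x * c ∧ c * y * c⁻¹ = g * y * g⁻¹ := by
  have hxZ : ∀ u ∈ (P : Subgroup G), u * x = x * u := by
    intro u hu
    have := hiso u (Subgroup.mul_mem _ (Subgroup.mul_mem _ hu hx) (Subgroup.inv_mem _ hu))
    calc u * x = (u * x * u⁻¹) * u := by group
      _ = x * u := by rw [this]
  set y' := g * y * g⁻¹ with hy'
  let C' : Subgroup G := Subgroup.centralizer {y'}
  have hxC : x ∈ C' := by
    rw [Subgroup.mem_centralizer_singleton_iff]
    exact (hxZ y' hg).symm
  have hxy : y * x = x * y := hxZ y hy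
  have hbC : g * x * g⁻¹ ∈ C' := by
    rw [Subgroup.mem_centralizer_singleton_iff, hy']
    calc g * x * g⁻¹ * (g * y * g⁻¹) = g * (x * y) * g⁻¹ := by group
      _ = g * (y * x) * g⁻¹ := by rw [hxy]
      _ = g * y * g⁻¹ * (g * x * g⁻¹) := by group
  -- Sylow theory inside `C'`
  have hP1 : IsPGroup 2 ((P : Subgroup G).subgroupOf C') :=
    P.2.comap_of_injective C'.subtype C'.subtype_injective
  obtain ⟨T, hT⟩ := hP1.exists_le_sylow
  have hP2 : IsPGroup 2 (((g • P : Sylow 2 G) : Subgroup G).subgroupOf C') :=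
    (g • P : Sylow 2 G).2.comap_of_injective C'.subtype C'.subtype_injective
  obtain ⟨T₂, hT₂⟩ := hP2.exists_le_sylow
  obtain ⟨c, hc⟩ := MulAction.exists_smul_eq C' T₂ T
  have haT : (⟨x, hxC⟩ : C') ∈ (T : Subgroup C') := hT (by
    rw [Subgroup.mem_subgroupOf]; exact hx)
  have hbT₂ : (⟨g * x * g⁻¹, hbC⟩ : C') ∈ (T₂ : Subgroup C') := hT₂ (by
    rw [Subgroup.mem_subgroupOf, Sylow.coe_subgroup_smul,
      Subgroup.mem_pointwise_smul_iff_inv_smul_mem]
    show (MulAut.conj g)⁻¹ • (g * x * g⁻¹) ∈ (P : Subgroup G)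
    rw [MulAut.smul_def, MulAut.conj_inv_apply]
    have : g⁻¹ * (g * x * g⁻¹) * g = x := by group
    rw [this]; exact hx)
  have hcb : c * ⟨g * x * g⁻¹, hbC⟩ * c⁻¹ ∈ (T : Subgroup C') := by
    rw [← hc, Sylow.coe_subgroup_smul, Subgroup.mem_pointwise_smul_iff_inv_smul_mem]
    show (MulAut.conj c)⁻¹ • (c * ⟨g * x * g⁻¹, hbC⟩ * c⁻¹) ∈ (T₂ : Subgroup C')
    rw [MulAut.smul_def, MulAut.conj_inv_apply]
    have : c⁻¹ * (c * (⟨g * x * g⁻¹, hbC⟩ : C') * c⁻¹) * c = ⟨g * x * g⁻¹, hbC⟩ := by group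
    rw [this]; exact hbT₂
  -- move to `G`
  have hTG : IsPGroup 2 ((T : Subgroup C').map C'.subtype) := T.2.map _
  obtain ⟨Q, hQ⟩ := hTG.exists_le_sylow
  obtain ⟨h, hh⟩ := MulAction.exists_smul_eq G P Q
  have hxQ : x ∈ (Q : Subgroup G) := hQ ⟨⟨x, hxC⟩, haT, rfl⟩
  have hwQ : (c : G) * (g * x * g⁻¹) * (c : G)⁻¹ ∈ (Q : Subgroup G) :=
    hQ ⟨c * ⟨g * x * g⁻¹, hbC⟩ * c⁻¹, hcb, rfl⟩
  have hmemP : ∀ w : G, w ∈ (Q : Subgroup G) → h⁻¹ * w * h ∈ (P : Subgroup G) := by
    intro w hw
    rw [← hh, Sylow.coe_subgroup_smul, Subgroup.mem_pointwise_smul_iff_inv_smul_mem] at hw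
    have : (MulAut.conj h)⁻¹ • w = h⁻¹ * w * h := by
      rw [MulAut.smul_def, MulAut.conj_inv_apply]
    rwa [this] at hw
  have e1 : h⁻¹ * x * h = x := by
    have h1 := hmemP x hxQ
    have h2 := hiso h⁻¹ (by rwa [inv_inv])
    rwa [inv_inv] at h2
  have e2 : (h⁻¹ * c * g) * x * (h⁻¹ * c * g)⁻¹ = x := by
    have h1 := hmemP _ hwQ
    have h3 : h⁻¹ * ((c : G) * (g * x * g⁻¹) * (c : G)⁻¹) * h
        = (h⁻¹ * c * g) * x * (h⁻¹ * c * g)⁻¹ := by group
    rw [h3] at h1
    exact hiso _ h1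
  refine ⟨c * g, ?_, ?_⟩
  · have h4 : ((c : G) * g) * x * ((c : G) * g)⁻¹ = x := by
      have : ((c : G) * g) * x * ((c : G) * g)⁻¹
          = h * ((h⁻¹ * c * g) * x * (h⁻¹ * c * g)⁻¹) * h⁻¹ := by group
      rw [this, e2]
      calc h * x * h⁻¹ = h * (h⁻¹ * x * h) * h⁻¹ := by rw [e1]
        _ = x := by group
    calc (c : G) * g * x = (((c : G) * g) * x * ((c : G) * g)⁻¹) * ((c : G) * g) := by group
      _ = x * ((c : G) * g) := by rw [h4]
  · have hcc : (c : G) * y' = y' * c := by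
      have := c.2
      rw [Subgroup.mem_centralizer_singleton_iff] at this
      exact this
    calc (c : G) * g * y * ((c : G) * g)⁻¹ = (c : G) * y' * (c : G)⁻¹ := by rw [hy']; group
      _ = y' * c * (c : G)⁻¹ := by rw [hcc]
      _ = y' := by group

/-- fusion classes only get finer in a subgroup -/
theorem card_fus_le_subgroup [Finite G] (C : Subgroup G) (P : Subgroup G) (hPC : P ≤ C) :
    Nat.card (fus P) ≤ Nat.card (fus (P.subgroupOf C)) := by
  have hsub : fus P ⊆ (ConjClasses.map C.subtype) '' fus (P.subgroupOf C) := by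
    intro c hc
    obtain ⟨y, hy, rfl⟩ := mem_fus.mp hc
    refine ⟨ConjClasses.mk (⟨y, hPC hy⟩ : C), mem_fus.mpr ⟨⟨y, hPC hy⟩, ?_, rfl⟩, rfl⟩
    rw [Subgroup.mem_subgroupOf]; exact hy
  rw [Nat.card_coe_set_eq, Nat.card_coe_set_eq]
  exact (Set.ncard_le_ncard hsub (Set.toFinite _)).trans (Set.ncard_image_le (Set.toFinite _))

/-- reduction to the centralizer of an isolated element -/
theorem npc_of_centralizer [Finite G] (P : Sylow 2 G) (x : G) (hx : x ∈ (P : Subgroup G))
    (hiso : ∀ g : G, g * x * g⁻¹ ∈ (P : Subgroup G) → g * x * g⁻¹ = x)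
    (hPC : (P : Subgroup G) ≤ Subgroup.centralizer {x})
    (hC : Cfsg.HasNormalPComplement 2 ↥(Subgroup.centralizer ({x} : Set G))) :
    Cfsg.HasNormalPComplement 2 G := by
  rw [Cfsg.Agent.S1946.result P]
  intro a ha hord g hga
  obtain ⟨c, hcx, hca⟩ := control_of_isolated P x hx hiso a ha g hga
  have hcC : c ∈ Subgroup.centralizer ({x} : Set G) := by
    rw [Subgroup.mem_centralizer_singleton_iff]; exact hcx
  have hord' : ((⟨a, hPC ha⟩ : Subgroup.centralizer ({x} : Set G)) ^ 2 = 1 ∨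
      (2 = 2 ∧ (⟨a, hPC ha⟩ : Subgroup.centralizer ({x} : Set G)) ^ 4 = 1)) := by
    rcases hord with h | ⟨_, h⟩
    · left; exact Subtype.ext h
    · right; exact ⟨rfl, Subtype.ext h⟩
  have hmem : (⟨a, hPC ha⟩ : Subgroup.centralizer ({x} : Set G)) ∈
      ((P.subtype hPC : Sylow 2 _) : Subgroup (Subgroup.centralizer ({x} : Set G))) := by
    rw [Sylow.coe_subtype, Subgroup.mem_subgroupOf]; exact ha
  have hmem2 : (⟨c, hcC⟩ : Subgroup.centralizer ({x} : Set G)) * ⟨a, hPC ha⟩ * (⟨c, hcC⟩)⁻¹ ∈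
      ((P.subtype hPC : Sylow 2 _) : Subgroup (Subgroup.centralizer ({x} : Set G))) := by
    rw [Sylow.coe_subtype, Subgroup.mem_subgroupOf]
    show c * a * c⁻¹ ∈ (P : Subgroup G)
    rw [hca]; exact hga
  obtain ⟨u, hu, hue⟩ := (Cfsg.Agent.S1946.result (P.subtype hPC)).mp hC ⟨a, hPC ha⟩ hmem hord'
    ⟨c, hcC⟩ hmem2
  rw [Sylow.coe_subtype, Subgroup.mem_subgroupOf] at hu
  refine ⟨(u : G), hu, ?_⟩
  have := congrArg Subtype.val hue
  rw [← hca]
  exact this

theorem card_fus_eq [Finite G] (P : Subgroup G) [Fintype P] [DecidableEq (ConjClasses G)] :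
    Nat.card (fus P) = (Finset.univ.image (fun y : P => ConjClasses.mk (y : G))).card := by
  have h1 : fus P = ((Finset.univ.image (fun y : P => ConjClasses.mk (y : G)) :
      Finset (ConjClasses G)) : Set (ConjClasses G)) := by
    ext c
    simp [fus]
  rw [Nat.card_coe_set_eq, h1, Set.ncard_coe_finset]

/-- passing to the quotient by a normal subgroup `Z ≤ P` divides the number of fusion classes by at
most `|Z|` -/
theorem card_fus_le_quotient [Finite G] (Z : Subgroup G) [Z.Normal] (P : Subgroup G) (hZP : Z ≤ P) :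
    Nat.card (fus P) ≤ Nat.card Z * Nat.card (fus (P.map (QuotientGroup.mk' Z))) := by
  classical
  haveI : Fintype P := Fintype.ofFinite P
  haveI : Fintype Z := Fintype.ofFinite Z
  haveI : Fintype (P.map (QuotientGroup.mk' Z)) := Fintype.ofFinite _
  let φ : P → ConjClasses G := fun y => ConjClasses.mk (y : G)
  let m : ConjClasses G → ConjClasses (G ⧸ Z) := ConjClasses.map (QuotientGroup.mk' Z)
  have h2 : Nat.card (fus (P.map (QuotientGroup.mk' Z))) = ((Finset.univ.image φ).image m).card := by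
    have h1 : fus (P.map (QuotientGroup.mk' Z)) = (((Finset.univ.image φ).image m :
        Finset (ConjClasses (G ⧸ Z))) : Set (ConjClasses (G ⧸ Z))) := by
      ext c
      rw [mem_fus]
      simp only [Finset.coe_image, Finset.coe_univ, Set.image_univ, Set.mem_image, Set.mem_range,
        Subgroup.mem_map]
      constructor
      · rintro ⟨_, ⟨y, hy, rfl⟩, rfl⟩
        exact ⟨φ ⟨y, hy⟩, ⟨⟨y, hy⟩, rfl⟩, rfl⟩
      · rintro ⟨_, ⟨y, rfl⟩, rfl⟩
        exact ⟨QuotientGroup.mk' Z (y : G), ⟨y, y.2, rfl⟩, rfl⟩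
    rw [Nat.card_coe_set_eq, h1, Set.ncard_coe_finset]
  rw [card_fus_eq P, h2]
  apply Finset.card_le_mul_card_image
  intro b hb
  obtain ⟨_, ha, rfl⟩ := Finset.mem_image.mp hb
  obtain ⟨y₀, -, rfl⟩ := Finset.mem_image.mp ha
  have hsub : (Finset.univ.image φ).filter (fun a => m a = m (φ y₀)) ⊆
      (Finset.univ : Finset Z).image (fun z : Z => φ ⟨(y₀ : G) * (z : G), Subgroup.mul_mem _ y₀.2 (hZP z.2)⟩) := by
    intro a ha
    rw [Finset.mem_filter] at ha
    obtain ⟨ha1, ha2⟩ := ha
    obtain ⟨y, -, rfl⟩ := Finset.mem_image.mp ha1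
    have h3 : ConjClasses.mk (QuotientGroup.mk' Z (y : G)) =
        ConjClasses.mk (QuotientGroup.mk' Z (y₀ : G)) := ha2
    rw [ConjClasses.mk_eq_mk_iff_isConj, isConj_iff] at h3
    obtain ⟨q, hq⟩ := h3
    obtain ⟨g, rfl⟩ := QuotientGroup.mk'_surjective Z q
    have h4 : QuotientGroup.mk' Z (g * y * g⁻¹) = QuotientGroup.mk' Z (y₀ : G) := by
      rw [map_mul, map_mul, map_inv]; exact hq
    have h5 : (g * (y : G) * g⁻¹)⁻¹ * (y₀ : G) ∈ Z := by
      have := (QuotientGroup.eq (s := Z)).mp h4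
      exact this
    rw [Finset.mem_image]
    refine ⟨⟨((g * (y : G) * g⁻¹)⁻¹ * (y₀ : G))⁻¹, Subgroup.inv_mem _ h5⟩, Finset.mem_univ _, ?_⟩
    show ConjClasses.mk ((y₀ : G) * ((g * (y : G) * g⁻¹)⁻¹ * (y₀ : G))⁻¹) = ConjClasses.mk (y : G)
    have : (y₀ : G) * ((g * (y : G) * g⁻¹)⁻¹ * (y₀ : G))⁻¹ = g * y * g⁻¹ := by group
    rw [this]; exact mk_conj_eq g y
  calc ((Finset.univ.image φ).filter (fun a => m a = m (φ y₀))).card
      ≤ ((Finset.univ : Finset Z).image
          (fun z : Z => φ ⟨(y₀ : G) * (z : G), Subgroup.mul_mem _ y₀.2 (hZP z.2)⟩)).card :=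
        Finset.card_le_card hsub
    _ ≤ (Finset.univ : Finset Z).card := Finset.card_image_le
    _ = Nat.card Z := by rw [Finset.card_univ, Nat.card_eq_fintype_card]

/-- lifting a normal `2`-complement through a central quotient -/
theorem npc_of_central_quotient [Finite G] (Z : Subgroup G) [hZn : Z.Normal]
    (hZc : ∀ z ∈ Z, ∀ g : G, g * z = z * g)
    (h : Cfsg.HasNormalPComplement 2 (G ⧸ Z)) : Cfsg.HasNormalPComplement 2 G := by
  obtain ⟨N, hNn, hodd, k, hk⟩ := Cfsg.Agent.Helper53.exists_odd_card_of_hasNormalPComplement h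
  let K : Subgroup G := N.comap (QuotientGroup.mk' Z)
  haveI : K.Normal := hNn.comap _
  have hKidx : K.index = 2 ^ k := by
    rw [Subgroup.index_comap_of_surjective N (QuotientGroup.mk'_surjective Z)]; exact hk
  apply Cfsg.Agent.Helper53.hasNormalPComplement_lift K k hKidx
  obtain ⟨T⟩ := (Sylow.nonempty : Nonempty (Sylow 2 K))
  apply Cfsg.Agent.Helper2.hasNormalPComplement_of_normalizer_le_centralizer T
  intro g _
  rw [Subgroup.mem_centralizer_iff]
  intro t ht
  have hcop : Nat.Coprime 2 (Nat.card N) := (Nat.Prime.coprime_iff_not_dvd Nat.prime_two).mpr hodd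
  obtain ⟨j, hj⟩ := T.2 ⟨t, ht⟩
  have hj' : (t : G) ^ 2 ^ j = 1 := by
    have := congrArg (fun w : (T : Subgroup K) => ((w : K) : G)) hj
    simpa using this
  have h1 : orderOf (QuotientGroup.mk' Z (t : G)) ∣ 2 ^ j := by
    apply orderOf_dvd_of_pow_eq_one
    rw [← map_pow, hj', map_one]
  have h2 : orderOf (QuotientGroup.mk' Z (t : G)) ∣ Nat.card N :=
    Subgroup.orderOf_dvd_natCard N t.2
  have h3 : orderOf (QuotientGroup.mk' Z (t : G)) = 1 :=
    Nat.eq_one_of_dvd_coprimes (Nat.Coprime.pow_left j hcop) h1 h2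
  have h4 : QuotientGroup.mk' Z (t : G) = 1 := orderOf_eq_one_iff.mp h3
  have htZ : (t : G) ∈ Z := (QuotientGroup.eq_one_iff _).mp h4
  apply Subtype.ext
  show (t : G) * (g : G) = (g : G) * (t : G)
  exact (hZc _ htZ g).symm

/-- **Main theorem**: more than `|P|/2` fusion classes force a normal `2`-complement. -/
theorem npc_of_many_classes : ∀ (n : ℕ) (G : Type u) [Group G] [Finite G] (P : Sylow 2 G),
    Nat.card G = n → Nat.card (P : Subgroup G) < 2 * Nat.card (fus (P : Subgroup G)) →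
    Cfsg.HasNormalPComplement 2 G := by
  intro n
  induction n using Nat.strong_induction_on with
  | _ n ih =>
  intro G _ _ P hn hlt
  obtain ⟨k, hk⟩ := IsPGroup.iff_card.mp P.2
  rcases Nat.eq_zero_or_pos k with rfl | hkpos
  · have hP : (P : Subgroup G) = ⊥ := Subgroup.card_eq_one.mp (by simpa using hk)
    exact ⟨P, ⊤, inferInstance, by rw [hP]; exact Subgroup.isComplement'_top_bot⟩
  have heven : Even (Nat.card (P : Subgroup G)) := by
    rw [hk]; exact (Nat.even_pow.mpr ⟨even_two, hkpos.ne'⟩)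
  obtain ⟨x, hx, hx1, hiso⟩ := exists_isolated (P : Subgroup G) heven hlt
  have hxZ : ∀ u ∈ (P : Subgroup G), u * x = x * u := by
    intro u hu
    have := hiso u (Subgroup.mul_mem _ (Subgroup.mul_mem _ hu hx) (Subgroup.inv_mem _ hu))
    calc u * x = (u * x * u⁻¹) * u := by group
      _ = x * u := by rw [this]
  have hPC : (P : Subgroup G) ≤ Subgroup.centralizer {x} := fun u hu => by
    rw [Subgroup.mem_centralizer_singleton_iff]; exact hxZ u hu
  by_cases hC : Subgroup.centralizer ({x} : Set G) = ⊤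
  · have hxc : ∀ g : G, g * x = x * g := fun g => by
      have : g ∈ Subgroup.centralizer ({x} : Set G) := by rw [hC]; trivial
      rwa [Subgroup.mem_centralizer_singleton_iff] at this
    have hZc : ∀ z ∈ Subgroup.zpowers x, ∀ g : G, g * z = z * g := by
      intro z hz g
      obtain ⟨j, rfl⟩ := Subgroup.mem_zpowers_iff.mp hz
      exact ((show Commute g x from hxc g).zpow_right j)
    haveI hZn : (Subgroup.zpowers x).Normal := ⟨fun z hz g => by
      have h1 := hZc z hz g
      have h2 : g * z * g⁻¹ = z := by rw [h1]; group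
      rw [h2]; exact hz⟩
    have hZP : Subgroup.zpowers x ≤ (P : Subgroup G) := by rw [Subgroup.zpowers_le]; exact hx
    have hsurj := QuotientGroup.mk'_surjective (Subgroup.zpowers x)
    have hcardG : Nat.card G = Nat.card (G ⧸ Subgroup.zpowers x) * Nat.card (Subgroup.zpowers x) :=
      Subgroup.card_eq_card_quotient_mul_card_subgroup _
    have hZ2 : 1 < Nat.card (Subgroup.zpowers x) := by
      rw [Subgroup.one_lt_card_iff_ne_bot]
      intro h
      apply hx1
      have : x ∈ Subgroup.zpowers x := Subgroup.mem_zpowers x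
      rw [h] at this
      exact Subgroup.mem_bot.mp this
    have hlt' : Nat.card (G ⧸ Subgroup.zpowers x) < n := by
      rw [← hn, hcardG]
      have := Nat.card_pos (α := G ⧸ Subgroup.zpowers x)
      nlinarith
    have hidx : (P : Subgroup G).index =
        ((P : Subgroup G).map (QuotientGroup.mk' (Subgroup.zpowers x))).index := by
      rw [← Subgroup.index_comap_of_surjective _ hsurj, Subgroup.comap_map_eq,
        QuotientGroup.ker_mk', sup_eq_left.mpr hZP]
    have hPb : Nat.card (P : Subgroup G) =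
        Nat.card ((P : Subgroup G).map (QuotientGroup.mk' (Subgroup.zpowers x))) *
          Nat.card (Subgroup.zpowers x) := by
      have e1 := Subgroup.card_mul_index (P : Subgroup G)
      have e2 := Subgroup.card_mul_index
        ((P : Subgroup G).map (QuotientGroup.mk' (Subgroup.zpowers x)))
      have hi : 0 < (P : Subgroup G).index := Nat.pos_of_ne_zero Subgroup.index_ne_zero_of_finite
      rw [← hidx] at e2
      apply Nat.eq_of_mul_eq_mul_right hi
      rw [e1, hcardG, ← e2]; ring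
    have hfus := card_fus_le_quotient (Subgroup.zpowers x) (P : Subgroup G) hZP
    have hltb : Nat.card ((P.mapSurjective hsurj : Sylow 2 _) : Subgroup (G ⧸ Subgroup.zpowers x)) <
        2 * Nat.card (fus ((P.mapSurjective hsurj : Sylow 2 _) : Subgroup (G ⧸ Subgroup.zpowers x))) := by
      rw [Sylow.coe_mapSurjective]
      have hZpos : 0 < Nat.card (Subgroup.zpowers x) := Nat.card_pos
      nlinarith
    exact npc_of_central_quotient (Subgroup.zpowers x) hZc
      (ih _ hlt' (G ⧸ Subgroup.zpowers x) (P.mapSurjective hsurj) rfl hltb)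
  · have hClt : Nat.card (Subgroup.centralizer ({x} : Set G)) < n := by
      rw [← hn]
      have e1 := Subgroup.card_mul_index (Subgroup.centralizer ({x} : Set G))
      have h1 : (Subgroup.centralizer ({x} : Set G)).index ≠ 1 := fun h =>
        hC (Subgroup.index_eq_one.mp h)
      have h0 : (Subgroup.centralizer ({x} : Set G)).index ≠ 0 := Subgroup.index_ne_zero_of_finite
      have hpos := Nat.card_pos (α := Subgroup.centralizer ({x} : Set G))
      have h2 : 2 ≤ (Subgroup.centralizer ({x} : Set G)).index := by omega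
      nlinarith
    have hcardPC : Nat.card ((P.subtype hPC : Sylow 2 _) :
        Subgroup (Subgroup.centralizer ({x} : Set G))) = Nat.card (P : Subgroup G) := by
      rw [Sylow.coe_subtype]
      exact Nat.card_congr (Subgroup.subgroupOfEquivOfLe hPC).toEquiv
    have hfus := card_fus_le_subgroup (Subgroup.centralizer ({x} : Set G)) (P : Subgroup G) hPC
    have hltC : Nat.card ((P.subtype hPC : Sylow 2 _) :
        Subgroup (Subgroup.centralizer ({x} : Set G))) <
        2 * Nat.card (fus ((P.subtype hPC : Sylow 2 _) :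
          Subgroup (Subgroup.centralizer ({x} : Set G)))) := by
      rw [hcardPC, Sylow.coe_subtype]; omega
    exact npc_of_centralizer P x hx hiso hPC
      (ih _ hClt (Subgroup.centralizer ({x} : Set G)) (P.subtype hPC) rfl hltC)

end Cfsg.Agent.Helper67.IsoFusion
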