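import Mathlib
import Cfsg.Agent.Lib.Helper7.M11UDefs

set_option autoImplicit false

/-!
# M11U (L1) `loc_basic` (piece of S0420, helper7 server)
-/

namespace Cfsg.Agent.Helper67.M11U

open Subgroup Cfsg.Agent.Helper7.M11U
open scoped Pointwise

variable {G : Type*} [Group G] [Finite G]

theorem l1_card_sylow (B : Base G) (R : Sylow 3 G) : Nat.card (R : Subgroup G) = 9 := by
  have : Fact (Nat.Prime 3) := ⟨Nat.prime_three⟩
  obtain ⟨k, hk⟩ := IsPGroup.exists_card_eq R.isPGroup'
  have hidx : ¬ 3 ∣ (R : Subgroup G).index := R.not_dvd_index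
  have hmul : Nat.card (R : Subgroup G) * (R : Subgroup G).index = Nat.card G :=
    Subgroup.card_mul_index _
  rw [B.card, hk] at hmul
  have hk2 : k ≤ 2 := by
    by_contra h
    push Not at h
    have h27 : 3 ^ 3 ∣ 7920 := by
      rw [← hmul]
      exact Dvd.dvd.mul_right (pow_dvd_pow 3 h) _
    omega
  interval_cases k
  · exfalso
    apply hidx
    omega
  · exfalso
    apply hidx
    omega
  · rw [hk]
    norm_num

theorem l1_comm (B : Base G) (R : Sylow 3 G) (x : G) (hx : x ∈ (R : Subgroup G)) (y : G)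
    (hy : y ∈ (R : Subgroup G)) : x * y = y * x := by
  have : Fact (Nat.Prime 3) := ⟨Nat.prime_three⟩
  have h9 : Nat.card (R : Subgroup G) = 3 ^ 2 := by
    rw [l1_card_sylow B R]
    norm_num
  have hc := IsPGroup.isMulCommutative_of_card_eq_prime_sq h9
  have := hc.is_comm.comm ⟨x, hx⟩ ⟨y, hy⟩
  exact congrArg Subtype.val this

theorem l1_cent (B : Base G) (R : Sylow 3 G) (g : G)
    (hg : g ∈ centralizer ((R : Subgroup G) : Set G)) : g ∈ (R : Subgroup G) := by
  have : Fact (Nat.Prime 2) := ⟨Nat.prime_two⟩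
  set C := centralizer ((R : Subgroup G) : Set G) with hC
  have hRC : (R : Subgroup G) ≤ C := by
    intro r hr
    rw [hC, mem_centralizer_iff]
    intro h hh
    exact l1_comm B R h hh r hr
  have hCN : C ≤ normalizer ((R : Subgroup G) : Set G) := centralizer_le_normalizer _
  have h1 : Nat.card C ∣ 144 := by
    rw [← B.h144 R]
    exact Subgroup.card_dvd_of_le hCN
  have h2 : 9 ∣ Nat.card C := by
    rw [← l1_card_sylow B R]
    exact Subgroup.card_dvd_of_le hRC
  by_contra hgR
  have hne : Nat.card C ≠ 9 := by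
    intro h9
    have : (R : Subgroup G) = C := by
      apply Subgroup.eq_of_le_of_card_ge hRC
      rw [h9, l1_card_sylow B R]
    apply hgR
    rw [this]
    exact hg
  have heven : 2 ∣ Nat.card C := by
    obtain ⟨m, hm⟩ := h2
    rw [hm] at h1 hne ⊢
    have hm16 : m ∣ 16 := by
      have : 9 * m ∣ 9 * 16 := by simpa using h1
      exact Nat.dvd_of_mul_dvd_mul_left (by norm_num) this
    have hmle : m ≤ 16 := Nat.le_of_dvd (by norm_num) hm16
    interval_cases m <;> omega
  obtain ⟨u, hu⟩ := exists_prime_orderOf_dvd_card' (G := C) 2 heven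
  have hu2 : orderOf (u : G) = 2 := by
    rw [Subgroup.orderOf_coe]
    exact hu
  have hRu : (R : Subgroup G) ≤ centralizer ({(u : G)} : Set G) := by
    intro r hr
    rw [mem_centralizer_iff]
    intro h hh
    rw [Set.mem_singleton_iff] at hh
    rw [hh]
    have := (mem_centralizer_iff.mp u.2) r hr
    exact this.symm
  have h3 : 9 ∣ 48 := by
    rw [← l1_card_sylow B R, ← B.h48 (u : G) hu2]
    exact Subgroup.card_dvd_of_le hRu
  omega

theorem l1_n55 (B : Base G) : Nat.card (Sylow 3 G) = 55 := by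
  have : Fact (Nat.Prime 3) := ⟨Nat.prime_three⟩
  obtain ⟨R⟩ : Nonempty (Sylow 3 G) := inferInstance
  rw [Sylow.card_eq_index_normalizer R]
  have h1 := Subgroup.card_mul_index (normalizer ((R : Subgroup G) : Set G))
  rw [B.h144 R, B.card] at h1
  have h2 : 144 * (normalizer ((R : Subgroup G) : Set G)).index = 144 * 55 := by
    rw [h1]
  exact Nat.eq_of_mul_eq_mul_left (by norm_num) h2

/-- (L1) -/
theorem loc_basic (B : Base G) :
    (∀ R : Sylow 3 G, Nat.card (R : Subgroup G) = 9) ∧
    (∀ R : Sylow 3 G, ∀ x ∈ (R : Subgroup G), ∀ y ∈ (R : Subgroup G), x * y = y * x) ∧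
    (∀ R : Sylow 3 G, ∀ g : G, g ∈ centralizer ((R : Subgroup G) : Set G) → g ∈ (R : Subgroup G)) ∧
    Nat.card (Sylow 3 G) = 55 :=
  ⟨l1_card_sylow B, l1_comm B, l1_cent B, l1_n55 B⟩

end Cfsg.Agent.Helper67.M11U
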