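import Mathlib
import Cfsg.Agent.Lib.Helper7.M11UDefs
import Cfsg.Agent.Lib.Helper50.M11Q6

set_option autoImplicit false

/-!
# M11U (L4c) `false_of_72'` (piece of S0420, helper7 server)
-/

namespace Cfsg.Agent.Helper67.M11U

open Subgroup Cfsg.Agent.Helper7.M11U Cfsg.Agent.Helper74.M11 Cfsg.Agent.Helper50.M11
open scoped Pointwise

variable {G : Type*} [Group G] [Finite G]

/-- Sylow count inside a subgroup `Y` containing the Sylow 3-subgroup `R`. -/
theorem l4c_sylow_sub (R : Sylow 3 G) (Y : Subgroup G) (hRY : (R : Subgroup G) ≤ Y) :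
    Nat.card (Sylow 3 Y) * Nat.card (NorS (R : Subgroup G) ⊓ Y : Subgroup G) = Nat.card Y ∧
      Nat.card (Sylow 3 Y) ≡ 1 [MOD 3] ∧ Nat.card (Sylow 3 Y) * Nat.card (R : Subgroup G) ∣ Nat.card Y := by
  have : Fact (Nat.Prime 3) := ⟨Nat.prime_three⟩
  set P' : Sylow 3 Y := R.subtype hRY with hP'
  have h1 : Nat.card (Sylow 3 Y) = (normalizer ((P' : Subgroup Y) : Set Y)).index :=
    Sylow.card_eq_index_normalizer P'
  have h2 : normalizer ((P' : Subgroup Y) : Set Y) = (NorS (R : Subgroup G)).subgroupOf Y := by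
    rw [hP', Sylow.coe_subtype]
    exact (subgroupOf_normalizer_eq hRY).symm
  have h3 : Nat.card ((NorS (R : Subgroup G)).subgroupOf Y) =
      Nat.card (NorS (R : Subgroup G) ⊓ Y : Subgroup G) := by
    rw [← Subgroup.inf_subgroupOf_right]
    exact Nat.card_congr (Subgroup.subgroupOfEquivOfLe inf_le_right).toEquiv
  refine ⟨?_, card_sylow_modEq_one 3 Y, ?_⟩
  · rw [h1, h2, ← h3, mul_comm]
    exact Subgroup.card_mul_index _
  · have h4 : Nat.card (Sylow 3 Y) ∣ (P' : Subgroup Y).index := Sylow.card_dvd_index P'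
    have h5 : Nat.card (P' : Subgroup Y) * (P' : Subgroup Y).index = Nat.card Y :=
      Subgroup.card_mul_index _
    have h6 : Nat.card (P' : Subgroup Y) = Nat.card (R : Subgroup G) := by
      rw [hP', Sylow.coe_subtype]
      exact Nat.card_congr (Subgroup.subgroupOfEquivOfLe hRY).toEquiv
    rw [← h5, h6, mul_comm]
    exact Nat.mul_dvd_mul_left _ h4

omit [Group G] [Finite G] in
theorem l4c_arith_b (b : ℕ) (h : b ∣ 8) (h3 : b % 3 = 1) : b = 1 ∨ b = 4 := by
  have hle : b ≤ 8 := Nat.le_of_dvd (by norm_num) h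
  interval_cases b <;> omega

omit [Group G] [Finite G] in
theorem l4c_arith_a (a : ℕ) (h : a ∣ 16) (h3 : a % 3 = 1) (h1 : a ≠ 1) : a = 4 ∨ a = 16 := by
  have hle : a ≤ 16 := Nat.le_of_dvd (by norm_num) h
  interval_cases a <;> omega

/-- `|N(R) ⊓ N(D)| = 36`. -/
theorem l4c_card_inf
    (hcard3 : ∀ R : Sylow 3 G, Nat.card (R : Subgroup G) = 9)
    (hcomm : ∀ R : Sylow 3 G, ∀ x ∈ (R : Subgroup G), ∀ y ∈ (R : Subgroup G), x * y = y * x)
    (R R' : Sylow 3 G) (hne : R ≠ R') (D : Subgroup G)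
    (hDR : D ≤ (R : Subgroup G)) (hDR' : D ≤ (R' : Subgroup G))
    (hC : Nat.card (centralizer (D : Set G)) = 72) (hN : Nat.card (normalizer (D : Set G)) = 144) :
    Nat.card (NorS (R : Subgroup G) ⊓ NorS D : Subgroup G) = 36 := by
  have : Fact (Nat.Prime 3) := ⟨Nat.prime_three⟩
  have hRX : ∀ R₁ : Sylow 3 G, D ≤ (R₁ : Subgroup G) → (R₁ : Subgroup G) ≤ CenS D := by
    intro R₁ hD₁ r hr
    rw [Subgroup.mem_centralizer_iff]
    intro d hd
    exact hcomm R₁ d (hD₁ hd) r hr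
  have hXY : CenS D ≤ NorS D := Subgroup.centralizer_le_normalizer _
  obtain ⟨hY1, hY2, hY3⟩ := l4c_sylow_sub R (NorS D) ((hRX R hDR).trans hXY)
  obtain ⟨hX1, hX2, hX3⟩ := l4c_sylow_sub R (CenS D) (hRX R hDR)
  have hNY : Nat.card (NorS D) = 144 := hN
  have hCX : Nat.card (CenS D) = 72 := hC
  rw [hNY] at hY1 hY3
  rw [hCX] at hX1 hX3
  rw [hcard3 R] at hY3 hX3
  -- `n₃(Y) ≠ 1`
  have hYne1 : Nat.card (Sylow 3 (NorS D)) ≠ 1 := by
    intro h1
    have hsub : Subsingleton (Sylow 3 (NorS D)) := (Nat.card_eq_one_iff_unique.mp h1).1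
    apply hne
    exact Sylow.subtype_injective (hP := (hRX R hDR).trans hXY) (hQ := (hRX R' hDR').trans hXY)
      (Subsingleton.elim _ _)
  have hle : Nat.card (NorS (R : Subgroup G) ⊓ CenS D : Subgroup G) ≤
      Nat.card (NorS (R : Subgroup G) ⊓ NorS D : Subgroup G) :=
    Subgroup.card_le_of_le (inf_le_inf_left _ hXY)
  -- numerics
  obtain ⟨a, ha⟩ : ∃ a, a = Nat.card (Sylow 3 (NorS D)) := ⟨_, rfl⟩
  obtain ⟨b, hb⟩ : ∃ b, b = Nat.card (Sylow 3 (CenS D)) := ⟨_, rfl⟩
  rw [← ha] at hY1 hY2 hY3 hYne1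
  rw [← hb] at hX1 hX2 hX3
  have ha16 : a ∣ 16 := by
    have : a * 9 ∣ 16 * 9 := by simpa using hY3
    exact Nat.dvd_of_mul_dvd_mul_right (by norm_num) this
  have hb8 : b ∣ 8 := by
    have : b * 9 ∣ 8 * 9 := by simpa using hX3
    exact Nat.dvd_of_mul_dvd_mul_right (by norm_num) this
  have hale : a ≤ 16 := Nat.le_of_dvd (by norm_num) ha16
  have hble : b ≤ 8 := Nat.le_of_dvd (by norm_num) hb8
  have hY2' : a % 3 = 1 := by
    have := hY2
    unfold Nat.ModEq at this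
    simpa using this
  have hX2' : b % 3 = 1 := by
    have := hX2
    unfold Nat.ModEq at this
    simpa using this
  have hb14 : b = 1 ∨ b = 4 := l4c_arith_b b hb8 hX2'
  have ha416 : a = 4 ∨ a = 16 := l4c_arith_a a ha16 hY2' hYne1
  rcases ha416 with h | h
  · rw [h] at hY1
    omega
  · exfalso
    rw [h] at hY1
    rcases hb14 with h' | h' <;> rw [h'] at hX1 <;> omega

/-- The core of (L4c): helper50's (Q6) with `N(P)` replaced by `N = N(P) ⊓ N(D)` of order 36. -/
theorem l4c_core (h48 : ∀ t : G, orderOf t = 2 → Nat.card (Cen t) = 48)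
    (hsq : ∀ t : G, orderOf t = 2 → ∃ v : G, v ^ 2 = t)
    (P : Sylow 3 G) (hP9 : Nat.card (P : Subgroup G) = 9) (D : Subgroup G) (hD : Nat.card D = 3)
    (hDP : D ≤ (P : Subgroup G))
    (N : Subgroup G) (hNP : N ≤ NorS (P : Subgroup G)) (hPN : (P : Subgroup G) ≤ N)
    (hNinf : NorS (P : Subgroup G) ⊓ NorS D ≤ N)
    (hN : Nat.card N = 36)
    (hCP : ∀ g ∈ CenS (P : Subgroup G), g ∈ (P : Subgroup G))
    (hND : N ≤ NorS D) (hCD : Nat.card (CenS D) = 72)
    (hNDc : Nat.card (NorS D) = 144) : False := by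
  classical
  have hDN : D ≤ N := hDP.trans hPN
  obtain ⟨K, hKN, hDK, hKnorm, h6⟩ :=
    h50q6_exists_K N (NorS D) D hND hDN le_rfl hNDc hN
  -- elements of `P` have 3-power order
  have hPord : ∀ p ∈ (P : Subgroup G), ∃ n, orderOf p = 3 ^ n := by
    intro p hp
    have h1 := Subgroup.orderOf_dvd_natCard _ hp
    rw [hP9] at h1
    have h1' : orderOf p ∣ 3 ^ 2 := by
      rw [show (3 : ℕ) ^ 2 = 9 by norm_num]; exact h1
    obtain ⟨m, _, hm⟩ := (Nat.dvd_prime_pow Nat.prime_three).mp h1'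
    exact ⟨m, hm⟩
  -- Step B: `P` is not contained in `K`
  have hPK : ¬ (P : Subgroup G) ≤ K := by
    intro hPK
    have hle : NorS D ≤ N := by
      intro x hx
      apply hNinf
      refine Subgroup.mem_inf.mpr ⟨?_, hx⟩
      apply Subgroup.mem_normalizer_fintype
      intro p hp
      obtain ⟨n, hn⟩ := hPord p hp
      have h1 : x * p * x⁻¹ ∈ K := hKnorm x hx p (hPK hp)
      have h2 : orderOf (x * p * x⁻¹) = 3 ^ n := by
        rw [← hn, ← MulAut.conj_apply]; exact (MulAut.conj x).orderOf_eq p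
      exact h50q6_mem_sylow P _ (hNP (hKN h1)) n h2
    have := Subgroup.card_le_of_le hle
    rw [hNDc, hN] at this
    omega
  -- Step C: `K ∩ P = D`
  have hKP : K ⊓ (P : Subgroup G) = D := by
    symm
    apply Subgroup.eq_of_le_of_card_ge (le_inf hDK hDP)
    rw [hD]
    have h1 : Nat.card (K ⊓ (P : Subgroup G) : Subgroup G) ∣ 9 :=
      hP9 ▸ Subgroup.card_dvd_of_le inf_le_right
    have h2 : Nat.card (K ⊓ (P : Subgroup G) : Subgroup G) ≠ 9 := by
      intro h
      apply hPK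
      have : K ⊓ (P : Subgroup G) = (P : Subgroup G) :=
        Subgroup.eq_of_le_of_card_ge inf_le_right (by rw [h, hP9])
      rw [← this]; exact inf_le_left
    have h1' : Nat.card (K ⊓ (P : Subgroup G) : Subgroup G) ∣ 3 ^ 2 := by
      rw [show (3 : ℕ) ^ 2 = 9 by norm_num]; exact h1
    obtain ⟨m, hm, hm'⟩ := (Nat.dvd_prime_pow Nat.prime_three).mp h1'
    rw [hm'] at h2 ⊢
    interval_cases m
    · norm_num
    · norm_num
    · exact absurd rfl h2
  have hD3 : ∀ c ∈ D, c ^ 3 = 1 := by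
    intro c hc
    have := Subgroup.orderOf_dvd_natCard D hc
    rw [hD] at this
    exact orderOf_dvd_iff_pow_eq_one.mp this
  -- Step D: no involution of `K` centralises `D`
  have hnoinv : ∀ k₀ ∈ K, k₀ ∈ CenS D → orderOf k₀ ≠ 2 := by
    intro k₀ hk₀K hk₀C ho
    have hk₀2 : k₀ ^ 2 = 1 := by rw [← ho]; exact pow_orderOf_eq_one k₀
    have hk₀N : k₀ ∈ NorS (P : Subgroup G) := hNP (hKN hk₀K)
    have hcent : k₀ ∈ CenS (P : Subgroup G) := by
      rw [Subgroup.mem_centralizer_iff]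
      intro p hp
      have hpP : p ∈ (P : Subgroup G) := hp
      have h1 : k₀ * p * k₀⁻¹ ∈ (P : Subgroup G) :=
        (Subgroup.mem_normalizer_iff.mp hk₀N p).mp hpP
      have hcP : k₀ * p * k₀⁻¹ * p⁻¹ ∈ (P : Subgroup G) :=
        (P : Subgroup G).mul_mem h1 ((P : Subgroup G).inv_mem hpP)
      have hpX : p ∈ NorS D := hND (hPN hpP)
      have h2 : p * k₀⁻¹ * p⁻¹ ∈ K := hKnorm p hpX k₀⁻¹ (K.inv_mem hk₀K)
      have hcK : k₀ * p * k₀⁻¹ * p⁻¹ ∈ K := by
        have : k₀ * p * k₀⁻¹ * p⁻¹ = k₀ * (p * k₀⁻¹ * p⁻¹) := by group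
        rw [this]; exact K.mul_mem hk₀K h2
      have hcD : k₀ * p * k₀⁻¹ * p⁻¹ ∈ D := by
        rw [← hKP]; exact Subgroup.mem_inf.mpr ⟨hcK, hcP⟩
      obtain ⟨c, hc⟩ : ∃ c, c = k₀ * p * k₀⁻¹ * p⁻¹ := ⟨_, rfl⟩
      rw [← hc] at hcD
      have hcomm : c * k₀ = k₀ * c := (Subgroup.mem_centralizer_iff.mp hk₀C) c hcD
      have e1 : k₀ * p * k₀⁻¹ = c * p := by rw [hc]; group
      have e2 : k₀ * (c * p) * k₀⁻¹ = c * (c * p) := by
        calc k₀ * (c * p) * k₀⁻¹ = (k₀ * c) * (p * k₀⁻¹) := by group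
          _ = (c * k₀) * (p * k₀⁻¹) := by rw [hcomm]
          _ = c * (k₀ * p * k₀⁻¹) := by group
          _ = c * (c * p) := by rw [e1]
      have e3 : k₀ * (k₀ * p * k₀⁻¹) * k₀⁻¹ = p := by
        have hkk : k₀ * k₀ = 1 := by rw [← sq]; exact hk₀2
        calc k₀ * (k₀ * p * k₀⁻¹) * k₀⁻¹ = (k₀ * k₀) * p * (k₀ * k₀)⁻¹ := by group
          _ = p := by rw [hkk]; group
      have e4 : c * c = 1 := by
        have h3 : c * (c * p) = p := by rw [← e2, ← e1, e3]
        have h' : c * c * p = 1 * p := by rw [mul_assoc, h3, one_mul]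
        exact mul_right_cancel h'
      have e5 : c = 1 := by
        have h3 := hD3 c hcD
        calc c = c ^ 3 * (c * c)⁻¹ := by group
          _ = 1 := by rw [h3, e4]; group
      rw [e5, one_mul] at e1
      calc p * k₀ = (k₀ * p * k₀⁻¹) * k₀ := by rw [e1]
        _ = k₀ * p := by group
    have hk₀P := hCP k₀ hcent
    have := Subgroup.orderOf_dvd_natCard _ hk₀P
    rw [ho, hP9] at this
    omega
  -- Step E: `K ∩ C(D) ≤ D`
  have hK0D : K ⊓ CenS D ≤ D := by
    have hodd : ¬ 2 ∣ Nat.card (K ⊓ CenS D : Subgroup G) := by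
      intro h2
      have : Fact (Nat.Prime 2) := ⟨Nat.prime_two⟩
      obtain ⟨g, hg⟩ := exists_prime_orderOf_dvd_card' (G := (K ⊓ CenS D : Subgroup G)) 2 h2
      have hg' : orderOf (g : G) = 2 := by rw [Subgroup.orderOf_coe]; exact hg
      exact hnoinv g (Subgroup.mem_inf.mp g.2).1 (Subgroup.mem_inf.mp g.2).2 hg'
    have hdvd36 : Nat.card (K ⊓ CenS D : Subgroup G) ∣ 36 :=
      hN ▸ Subgroup.card_dvd_of_le (inf_le_left.trans hKN)
    have hdvd9 : Nat.card (K ⊓ CenS D : Subgroup G) ∣ 9 := by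
      have hcop : Nat.Coprime (Nat.card (K ⊓ CenS D : Subgroup G)) (2 ^ 2) :=
        Nat.Coprime.pow_right 2 ((Nat.Prime.coprime_iff_not_dvd Nat.prime_two).mpr hodd).symm
      exact hcop.dvd_of_dvd_mul_right (by simpa using hdvd36)
    have hdvd9' : Nat.card (K ⊓ CenS D : Subgroup G) ∣ 3 ^ 2 := by
      rw [show (3 : ℕ) ^ 2 = 9 by norm_num]; exact hdvd9
    obtain ⟨m, hm, hm'⟩ := (Nat.dvd_prime_pow Nat.prime_three).mp hdvd9'
    have hp : IsPGroup 3 (K ⊓ CenS D : Subgroup G) := IsPGroup.of_card hm'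
    have hle : K ⊓ CenS D ≤ (P : Subgroup G) :=
      h50q6_le_sylow P _ ((inf_le_left.trans hKN).trans hNP) hp
    calc K ⊓ CenS D ≤ K ⊓ (P : Subgroup G) := le_inf inf_le_left hle
      _ = D := hKP
  -- `C(D)` has index 2 in `N(D)`
  have hCX : CenS D ≤ NorS D := Subgroup.centralizer_le_normalizer _
  have hidx : ((CenS D).subgroupOf (NorS D)).index = 2 := by
    have h5 : Nat.card ((CenS D).subgroupOf (NorS D)) * ((CenS D).subgroupOf (NorS D)).index
        = 144 := by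
      rw [Subgroup.card_mul_index, hNDc]
    have h6 : Nat.card ((CenS D).subgroupOf (NorS D)) = 72 := by
      rw [← hCD]; exact Nat.card_congr (Subgroup.subgroupOfEquivOfLe hCX).toEquiv
    rw [h6] at h5; omega
  have hrelX : (CenS D).relIndex (NorS D) = 2 := hidx
  -- Step F: `|K| = 6`
  have hK6 : Nat.card K = 6 := by
    have hKX : K ≤ NorS D := hKN.trans hND
    have hrel : (CenS D).relIndex K ≤ 2 := by
      have := Subgroup.relIndex_le_of_le_right (H := CenS D) hKX (by rw [hrelX]; norm_num)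
      rwa [hrelX] at this
    have hcard : Nat.card K = Nat.card (K ⊓ CenS D : Subgroup G) * (CenS D).relIndex K := by
      have h1 : Nat.card ((CenS D).subgroupOf K) * ((CenS D).subgroupOf K).index = Nat.card K :=
        Subgroup.card_mul_index _
      have h2 : Nat.card ((CenS D).subgroupOf K) = Nat.card (K ⊓ CenS D : Subgroup G) := by
        rw [← Subgroup.inf_subgroupOf_left]
        exact Nat.card_congr (Subgroup.subgroupOfEquivOfLe inf_le_left).toEquiv
      rw [← h1, h2]; rfl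
    have h3 : Nat.card (K ⊓ CenS D : Subgroup G) ≤ 3 := by
      rw [← hD]; exact Subgroup.card_le_of_le hK0D
    have h4 : Nat.card K ≤ 6 := by
      rw [hcard]
      calc _ ≤ 3 * 2 := Nat.mul_le_mul h3 hrel
        _ = 6 := by norm_num
    have h5 := Nat.le_of_dvd Nat.card_pos h6
    omega
  -- Step G: an involution `k` of `K`
  have : Fact (Nat.Prime 2) := ⟨Nat.prime_two⟩
  obtain ⟨k', hk'⟩ := exists_prime_orderOf_dvd_card' (G := K) 2 (by rw [hK6]; norm_num)
  have hk2 : orderOf (k' : G) = 2 := by rw [Subgroup.orderOf_coe]; exact hk'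
  obtain ⟨k, hk⟩ : ∃ k : G, k = (k' : G) := ⟨_, rfl⟩
  rw [← hk] at hk2
  have hkK : k ∈ K := by rw [hk]; exact k'.2
  -- Step H: `C(k) ≤ N(D)`
  have : Fintype G := Fintype.ofFinite G
  let KS : Finset G := Finset.univ.filter (· ∈ K)
  let DS : Finset G := Finset.univ.filter (· ∈ D)
  have hKS : KS.card = 6 := by rw [← hK6, Nat.card_eq_fintype_card, Fintype.card_subtype]
  have hDS : DS.card = 3 := by rw [← hD, Nat.card_eq_fintype_card, Fintype.card_subtype]
  have hsub : DS ⊆ KS := fun g hg =>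
    Finset.mem_filter.mpr ⟨Finset.mem_univ _, hDK (Finset.mem_filter.mp hg).2⟩
  have hT : (KS \ DS).card = 3 := by rw [Finset.card_sdiff_of_subset hsub, hKS, hDS]
  have hconj : ∀ x ∈ NorS D, x * k * x⁻¹ ∈ KS \ DS := by
    intro x hx
    rw [Finset.mem_sdiff]
    refine ⟨Finset.mem_filter.mpr ⟨Finset.mem_univ _, hKnorm x hx k hkK⟩, ?_⟩
    intro h
    have hmem : x * k * x⁻¹ ∈ D := (Finset.mem_filter.mp h).2
    have h1 := Subgroup.orderOf_dvd_natCard D hmem
    have h2 : orderOf (x * k * x⁻¹) = 2 := by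
      rw [← hk2, ← MulAut.conj_apply]; exact (MulAut.conj x).orderOf_eq k
    rw [h2, hD] at h1
    omega
  have hcount := h50q6_card_le (NorS D) k (KS \ DS) hconj
  rw [hNDc, hT] at hcount
  have heq : (NorS D ⊓ Cen k : Subgroup G) = Cen k := by
    apply Subgroup.eq_of_le_of_card_ge inf_le_right
    rw [h48 k hk2]; omega
  have hCkX : Cen k ≤ NorS D := by rw [← heq]; exact inf_le_left
  -- Step J: the square root of `k`
  obtain ⟨v, hv⟩ := hsq k hk2
  have hvC : v ∈ Cen k := by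
    rw [Subgroup.mem_centralizer_iff]
    intro h hh
    rw [Set.mem_singleton_iff] at hh
    rw [hh, ← hv]; group
  have hvX : v ∈ NorS D := hCkX hvC
  have hkC : k ∈ CenS D := by
    have h1 := Subgroup.sq_mem_of_index_two hidx ⟨v, hvX⟩
    rw [Subgroup.mem_subgroupOf] at h1
    simpa [hv] using h1
  exact hnoinv k hkK hkC hk2

/-- (L4c) -/
theorem false_of_72' (B : Base G)
    (hcard3 : ∀ R : Sylow 3 G, Nat.card (R : Subgroup G) = 9)
    (hcomm : ∀ R : Sylow 3 G, ∀ x ∈ (R : Subgroup G), ∀ y ∈ (R : Subgroup G), x * y = y * x)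
    (hcent : ∀ R : Sylow 3 G, ∀ g : G, g ∈ centralizer ((R : Subgroup G) : Set G) → g ∈ (R : Subgroup G))
    (R R' : Sylow 3 G) (hne : R ≠ R') (D : Subgroup G) (hD : Nat.card D = 3)
    (hDR : D ≤ (R : Subgroup G)) (hDR' : D ≤ (R' : Subgroup G))
    (hC : Nat.card (centralizer (D : Set G)) = 72) (hN : Nat.card (normalizer (D : Set G)) = 144) : False := by
  have h36 := l4c_card_inf hcard3 hcomm R R' hne D hDR hDR' hC hN
  have hRND : (R : Subgroup G) ≤ NorS D := by
    intro r hr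
    apply Subgroup.centralizer_le_normalizer
    rw [Subgroup.mem_centralizer_iff]
    intro d hd
    exact hcomm R d (hDR hd) r hr
  exact l4c_core B.h48 B.hsq R (hcard3 R) D hD hDR (NorS (R : Subgroup G) ⊓ NorS D) inf_le_left
    (le_inf Subgroup.le_normalizer hRND) le_rfl h36 (hcent R) inf_le_right hC hN

end Cfsg.Agent.Helper67.M11U
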