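import Mathlib
import Cfsg.Agent.S1017
import Cfsg.Agent.Lib.Helper17.Simple
import Cfsg.Agent.Lib.Helper17.SylowCount
import Cfsg.Agent.Lib.Helper85.O4320BASE2
import Cfsg.Agent.Lib.Helper54.O5760BDefs

/-!
# N96 server (helper54, S0980 case n_5 = 96): piece (P5) `fix_R`.
-/

set_option autoImplicit false

namespace Cfsg.Agent.Helper67.N96

open Cfsg MulAction Cfsg.Agent.Helper54.O5760B

universe u

section NoSimple

variable {G : Type u} [Group G] [Finite G]

open scoped Pointwise in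
/-- Sylow conjugacy inside a subgroup `H`: if `P` and `g • P` both lie in `H` then `h * g ∈ N(P)` for some
`h ∈ H`. -/
theorem h67_exists_mul_mem_normalizer {p : ℕ} [Fact p.Prime] (P : Sylow p G) (H : Subgroup G) (g : G)
    (h1 : (P : Subgroup G) ≤ H) (h2 : ((g • P : Sylow p G) : Subgroup G) ≤ H) :
    ∃ h ∈ H, h * g ∈ Subgroup.normalizer ((P : Subgroup G) : Set G) := by
  obtain ⟨h, hh⟩ := MulAction.exists_smul_eq H ((g • P).subtype h2) (P.subtype h1)
  simp_rw [Sylow.smul_subtype, Subgroup.smul_def, smul_smul] at hh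
  exact ⟨h, h.2, Sylow.smul_eq_iff_mem_normalizer.mp (Sylow.subtype_injective hh)⟩

/-- (P5) `R' := zpowers (g⁻¹ r g)` has order 5 and lies in `M`, as does `R = zpowers r ≤ N(R) ≤ M`. Both are
Sylow 5-subgroups of `↥M` (order 5, and `25 ∤ |G|`... or: any two subgroups of `M` that are Sylow in `G` are
conjugate in `M`, e.g. `Helper74.O5040.c240_exists_mul_mem_normalizer` / `Sylow.subtype` + `MulAction.exists_smul_eq`):
`R' = m R m⁻¹` with `m ∈ M`. As `R' = g⁻¹ R g`, `g m ∈ N(R) ≤ M`, so `g ∈ M`. -/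
theorem fix_R (R : Sylow 5 G) (hR : Nat.card (R : Subgroup G) = 5) (M : Subgroup G)
    (hNM : Subgroup.normalizer ((R : Subgroup G) : Set G) ≤ M)
    (r : G) (hr : r ∈ (R : Subgroup G)) (hr1 : r ≠ 1) (g : G) (hg : g⁻¹ * r * g ∈ M) : g ∈ M := by
  haveI : Fact (Nat.Prime 5) := ⟨by norm_num⟩
  have hz := (Cfsg.Agent.S1017.zpowers_eq_of_card_prime (R : Subgroup G) hR r hr hr1).1
  have hRM : (R : Subgroup G) ≤ M := le_trans Subgroup.le_normalizer hNM
  have h2 : ((g⁻¹ • R : Sylow 5 G) : Subgroup G) ≤ M := by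
    intro x hx
    rw [Cfsg.Agent.S1017.mem_smul_sylow_iff] at hx
    rw [inv_inv, ← hz] at hx
    obtain ⟨k, hk⟩ := Subgroup.mem_zpowers_iff.1 hx
    have hx' : x = (g⁻¹ * r * g) ^ k := by
      have h3 : (g⁻¹ * r * g) ^ k = g⁻¹ * r ^ k * g := by
        have := conj_zpow (a := g⁻¹) (b := r) (i := k)
        rw [inv_inv] at this
        exact this
      rw [h3, hk]; group
    rw [hx']
    exact zpow_mem hg k
  obtain ⟨h, hhM, hn⟩ := h67_exists_mul_mem_normalizer R M g⁻¹ hRM h2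
  have h3 : h * g⁻¹ ∈ M := hNM hn
  have h4 : g⁻¹ ∈ M := by
    have e : g⁻¹ = h⁻¹ * (h * g⁻¹) := by group
    rw [e]; exact mul_mem (inv_mem hhM) h3
  exact (inv_mem_iff (x := g)).1 h4

end NoSimple

end Cfsg.Agent.Helper67.N96
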