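import Mathlib
import Cfsg.Agent.Lib.Helper32.N9Defs

/-!
# helper32 lemma server "N9" (row S4409): piece I6 `sylow_transfer`
-/

set_option autoImplicit false

namespace Cfsg.Agent.Helper67.N9

open Cfsg Cfsg.Agent.Helper32.N9

universe u

/-- **I6.** Transfer to the Sylow 2-subgroup `X` of a normal self-centralizing subgroup `T ≤ X` of `S`
(`T' := T.subgroupOf X`); the noncyclic abelian group of order 8 of `h8` has a conjugate inside `X`
(Sylow). -/
theorem sylow_transfer {S : Type u} [Group S] [Finite S] (X : Sylow 2 S)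
    (h8 : ∃ A : Subgroup S, IsMulCommutative ↥A ∧ ¬ IsCyclic ↥A ∧ Nat.card ↥A = 8)
    (T : Subgroup S) (hTn : T.Normal) (hTX : T ≤ (X : Subgroup S))
    (hC : Subgroup.centralizer (T : Set S) ≤ T) :
    ¬ NA8 (⊤ : Subgroup ↥(X : Subgroup S)) ∧
      ∃ T' : Subgroup ↥(X : Subgroup S), T'.Normal ∧
        Subgroup.centralizer (T' : Set ↥(X : Subgroup S)) ≤ T' ∧
        (IsV4 T → IsV4 T') ∧ (IsQ8 T → IsQ8 T') ∧
        ((∀ a b : ↥(X : Subgroup S), a * b = b * a) → (X : Subgroup S) ≤ T) := by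
  constructor
  · obtain ⟨A, hAc, hAnc, hA8⟩ := h8
    have hAp : IsPGroup 2 A := IsPGroup.of_card (n := 3) (by rw [hA8]; norm_num)
    obtain ⟨Q, hQ⟩ := hAp.exists_le_sylow
    obtain ⟨g, hg⟩ := MulAction.exists_smul_eq S Q X
    have hA'X : A.map (MulAut.conj g).toMonoidHom ≤ (X : Subgroup S) := by
      rintro _ ⟨a, ha, rfl⟩
      rw [← hg, Sylow.smul_def, Sylow.pointwise_smul_def]
      exact Subgroup.smul_mem_pointwise_smul a (MulAut.conj g) Q (hQ ha)
    let e1 : ↥A ≃* ↥(A.map (MulAut.conj g).toMonoidHom) :=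
      Subgroup.equivMapOfInjective A (MulAut.conj g).toMonoidHom (MulAut.conj g).injective
    let e2 : ↥((A.map (MulAut.conj g).toMonoidHom).subgroupOf (X : Subgroup S)) ≃*
        ↥(A.map (MulAut.conj g).toMonoidHom) := Subgroup.subgroupOfEquivOfLe hA'X
    let e : ↥((A.map (MulAut.conj g).toMonoidHom).subgroupOf (X : Subgroup S)) ≃* ↥A :=
      e2.trans e1.symm
    intro hN
    refine hN ⟨(A.map (MulAut.conj g).toMonoidHom).subgroupOf (X : Subgroup S), le_top, ?_, ?_, ?_⟩
    · refine ⟨⟨fun a b => e.injective ?_⟩⟩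
      rw [map_mul, map_mul]
      exact hAc.is_comm.comm (e a) (e b)
    · intro hcyc
      exact hAnc (isCyclic_of_surjective e e.surjective)
    · rw [Nat.card_congr e.toEquiv, hA8]
  · refine ⟨T.subgroupOf (X : Subgroup S), hTn.subgroupOf _, ?_, ?_, ?_, ?_⟩
    · intro x hx
      show (x : S) ∈ T
      apply hC
      rw [Subgroup.mem_centralizer_iff]
      intro t ht
      have := Subgroup.mem_centralizer_iff.mp hx ⟨t, hTX ht⟩ (show (⟨t, hTX ht⟩ : ↥(X : Subgroup S)) ∈
        T.subgroupOf (X : Subgroup S) from ht)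
      exact congrArg Subtype.val this
    · intro h
      refine ⟨?_, ?_⟩
      · rw [Nat.card_congr (Subgroup.subgroupOfEquivOfLe hTX).toEquiv]; exact h.1
      · intro t ht
        apply Subtype.ext
        have := h.2 (t : S) ht
        simpa using this
    · rintro ⟨e⟩
      exact ⟨(Subgroup.subgroupOfEquivOfLe hTX).trans e⟩
    · intro hab x hx
      apply hC
      rw [Subgroup.mem_centralizer_iff]
      intro t ht
      have := hab ⟨t, hTX ht⟩ ⟨x, hx⟩
      exact congrArg Subtype.val this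

end Cfsg.Agent.Helper67.N9
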