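import Mathlib
import Cfsg.Agent.Lib.Helper32.N9Defs

/-!
# helper32 lemma server "N9" (row S4409): piece IIIb `concl_transfer`
-/

set_option autoImplicit false

namespace Cfsg.Agent.Helper67.N9

open Cfsg Cfsg.Agent.Helper32.N9

universe u

/-- **IIIb.** Transfer of the type-level conclusion for `↥P` to the subgroup-level statement
(third alternative: `X₀ := X₀'.map P.subtype`, `k := 0`). -/
theorem concl_transfer {S : Type u} [Group S] (P : Subgroup S) (h : Concl ↥P) :
    IsMulCommutative ↥P ∨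
      (Cfsg.IsExtraspecial 2 ↥P ∧ 32 ≤ Nat.card ↥P) ∨
      (∃ (X₀ : Subgroup S) (k : ℕ), X₀ ≤ P ∧ X₀.relIndex P = 2 ∧
        Nonempty (↥X₀ ≃* QuaternionGroup (2 ^ (k + 1))) ∧
        X₀ ⊔ (P ⊓ Subgroup.centralizer (X₀ : Set S)) = P) ∨
      (Cfsg.IsSpecial 2 ↥P ∧ Nat.card ↥(Subgroup.center ↥P) = 4) := by
  rcases h with h | h | ⟨X₀', hidx, ⟨e⟩, hsup⟩ | h
  · exact Or.inl h
  · exact Or.inr (Or.inl h)
  · refine Or.inr (Or.inr (Or.inl ⟨X₀'.map P.subtype, 0, ?_, ?_, ?_, ?_⟩))
    · exact Subgroup.map_subtype_le X₀'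
    · rw [← hidx]
      show ((X₀'.map P.subtype).comap P.subtype).index = _
      rw [Subgroup.comap_map_eq_self_of_injective (Subgroup.subtype_injective P) X₀']
    · have h2 : (2 : ℕ) ^ (0 + 1) = 2 := by norm_num
      rw [h2]
      exact ⟨(Subgroup.equivMapOfInjective X₀' P.subtype (Subgroup.subtype_injective P)).symm.trans e⟩
    · apply le_antisymm
      · exact sup_le (Subgroup.map_subtype_le X₀') inf_le_left
      · intro x hx
        have h1 : (⟨x, hx⟩ : ↥P) ∈ X₀' ⊔ Subgroup.centralizer (X₀' : Set ↥P) := by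
          rw [hsup]; trivial
        have h2 := Subgroup.mem_map_of_mem P.subtype h1
        rw [Subgroup.map_sup] at h2
        have hle : (Subgroup.centralizer (X₀' : Set ↥P)).map P.subtype ≤
            P ⊓ Subgroup.centralizer ((X₀'.map P.subtype : Subgroup S) : Set S) := ?_
        · exact (sup_le_sup_left hle _) h2
        rintro _ ⟨c, hc, rfl⟩
        refine ⟨c.2, ?_⟩
        show P.subtype c ∈ Subgroup.centralizer ((X₀'.map P.subtype : Subgroup S) : Set S)
        rw [Subgroup.mem_centralizer_iff]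
        rintro _ ⟨t, ht, rfl⟩
        have := Subgroup.mem_centralizer_iff.mp hc t ht
        exact congrArg Subtype.val this
  · exact Or.inr (Or.inr (Or.inr h))

end Cfsg.Agent.Helper67.N9
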