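import Mathlib
import Cfsg.Agent.Lib.Helper32.N9Defs

/-!
# helper32 lemma server "N9" (row S4409): piece T1 `trivial_of_trivial_on_comm`
-/

set_option autoImplicit false

namespace Cfsg.Agent.Helper67.N9

open Cfsg Cfsg.Agent.Helper32.N9

universe u

/-- **T1.** If `φ` (odd order) is trivial on a subgroup `Y` containing all `x⁻¹ φ x`, then `φ = 1`
on the 2-group `X`. -/
theorem trivial_of_trivial_on_comm {X : Type u} [Group X] [Finite X] (hX : IsPGroup 2 X)
    (φ : MulAut X) (hodd : Odd (orderOf φ)) (Y : Subgroup X) (hY : ∀ x : X, x⁻¹ * φ x ∈ Y)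
    (htriv : ∀ y ∈ Y, φ y = y) : ∀ x : X, φ x = x := by
  intro x
  set y : X := x⁻¹ * φ x with hy
  have hyY : y ∈ Y := hY x
  have hφx : φ x = x * y := by rw [hy]; group
  have hpow : ∀ k : ℕ, (φ ^ k) x = x * y ^ k := by
    intro k
    induction k with
    | zero => simp
    | succ k ih =>
      rw [pow_succ', MulAut.mul_apply, ih, map_mul, map_pow, htriv y hyY, hφx, pow_succ']
      group
  have h1 : y ^ orderOf φ = 1 := by
    have := hpow (orderOf φ)
    rw [pow_orderOf_eq_one, MulAut.one_apply] at this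
    exact (mul_eq_left (a := x)).mp this.symm
  obtain ⟨m, hm⟩ := hX y
  have hdvd1 : orderOf y ∣ orderOf φ := orderOf_dvd_of_pow_eq_one h1
  have hdvd2 : orderOf y ∣ 2 ^ m := orderOf_dvd_of_pow_eq_one hm
  have hcop : Nat.Coprime (orderOf φ) (2 ^ m) :=
    Nat.Coprime.pow_right m (Nat.Coprime.symm (Nat.coprime_two_left.mpr hodd))
  have : orderOf y = 1 := Nat.eq_one_of_dvd_coprimes hcop hdvd1 hdvd2
  have hy1 : y = 1 := orderOf_eq_one_iff.mp this
  rw [hφx, hy1, mul_one]

end Cfsg.Agent.Helper67.N9
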