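import Mathlib
import Cfsg.Prelude.Def_Blocks
import Cfsg.Agent.Lib.Helper55.O2520Defs
import Cfsg.Agent.Lib.Helper87.O2520C7
import Cfsg.Agent.Lib.Helper17.Simple
import Cfsg.Agent.Lib.Helper17.SylowLink

/-!
# O2520 (S3C) sub-lemma: centralizer orders of elements of a Sylow 3-subgroup (helper67)

`card_centralizer_of_mem_sylow3`: for `y ≠ 1` in an abelian Sylow 3-subgroup `P` of a simple group of
order 2520 (with `n_7 = 120`, `n_5 = 126`): if `k = |C_{N(P)}(y)|` then `|C(y)| = k * m` with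
`m = n_3(C(y))`, `m ∣ 8`, `m ≡ 1 mod 3`, i.e. `m ∈ {1, 4}`.
-/

set_option autoImplicit false

namespace Cfsg.Agent.Helper67.O2520

open Cfsg Cfsg.Agent.Helper55.O2520
open scoped Classical

universe u

section grp
variable {G : Type u} [Group G] [Finite G] [IsSimpleGroup G] (hG : Nat.card G = 2520)
include hG

/-- An element of order 3 commutes with no element of order 5 (`|N(P5)| = 20`). -/
theorem h67_no_15 (h5 : Nat.card (Sylow 5 G) = 126) (y z : G) (hy : orderOf y = 3)
    (hz : orderOf z = 5) (hzy : Commute z y) : False := by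
  haveI : Fact (Nat.Prime 5) := ⟨by norm_num⟩
  have hG' : Nat.card G = 5 ^ 1 * 504 := by rw [hG]; norm_num
  have hzp : IsPGroup 5 (Subgroup.zpowers z) := by
    apply IsPGroup.of_card (n := 1)
    rw [Nat.card_zpowers, hz]; norm_num
  obtain ⟨Q, hQ⟩ := hzp.exists_le_sylow
  have hQ5 : Nat.card (Q : Subgroup G) = 5 := by
    have := Cfsg.Agent.Helper17.sylow_card_eq Q hG' (by norm_num)
    simpa using this
  have hQz : Subgroup.zpowers z = (Q : Subgroup G) :=
    Subgroup.eq_of_le_of_card_ge hQ (by rw [hQ5, Nat.card_zpowers, hz])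
  have hyN : y ∈ Subgroup.normalizer ((Q : Subgroup G) : Set G) := by
    apply Subgroup.centralizer_le_normalizer
    rw [Subgroup.mem_centralizer_iff]
    intro h hh
    rw [SetLike.mem_coe, ← hQz] at hh
    obtain ⟨k, rfl⟩ := Subgroup.mem_zpowers_iff.1 hh
    exact (hzy.zpow_left k).eq
  have hN : Nat.card (Subgroup.normalizer ((Q : Subgroup G) : Set G)) = 20 := by
    rw [Cfsg.Agent.Helper87.SV.h87_card_normalizer Q, hG, h5]
  have hdvd := orderOf_dvd_natCard (⟨y, hyN⟩ : Subgroup.normalizer ((Q : Subgroup G) : Set G))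
  rw [hN, Subgroup.orderOf_mk, hy] at hdvd
  omega

/-- An element of order 3 commutes with no element of order 7 (`C(P7) = P7`). -/
theorem h67_no_21 (h7 : Nat.card (Sylow 7 G) = 120) (y z : G) (hy : orderOf y = 3)
    (hz : orderOf z = 7) (hzy : Commute z y) : False := by
  haveI : Fact (Nat.Prime 7) := ⟨by norm_num⟩
  have hG' : Nat.card G = 7 ^ 1 * 360 := by rw [hG]; norm_num
  have hzp : IsPGroup 7 (Subgroup.zpowers z) := by
    apply IsPGroup.of_card (n := 1)
    rw [Nat.card_zpowers, hz]; norm_num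
  obtain ⟨Q, hQ⟩ := hzp.exists_le_sylow
  have hQ7 : Nat.card (Q : Subgroup G) = 7 := by
    have := Cfsg.Agent.Helper17.sylow_card_eq Q hG' (by norm_num)
    simpa using this
  have hQz : Subgroup.zpowers z = (Q : Subgroup G) :=
    Subgroup.eq_of_le_of_card_ge hQ (by rw [hQ7, Nat.card_zpowers, hz])
  have hyC : y ∈ Subgroup.centralizer ((Q : Subgroup G) : Set G) := by
    rw [Subgroup.mem_centralizer_iff]
    intro h hh
    rw [SetLike.mem_coe, ← hQz] at hh
    obtain ⟨k, rfl⟩ := Subgroup.mem_zpowers_iff.1 hh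
    exact (hzy.zpow_left k).eq
  rw [(Cfsg.Agent.Helper87.O2520.sylow7_local hG h7 Q).2] at hyC
  have hdvd := orderOf_dvd_natCard (⟨y, hyC⟩ : (Q : Subgroup G))
  rw [hQ7, Subgroup.orderOf_mk, hy] at hdvd
  omega

/-- Centralizer order of `y ≠ 1` in an abelian Sylow 3-subgroup `P`: `|C(y)| = k * m` where
`k = |C_{N(P)}(y)|`, and `m = 1` or `m = 4`. -/
theorem card_centralizer_of_mem_sylow3 (h7 : Nat.card (Sylow 7 G) = 120)
    (h5 : Nat.card (Sylow 5 G) = 126) (P : Sylow 3 G) (y : G) (hy : orderOf y = 3)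
    (hPy : ∀ a ∈ (P : Subgroup G), a * y = y * a) :
    Nat.card (Subgroup.centralizer ({y} : Set G)) =
        Nat.card ↥(Subgroup.normalizer ((P : Subgroup G) : Set G) ⊓
          Subgroup.centralizer ({y} : Set G)) ∨
      Nat.card (Subgroup.centralizer ({y} : Set G)) =
        Nat.card ↥(Subgroup.normalizer ((P : Subgroup G) : Set G) ⊓
          Subgroup.centralizer ({y} : Set G)) * 4 := by
  haveI : Fact (Nat.Prime 3) := ⟨by norm_num⟩
  haveI : Fact (Nat.Prime 5) := ⟨by norm_num⟩
  haveI : Fact (Nat.Prime 7) := ⟨by norm_num⟩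
  have hG' : Nat.card G = 3 ^ 2 * 280 := by rw [hG]; norm_num
  have hP9 : Nat.card (P : Subgroup G) = 9 := by
    have := Cfsg.Agent.Helper17.sylow_card_eq P hG' (by norm_num)
    simpa using this
  set C := Subgroup.centralizer ({y} : Set G) with hCdef
  have hPC : (P : Subgroup G) ≤ C := fun a ha =>
    Subgroup.mem_centralizer_singleton_iff.2 (hPy a ha)
  set k := Nat.card ↥(Subgroup.normalizer ((P : Subgroup G) : Set G) ⊓ C) with hk
  have hkN := Cfsg.Agent.Helper17.card_normalizer_subtype C P hPC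
  have hidx : Nat.card (Sylow 3 ↥C) = (Subgroup.normalizer
      (((P.subtype hPC : Sylow 3 ↥C) : Subgroup ↥C) : Set ↥C)).index :=
    (P.subtype hPC).card_eq_index_normalizer
  have hmul := (Subgroup.normalizer (((P.subtype hPC : Sylow 3 ↥C) : Subgroup ↥C) : Set ↥C)).card_mul_index
  rw [← hidx, hkN, ← hk] at hmul
  have hmod := card_sylow_modEq_one 3 ↥C
  set m := Nat.card (Sylow 3 ↥C) with hm
  -- 9 ∣ k
  have h9k : 9 ∣ k := by
    rw [← hP9]
    apply Subgroup.card_dvd_of_le
    exact le_inf Subgroup.le_normalizer hPC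
  have hCG : Nat.card ↥C ∣ 2520 := by rw [← hG]; exact Subgroup.card_subgroup_dvd_card C
  have h5C : ¬ 5 ∣ Nat.card ↥C := by
    intro h
    obtain ⟨z, hz⟩ := exists_prime_orderOf_dvd_card' (G := ↥C) 5 h
    have hz' : orderOf (z : G) = 5 := by rw [Subgroup.orderOf_coe]; exact hz
    exact h67_no_15 hG h5 y z hy hz' (Subgroup.mem_centralizer_singleton_iff.1 z.2)
  have h7C : ¬ 7 ∣ Nat.card ↥C := by
    intro h
    obtain ⟨z, hz⟩ := exists_prime_orderOf_dvd_card' (G := ↥C) 7 h
    have hz' : orderOf (z : G) = 7 := by rw [Subgroup.orderOf_coe]; exact hz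
    exact h67_no_21 hG h7 y z hy hz' (Subgroup.mem_centralizer_singleton_iff.1 z.2)
  -- m ∣ 8
  obtain ⟨k', hk'⟩ := h9k
  have hm280 : m ∣ 280 := by
    rw [← hmul, hk'] at hCG
    have : 9 * m ∣ 9 * 280 := by
      refine dvd_trans ?_ hCG
      exact ⟨k', by ring⟩
    exact (Nat.mul_dvd_mul_iff_left (by norm_num)).1 this
  have hm5 : ¬ 5 ∣ m := fun h => h5C (by rw [← hmul]; exact dvd_mul_of_dvd_right h _)
  have hm7 : ¬ 7 ∣ m := fun h => h7C (by rw [← hmul]; exact dvd_mul_of_dvd_right h _)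
  have hm8 : m ∣ 8 := by
    have hcop : Nat.Coprime m 35 := by
      have h35 : (35 : ℕ) = 5 * 7 := by norm_num
      rw [h35]
      apply Nat.Coprime.mul_right
      · exact (Nat.Coprime.symm ((Nat.Prime.coprime_iff_not_dvd (by norm_num)).2 hm5))
      · exact (Nat.Coprime.symm ((Nat.Prime.coprime_iff_not_dvd (by norm_num)).2 hm7))
    have : m ∣ 8 * 35 := by norm_num; exact hm280
    exact hcop.dvd_of_dvd_mul_right this
  have hmle : m ≤ 8 := Nat.le_of_dvd (by norm_num) hm8
  have hmod' : m % 3 = 1 := hmod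
  have hm14 : m = 1 ∨ m = 4 := by
    interval_cases m <;> omega
  rcases hm14 with h | h
  · left; rw [← hmul, h, mul_one]
  · right; rw [← hmul, h]

end grp

/-- (K6) of helper86's S3C sub-server, VERBATIM. -/
theorem card_centralizer_cases {G : Type u} [Group G] [Finite G] [IsSimpleGroup G] (hG : Nat.card G = 2520)
    (h7 : Nat.card (Sylow 7 G) = 120) (h5 : Nat.card (Sylow 5 G) = 126) (P : Sylow 3 G)
    (hab : ∀ a ∈ (P : Subgroup G), ∀ b ∈ (P : Subgroup G), a * b = b * a)
    (y : G) (hyP : y ∈ (P : Subgroup G)) (hy : orderOf y = 3)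
    (hNy : ∀ n ∈ Subgroup.normalizer ((P : Subgroup G) : Set G), n * y = y * n → n ∈ (P : Subgroup G)) :
    Nat.card (Subgroup.centralizer ({y} : Set G)) = 9 ∨
      Nat.card (Subgroup.centralizer ({y} : Set G)) = 36 := by
  haveI : Fact (Nat.Prime 3) := ⟨by norm_num⟩
  have hG' : Nat.card G = 3 ^ 2 * 280 := by rw [hG]; norm_num
  have hP9 : Nat.card (P : Subgroup G) = 9 := by
    have := Cfsg.Agent.Helper17.sylow_card_eq P hG' (by norm_num)
    simpa using this
  have hPy : ∀ a ∈ (P : Subgroup G), a * y = y * a := fun a ha => hab a ha y hyP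
  have hinf : Subgroup.normalizer ((P : Subgroup G) : Set G) ⊓
      Subgroup.centralizer ({y} : Set G) = (P : Subgroup G) := by
    apply le_antisymm
    · intro n hn
      exact hNy n hn.1 (Subgroup.mem_centralizer_singleton_iff.1 hn.2)
    · exact le_inf Subgroup.le_normalizer
        (fun a ha => Subgroup.mem_centralizer_singleton_iff.2 (hPy a ha))
  have h := card_centralizer_of_mem_sylow3 hG h7 h5 P y hy hPy
  rw [hinf, hP9] at h
  exact h

end Cfsg.Agent.Helper67.O2520
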