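import Mathlib
import Cfsg.Prelude.Def_Blocks
import Cfsg.Agent.Lib.Helper55.O2520Defs
import Cfsg.Agent.Lib.Helper67.O2520K6

/-!
# O2520 (S3C) piece (Q6a) of helper20's sub-server: `s3c_centralizer_dvd` (helper67)
-/

set_option autoImplicit false

namespace Cfsg.Agent.Helper67.O2520

open Cfsg
open Cfsg.Agent.Helper55.O2520

universe u

theorem s3c_centralizer_dvd {G : Type u} [Group G] [Finite G] [IsSimpleGroup G]
    (hG : Nat.card G = 2520) (h7 : Nat.card (Sylow 7 G) = 120) (h5 : Nat.card (Sylow 5 G) = 126)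
    (y : G) (hy : orderOf y = 3) : Nat.card (Subgroup.centralizer ({y} : Set G)) ∣ 72 := by
  haveI : Fact (Nat.Prime 5) := ⟨by norm_num⟩
  haveI : Fact (Nat.Prime 7) := ⟨by norm_num⟩
  set C := Subgroup.centralizer ({y} : Set G) with hCdef
  have hCG : Nat.card ↥C ∣ 2520 := by rw [← hG]; exact Subgroup.card_subgroup_dvd_card C
  have h5C : ¬ 5 ∣ Nat.card ↥C := by
    intro h
    obtain ⟨z, hz⟩ := exists_prime_orderOf_dvd_card' (G := ↥C) 5 h
    have hz' : orderOf (z : G) = 5 := by rw [Subgroup.orderOf_coe]; exact hz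
    exact h67_no_15 hG h5 y z hy hz' (Subgroup.mem_centralizer_singleton_iff.1 z.2)
  have h7C : ¬ 7 ∣ Nat.card ↥C := by
    intro h
    obtain ⟨z, hz⟩ := exists_prime_orderOf_dvd_card' (G := ↥C) 7 h
    have hz' : orderOf (z : G) = 7 := by rw [Subgroup.orderOf_coe]; exact hz
    exact h67_no_21 hG h7 y z hy hz' (Subgroup.mem_centralizer_singleton_iff.1 z.2)
  have hcop : Nat.Coprime (Nat.card ↥C) 35 := by
    have h35 : (35 : ℕ) = 5 * 7 := by norm_num
    rw [h35]
    apply Nat.Coprime.mul_right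
    · exact (Nat.Coprime.symm ((Nat.Prime.coprime_iff_not_dvd (by norm_num)).2 h5C))
    · exact (Nat.Coprime.symm ((Nat.Prime.coprime_iff_not_dvd (by norm_num)).2 h7C))
  have : Nat.card ↥C ∣ 72 * 35 := by norm_num; exact hCG
  exact hcop.dvd_of_dvd_mul_right this

end Cfsg.Agent.Helper67.O2520
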