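import Mathlib

set_option autoImplicit false

namespace Cfsg.Agent.Helper67

namespace PG

open Subgroup

variable {K : Type*} [Group K]

/-- comparability in the power graph (reflexive) -/
def R (x y : K) : Prop := x ∈ zpowers y ∨ y ∈ zpowers x

/-- closed twins -/
def Tw (x y : K) : Prop := ∀ z, R x z ↔ R y z

/-- dominating vertices -/
def Dom (x : K) : Prop := ∀ z, R x z

theorem R_comm (x y : K) : R x y ↔ R y x := by unfold R; tauto

theorem R_self (x : K) : R x x := Or.inl (mem_zpowers x)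

theorem R_one (x : K) : R 1 x := Or.inl (one_mem _)

theorem Tw.refl (x : K) : Tw x x := fun _ => Iff.rfl

theorem Tw.symm {x y : K} (h : Tw x y) : Tw y x := fun z => (h z).symm

theorem Tw.trans {x y z : K} (h1 : Tw x y) (h2 : Tw y z) : Tw x z := fun w => (h1 w).trans (h2 w)

theorem Tw.R {x y : K} (h : Tw x y) : R x y := (R_comm y x).1 ((h x).1 (R_self x))

theorem Tw_of_zpowers_eq {x y : K} (h : zpowers x = zpowers y) : Tw x y := by
  intro z
  unfold PG.R
  have hx : x ∈ zpowers y := h ▸ mem_zpowers x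
  have hy : y ∈ zpowers x := h.symm ▸ mem_zpowers y
  constructor
  · rintro (h1 | h1)
    · exact Or.inl ((zpowers_le.2 h1) hy)
    · exact Or.inr (by rw [← h]; exact h1)
  · rintro (h1 | h1)
    · exact Or.inl ((zpowers_le.2 h1) hx)
    · exact Or.inr (by rw [h]; exact h1)

theorem dom_of_tw_one {y : K} (h : Tw 1 y) : Dom y := fun z => (h z).1 (R_one z)

theorem mem_zpowers_trans {a b c : K} (h1 : a ∈ zpowers b) (h2 : b ∈ zpowers c) :
    a ∈ zpowers c :=
  (zpowers_le.2 h2) h1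

section Cyclic

variable [Finite K]

/-- existence of elements of each order dividing the order of `y` -/
theorem exists_mem_zpowers_orderOf_eq (y : K) {d : ℕ} (hd : d ∣ orderOf y) :
    ∃ u ∈ zpowers y, orderOf u = d := by
  have hn : 0 < orderOf y := orderOf_pos y
  have hd0 : d ≠ 0 := by
    rintro rfl
    rw [zero_dvd_iff] at hd
    omega
  refine ⟨y ^ (orderOf y / d), Subgroup.pow_mem _ (mem_zpowers y) _, ?_⟩
  have h1 : orderOf y / d ≠ 0 := by
    intro h0
    have := Nat.div_mul_cancel hd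
    rw [h0, zero_mul] at this
    omega
  rw [orderOf_pow_of_dvd h1 (Nat.div_dvd_of_dvd hd)]
  exact Nat.div_div_self hd hn.ne'

/-- in a cyclic group, divisibility of orders gives membership -/
theorem mem_zpowers_of_orderOf_dvd {y u v : K} (hu : u ∈ zpowers y) (hv : v ∈ zpowers y)
    (h : orderOf u ∣ orderOf v) : u ∈ zpowers v := by
  set n := orderOf y with hn
  have hn0 : 0 < n := orderOf_pos y
  obtain ⟨i, rfl⟩ := (mem_powers_iff_mem_zpowers.2 hu)
  obtain ⟨j, rfl⟩ := (mem_powers_iff_mem_zpowers.2 hv)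
  simp only at h ⊢
  rw [orderOf_pow, orderOf_pow, ← hn] at h
  -- gcd n j ∣ gcd n i
  have hgi : Nat.gcd n i ∣ n := Nat.gcd_dvd_left n i
  have hgj : Nat.gcd n j ∣ n := Nat.gcd_dvd_left n j
  have hgi0 : 0 < Nat.gcd n i := Nat.gcd_pos_of_pos_left _ hn0
  have hgj0 : 0 < Nat.gcd n j := Nat.gcd_pos_of_pos_left _ hn0
  have hdvd : Nat.gcd n j ∣ Nat.gcd n i := by
    obtain ⟨c, hc⟩ := h
    have e1 : n = Nat.gcd n i * (n / Nat.gcd n i) := (Nat.mul_div_cancel' hgi).symm
    have e2 : n = Nat.gcd n j * (n / Nat.gcd n j) := (Nat.mul_div_cancel' hgj).symm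
    have hpos : 0 < n / Nat.gcd n i := Nat.div_pos (Nat.le_of_dvd hn0 hgi) hgi0
    refine ⟨c, ?_⟩
    have : Nat.gcd n i * (n / Nat.gcd n i) = Nat.gcd n j * c * (n / Nat.gcd n i) := by
      rw [← e1]
      conv_lhs => rw [e2, hc]
      ring
    exact Nat.eq_of_mul_eq_mul_right hpos this
  have hdi : Nat.gcd n j ∣ i := dvd_trans hdvd (Nat.gcd_dvd_right n i)
  obtain ⟨c, hc⟩ := hdi
  have hbez := Nat.gcd_eq_gcd_ab n j
  have hyb : y ^ (Nat.gcd n j) = (y ^ j) ^ (Nat.gcdB n j) := by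
    rw [← zpow_natCast y (Nat.gcd n j), hbez, zpow_add, zpow_mul, zpow_natCast, hn,
      pow_orderOf_eq_one, one_zpow, one_mul, zpow_mul, zpow_natCast]
  rw [hc, pow_mul, hyb]
  exact Subgroup.pow_mem _ (Subgroup.zpow_mem _ (mem_zpowers _) _) _

theorem R_iff_of_mem_zpowers {y u v : K} (hu : u ∈ zpowers y) (hv : v ∈ zpowers y) :
    R u v ↔ (orderOf u ∣ orderOf v ∨ orderOf v ∣ orderOf u) := by
  unfold PG.R
  constructor
  · rintro (h | h)
    · exact Or.inl (orderOf_dvd_of_mem_zpowers h)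
    · exact Or.inr (orderOf_dvd_of_mem_zpowers h)
  · rintro (h | h)
    · exact Or.inl (mem_zpowers_of_orderOf_dvd hu hv h)
    · exact Or.inr (mem_zpowers_of_orderOf_dvd hv hu h)

theorem mem_zpowers_of_orderOf_eq {u v : K} (hu : u ∈ zpowers v) (h : orderOf u = orderOf v) :
    v ∈ zpowers u :=
  mem_zpowers_of_orderOf_dvd (mem_zpowers v) hu (by rw [h])

theorem exists_prime_ne_of_not_isPrimePow {n r : ℕ} (hn : ¬ IsPrimePow n) (hr : r.Prime)
    (hrn : r ∣ n) : ∃ l : ℕ, l.Prime ∧ l ∣ n ∧ l ≠ r := by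
  by_contra hcon
  push Not at hcon
  apply hn
  rw [isPrimePow_iff_unique_prime_dvd]
  exact ⟨r, ⟨hr, hrn⟩, fun l hl => hcon l hl.1 hl.2⟩

/-- the central cyclic lemma -/
theorem isPrimePow_of_forall_R {x y : K} (hx : x ∈ zpowers y) (hx1 : x ≠ 1)
    (hxy : y ∉ zpowers x) (h : ∀ z ∈ zpowers y, R x z) : IsPrimePow (orderOf y) := by
  by_contra hnp
  set n := orderOf y with hn
  set m := orderOf x with hm
  have hmn : m ∣ n := orderOf_dvd_of_mem_zpowers hx
  have hm1 : m ≠ 1 := by rw [hm, Ne, orderOf_eq_one_iff]; exact hx1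
  have hm0 : m ≠ 0 := (orderOf_pos x).ne'
  have hn0 : n ≠ 0 := (orderOf_pos y).ne'
  have hmnne : m ≠ n := fun he => hxy (mem_zpowers_of_orderOf_eq hx he)
  by_cases hmp : IsPrimePow m
  · rw [isPrimePow_nat_iff] at hmp
    obtain ⟨r, a, hr, ha, hra⟩ := hmp
    have hrn : r ∣ n := dvd_trans (dvd_trans (dvd_pow_self r ha.ne') (dvd_of_eq hra)) hmn
    obtain ⟨l, hl, hln, hlr⟩ := exists_prime_ne_of_not_isPrimePow hnp hr hrn
    obtain ⟨z, hz, hzo⟩ := exists_mem_zpowers_orderOf_eq y hln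
    rcases (R_iff_of_mem_zpowers hx hz).1 (h z hz) with h1 | h1
    · rw [← hm, hzo, ← hra] at h1
      have : r ∣ l := dvd_trans (dvd_pow_self r ha.ne') h1
      exact hlr ((Nat.prime_dvd_prime_iff_eq hr hl).1 this).symm
    · rw [← hm, hzo, ← hra] at h1
      exact hlr ((Nat.prime_dvd_prime_iff_eq hl hr).1 (hl.dvd_of_dvd_pow h1))
  · obtain ⟨k, hk⟩ := hmn
    have hk1 : k ≠ 1 := by
      intro h1; rw [h1, mul_one] at hk; exact hmnne hk.symm
    obtain ⟨r, hr, hrk⟩ := Nat.exists_prime_and_dvd hk1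
    set c := m.factorization r + 1 with hc
    have hrc : r ^ c ∣ n := by
      rw [hk, hc, pow_succ]
      exact mul_dvd_mul (Nat.ordProj_dvd m r) hrk
    obtain ⟨z, hz, hzo⟩ := exists_mem_zpowers_orderOf_eq y hrc
    rcases (R_iff_of_mem_zpowers hx hz).1 (h z hz) with h1 | h1
    · rw [← hm, hzo] at h1
      obtain ⟨j, -, hj⟩ := (Nat.dvd_prime_pow hr).1 h1
      apply hmp
      rw [isPrimePow_nat_iff]
      refine ⟨r, j, hr, ?_, hj.symm⟩
      rcases Nat.eq_zero_or_pos j with h0 | h0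
      · rw [h0, pow_zero] at hj; exact absurd hj hm1
      · exact h0
    · rw [← hm, hzo] at h1
      exact Nat.pow_succ_factorization_not_dvd hm0 hr h1

end Cyclic

end PG

end Cfsg.Agent.Helper67
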