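import Mathlib
import Cfsg.Agent.Lib.Helper67.PowerGraph

set_option autoImplicit false

namespace Cfsg.Agent.Helper67

namespace PG

open Subgroup

variable {K : Type*} [Group K] [Finite K]

/-- twins strictly comparable: the upper one has prime power order -/
theorem isPrimePow_of_tw {x y : K} (h : Tw x y) (hx : x ∈ zpowers y) (hx1 : x ≠ 1)
    (hxy : y ∉ zpowers x) : IsPrimePow (orderOf y) := by
  apply isPrimePow_of_forall_R hx hx1 hxy
  intro z hz
  exact (h z).2 (Or.inr hz)

/-- a dominating vertex of non-prime-power order generates the group -/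
theorem mem_zpowers_of_dom {x : K} (hd : Dom x) (hx1 : x ≠ 1)
    (hnp : ¬ IsPrimePow (orderOf x)) (u : K) : u ∈ zpowers x := by
  by_contra hu
  have hxu : x ∈ zpowers u := by
    rcases hd u with h | h
    · exact h
    · exact absurd h hu
  have hpp := isPrimePow_of_forall_R hxu hx1 hu (fun z _ => hd z)
  rw [isPrimePow_nat_iff] at hpp
  obtain ⟨r, k, hr, hk, hrk⟩ := hpp
  have hdvd : orderOf x ∣ r ^ k := hrk ▸ orderOf_dvd_of_mem_zpowers hxu
  obtain ⟨j, -, hj⟩ := (Nat.dvd_prime_pow hr).1 hdvd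
  apply hnp
  rw [isPrimePow_nat_iff]
  refine ⟨r, j, hr, ?_, hj.symm⟩
  rcases Nat.eq_zero_or_pos j with h0 | h0
  · rw [h0, pow_zero, orderOf_eq_one_iff] at hj; exact absurd hj hx1
  · exact h0

/-- a dominating vertex of prime power order forces a `p`-group -/
theorem orderOf_eq_pow_of_dom {x : K} (hd : Dom x) {r k : ℕ} (hr : r.Prime) (hk : 0 < k)
    (hx : orderOf x = r ^ k) (u : K) : ∃ j, orderOf u = r ^ j := by
  have hx1 : x ≠ 1 := by
    intro h1
    rw [h1, orderOf_one] at hx
    have := Nat.one_lt_pow hk.ne' hr.one_lt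
    omega
  by_cases hu : u ∈ zpowers x
  · have := orderOf_dvd_of_mem_zpowers hu
    rw [hx] at this
    obtain ⟨j, -, hj⟩ := (Nat.dvd_prime_pow hr).1 this
    exact ⟨j, hj⟩
  · have hxu : x ∈ zpowers u := by
      rcases hd u with h | h
      · exact h
      · exact absurd h hu
    have hpp := isPrimePow_of_forall_R hxu hx1 hu (fun z _ => hd z)
    rw [isPrimePow_nat_iff] at hpp
    obtain ⟨l, c, hl, hc, hlc⟩ := hpp
    have hdvd : r ^ k ∣ l ^ c := by
      rw [← hx, hlc]; exact orderOf_dvd_of_mem_zpowers hxu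
    have hrl : r ∣ l := hr.dvd_of_dvd_pow (dvd_trans (dvd_pow_self r hk.ne') hdvd)
    have : r = l := (Nat.prime_dvd_prime_iff_eq hr hl).1 hrl
    exact ⟨c, by rw [this]; exact hlc.symm⟩

/-- elements below an element of non-prime-power order have only trivial twins -/
theorem zpowers_eq_of_tw (hdom : ∀ x : K, Dom x → x = 1) {x w y : K} (hx : x ∈ zpowers w)
    (hx1 : x ≠ 1) (hw : ¬ IsPrimePow (orderOf w)) (hy : Tw x y) : zpowers y = zpowers x := by
  by_contra hne
  have hy1 : y ≠ 1 := by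
    intro h1
    rw [h1] at hy
    exact hx1 (hdom x (dom_of_tw_one hy.symm))
  -- the strictly comparable twin pair (x0, y0)
  have key : ∀ x0 y0 : K, Tw x0 y0 → x0 ∈ zpowers y0 → y0 ∉ zpowers x0 → x0 ≠ 1 →
      R x0 w → x0 ∈ zpowers w → False := by
    intro x0 y0 htw h1 h2 h3 hRw hx0w
    have hpp := isPrimePow_of_tw htw h1 h3 h2
    rw [isPrimePow_nat_iff] at hpp
    obtain ⟨r, t, hr, ht, hrt⟩ := hpp
    have hy0w : y0 ∈ zpowers w := by
      rcases (htw w).1 hRw with h | h
      · exact h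
      · exfalso
        apply hw
        have hdvd : orderOf w ∣ r ^ t := hrt ▸ orderOf_dvd_of_mem_zpowers h
        obtain ⟨j, -, hj⟩ := (Nat.dvd_prime_pow hr).1 hdvd
        rw [isPrimePow_nat_iff]
        refine ⟨r, j, hr, ?_, hj.symm⟩
        rcases Nat.eq_zero_or_pos j with h0 | h0
        · rw [h0, pow_zero, orderOf_eq_one_iff] at hj
          rw [hj, zpowers_one_eq_bot, Subgroup.mem_bot] at hx0w
          exact absurd hx0w h3
        · exact h0
    have hx0o : orderOf x0 ∣ r ^ t := hrt ▸ orderOf_dvd_of_mem_zpowers h1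
    obtain ⟨s, hst, hs⟩ := (Nat.dvd_prime_pow hr).1 hx0o
    have hslt : s < t := by
      rcases lt_or_eq_of_le hst with h | h
      · exact h
      · exfalso
        apply h2
        apply mem_zpowers_of_orderOf_eq h1
        rw [hs, ← hrt, h]
    have hrw : r ∣ orderOf w :=
      dvd_trans (dvd_trans (dvd_pow_self r ht.ne') (dvd_of_eq hrt)) (orderOf_dvd_of_mem_zpowers hy0w)
    obtain ⟨l, hl, hlw, hlr⟩ := exists_prime_ne_of_not_isPrimePow hw hr hrw
    have hcop : Nat.Coprime (r ^ s) l :=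
      Nat.Coprime.pow_left s ((Nat.coprime_primes hr hl).2 (Ne.symm hlr))
    have hdvdw : r ^ s * l ∣ orderOf w :=
      hcop.mul_dvd_of_dvd_of_dvd (hs ▸ orderOf_dvd_of_mem_zpowers hx0w) hlw
    obtain ⟨v, hv, hvo⟩ := exists_mem_zpowers_orderOf_eq w hdvdw
    have hx0v : x0 ∈ zpowers v :=
      mem_zpowers_of_orderOf_dvd hx0w hv (by rw [hs, hvo]; exact Dvd.intro _ rfl)
    rcases (htw v).1 (Or.inl hx0v) with h | h
    · -- y0 ∈ zpowers v
      have := orderOf_dvd_of_mem_zpowers h
      rw [← hrt, hvo] at this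
      -- r^t ∣ r^s * l, with s < t
      have h4 : r ^ (s + 1) ∣ r ^ s * l := dvd_trans (pow_dvd_pow r hslt) this
      rw [pow_succ] at h4
      have h5 : r ∣ l := Nat.dvd_of_mul_dvd_mul_left (pow_pos hr.pos s) h4
      exact hlr ((Nat.prime_dvd_prime_iff_eq hr hl).1 h5).symm
    · -- v ∈ zpowers y0
      have := orderOf_dvd_of_mem_zpowers h
      rw [← hrt, hvo] at this
      have h5 : l ∣ r ^ t := dvd_trans (Dvd.intro_left _ rfl) this
      exact hlr ((Nat.prime_dvd_prime_iff_eq hl hr).1 (hl.dvd_of_dvd_pow h5))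
  have hRxw : R x w := Or.inl hx
  rcases hy.R with h | h
  · -- x ∈ zpowers y
    have hyx : y ∉ zpowers x := by
      intro h'
      apply hne
      exact le_antisymm (zpowers_le.2 h') (zpowers_le.2 h)
    exact key x y hy h hyx hx1 hRxw hx
  · -- y ∈ zpowers x
    have hxy : x ∉ zpowers y := by
      intro h'
      apply hne
      exact le_antisymm (zpowers_le.2 h) (zpowers_le.2 h')
    exact key y x hy.symm h hxy hy1 ((hy w).1 hRxw) (mem_zpowers_trans h hx)

end PG

end Cfsg.Agent.Helper67
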