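import Mathlib
import Cfsg.Agent.Lib.Helper67.PowerGraph2

set_option autoImplicit false

namespace Cfsg.Agent.Helper67

namespace PG

open Subgroup

variable {K : Type*} [Group K] [Finite K]

/-- the set of generators of `zpowers x` -/
def gen (x : K) : Set K := {y | zpowers y = zpowers x}

theorem mem_gen_iff (x y : K) : y ∈ gen x ↔ y ∈ zpowers x ∧ orderOf y = orderOf x := by
  constructor
  · intro h
    have h' : zpowers y = zpowers x := h
    refine ⟨h' ▸ mem_zpowers y, ?_⟩
    rw [← Nat.card_zpowers, ← Nat.card_zpowers, h']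
  · rintro ⟨h1, h2⟩
    exact le_antisymm (zpowers_le.2 h1) (zpowers_le.2 (mem_zpowers_of_orderOf_eq h1 h2))

theorem ncard_gen (x : K) : (gen x).ncard = Nat.totient (orderOf x) := by
  classical
  letI : Fintype K := Fintype.ofFinite K
  have h1 : gen x = Subtype.val '' {c : ↥(zpowers x) | orderOf c = orderOf x} := by
    ext y
    rw [mem_gen_iff]
    constructor
    · rintro ⟨hy, ho⟩
      refine ⟨⟨y, hy⟩, ?_, rfl⟩
      change orderOf (⟨y, hy⟩ : ↥(zpowers x)) = orderOf x
      rw [← ho, ← Subgroup.orderOf_coe]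
    · rintro ⟨c, hc, rfl⟩
      refine ⟨c.2, ?_⟩
      have hc' : orderOf c = orderOf x := hc
      rw [← hc', Subgroup.orderOf_coe]
  rw [h1, Set.ncard_image_of_injective _ Subtype.val_injective,
    Set.ncard_eq_toFinset_card']
  have h2 := IsCyclic.card_orderOf_eq_totient (α := ↥(zpowers x)) (d := orderOf x)
    (by rw [← Nat.card_eq_fintype_card, Nat.card_zpowers])
  rw [← h2]
  congr 1
  ext c
  simp

theorem gen_subset_tw (x : K) : gen x ⊆ {y | Tw x y} := by
  intro y hy
  exact Tw_of_zpowers_eq (show zpowers y = zpowers x from hy).symm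

/-- monotonicity of twin class sizes -/
theorem ncard_tw_le (hdom : ∀ x : K, Dom x → x = 1) {z w : K} (hz : z ∈ zpowers w)
    (hz1 : z ≠ 1) (hzw : ¬ Tw z w) :
    {y | Tw z y}.ncard ≤ {y | Tw w y}.ncard := by
  have hw1 : w ≠ 1 := by
    intro h1
    rw [h1, zpowers_one_eq_bot, Subgroup.mem_bot] at hz
    exact hz1 hz
  -- Step 1
  have hstep1 : ∀ z' : K, Tw z z' → z' ∈ zpowers w := by
    intro z' htw
    by_contra hz'w
    have hwz' : w ∈ zpowers z' := by
      rcases (htw w).1 (Or.inl hz) with h | h
      · exact absurd h hz'w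
      · exact h
    have hzz' : z ∈ zpowers z' := mem_zpowers_trans hz hwz'
    have hz'z : z' ∉ zpowers z := fun h => hz'w (mem_zpowers_trans h hz)
    have hpp := isPrimePow_of_tw htw hzz' hz1 hz'z
    rw [isPrimePow_nat_iff] at hpp
    obtain ⟨r, t, hr, ht, hrt⟩ := hpp
    apply hzw
    intro v
    constructor
    · intro hRzv
      have hRz'v := (htw v).1 hRzv
      rcases hRzv with h | h
      · rcases hRz'v with h' | h'
        · exact Or.inl (mem_zpowers_trans hwz' h')
        · rw [R_iff_of_mem_zpowers hwz' h']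
          have h1 : orderOf w ∣ r ^ t := hrt ▸ orderOf_dvd_of_mem_zpowers hwz'
          have h2 : orderOf v ∣ r ^ t := hrt ▸ orderOf_dvd_of_mem_zpowers h'
          obtain ⟨a, -, ha⟩ := (Nat.dvd_prime_pow hr).1 h1
          obtain ⟨b, -, hb⟩ := (Nat.dvd_prime_pow hr).1 h2
          rw [ha, hb]
          rcases le_total a b with hab | hab
          · exact Or.inl (pow_dvd_pow r hab)
          · exact Or.inr (pow_dvd_pow r hab)
      · exact Or.inr (mem_zpowers_trans h hz)
    · intro hRwv
      rcases hRwv with h | h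
      · exact Or.inl (mem_zpowers_trans hz h)
      · exact (htw v).2 (Or.inr (mem_zpowers_trans h hwz'))
  by_cases hpw : IsPrimePow (orderOf w)
  · rw [isPrimePow_nat_iff] at hpw
    obtain ⟨r, k, hr, hk, hrk⟩ := hpw
    -- three disjoint subsets of zpowers w
    have hA : {y | Tw z y} ⊆ ((zpowers w : Subgroup K) : Set K) := fun y hy => hstep1 y hy
    have hB : gen w ⊆ ((zpowers w : Subgroup K) : Set K) := fun y hy =>
      ((mem_gen_iff w y).1 hy).1
    have hAB : Disjoint {y | Tw z y} (gen w) := by
      rw [Set.disjoint_left]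
      intro y hy1 hy2
      exact hzw (Tw.trans hy1 (gen_subset_tw w hy2).symm)
    have h1A : (1 : K) ∉ {y | Tw z y} := by
      intro h
      exact hz1 (hdom z (dom_of_tw_one (Tw.symm h)))
    have h1B : (1 : K) ∉ gen w := by
      intro h
      have h' : zpowers (1 : K) = zpowers w := h
      apply hw1
      have : w ∈ zpowers (1 : K) := h' ▸ mem_zpowers w
      rwa [zpowers_one_eq_bot, Subgroup.mem_bot] at this
    have hsub : insert (1 : K) ({y | Tw z y} ∪ gen w) ⊆ ((zpowers w : Subgroup K) : Set K) := by
      intro y hy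
      rcases hy with rfl | hy | hy
      · exact one_mem _
      · exact hA hy
      · exact hB hy
    have hcard := Set.ncard_le_ncard hsub (Set.toFinite _)
    rw [Set.ncard_insert_of_notMem (by
      intro h
      rcases h with h | h
      · exact h1A h
      · exact h1B h) (Set.toFinite _), Set.ncard_union_eq hAB (Set.toFinite _) (Set.toFinite _)]
      at hcard
    have hzw' : ((zpowers w : Subgroup K) : Set K).ncard = r ^ k := by
      rw [← Nat.card_coe_set_eq]
      change Nat.card ↥(zpowers w) = r ^ k
      rw [Nat.card_zpowers, hrk]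
    rw [hzw', ncard_gen, ← hrk, Nat.totient_prime_pow hr hk] at hcard
    have hBle := Set.ncard_le_ncard (gen_subset_tw w) (Set.toFinite _)
    rw [ncard_gen, ← hrk, Nat.totient_prime_pow hr hk] at hBle
    have hr2 : 2 ≤ r := hr.two_le
    have hpow : r ^ k = r ^ (k - 1) * r := by
      rw [← pow_succ]
      congr 1
      omega
    rw [hpow] at hcard
    obtain ⟨q, hq⟩ : ∃ q, r = q + 2 := ⟨r - 2, by omega⟩
    rw [hq] at hcard hBle
    simp only [Nat.add_sub_cancel, show q + 2 - 1 = q + 1 from by omega] at hcard hBle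
    nlinarith [hcard, hBle]
  · have hA : {y | Tw z y} = gen z := by
      apply Set.Subset.antisymm
      · intro y hy
        exact zpowers_eq_of_tw hdom hz hz1 hpw hy
      · exact gen_subset_tw z
    rw [hA, ncard_gen]
    refine le_trans ?_ (Set.ncard_le_ncard (gen_subset_tw w) (Set.toFinite _))
    rw [ncard_gen]
    exact Nat.le_of_dvd (Nat.totient_pos.2 (orderOf_pos w))
      (Nat.totient_dvd_of_dvd (orderOf_dvd_of_mem_zpowers hz))

end PG

end Cfsg.Agent.Helper67
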