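import Mathlib
import Cfsg.Prelude.Def_FusionSystem
import Cfsg.Prelude.Def_KGroupFacts
import Cfsg.Agent.Lib.Helper84.GrpFus

/-!
# PSL3F piece (AUT) for helper87's server (S5318): `N_G(S) = S C_G(S)` gives `Aut_F(S) = Inn(S)`.
-/

set_option autoImplicit false

namespace Cfsg.Agent.Helper67.Psl3

open Cfsg Cfsg.FusionSystem

theorem autGroup_eq_inn {G : Type*} [Group G] (S : Subgroup G)
    (h : ∀ g : G, g ∈ Subgroup.normalizer (S : Set G) →
      ∃ s ∈ S, ∃ c : G, (∀ x ∈ S, c * x = x * c) ∧ g = s * c) :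
    (groupFusionSystem S).autGroup S = Cfsg.Inn ↥S := by
  rw [Cfsg.Agent.Helper84.gfs_autGroup_eq S S le_rfl]
  ext α
  rw [Cfsg.Agent.Helper84.mem_autInducedBy_iff]
  constructor
  · rintro ⟨g, -, hg⟩
    have hgN : g ∈ Subgroup.normalizer (S : Set G) := by
      rw [Subgroup.mem_normalizer_iff]
      intro y
      constructor
      · intro hy
        have := hg ⟨y, hy⟩
        rw [← this]
        exact (α ⟨y, hy⟩).2
      · intro hy
        obtain ⟨x', hx'⟩ := α.surjective ⟨g * y * g⁻¹, hy⟩
        have h1 := hg x'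
        rw [hx'] at h1
        have h2 : y = (x' : G) := by
          have := congrArg (fun t => g⁻¹ * t * g) h1
          simp only at this
          rw [show g⁻¹ * (g * y * g⁻¹) * g = y by group,
            show g⁻¹ * (g * (x' : G) * g⁻¹) * g = (x' : G) by group] at this
          exact this
        rw [h2]
        exact x'.2
    obtain ⟨s, hs, c, hc, rfl⟩ := h g hgN
    refine ⟨⟨s, hs⟩, ?_⟩
    ext x
    rw [hg x]
    simp only [MulAut.conj_apply, Subgroup.coe_mul, Subgroup.coe_inv]
    have hcx := hc x x.2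
    have : s * c * (x : G) * (s * c)⁻¹ = s * (c * (x : G) * c⁻¹) * s⁻¹ := by group
    rw [this, hcx]
    group
  · rintro ⟨s, rfl⟩
    refine ⟨(s : G), Subgroup.mem_top _, fun x => ?_⟩
    simp [MulAut.conj_apply]

end Cfsg.Agent.Helper67.Psl3
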