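import Mathlib
import Cfsg.Agent.Lib.Helper87.Psl3Defs

/-!
# PSL3F piece (SYL) for helper87's server (S5318): `S3` is a Sylow 2-subgroup of `SL₃(F)`.
-/

set_option autoImplicit false

namespace Cfsg.Agent.Helper67.Psl3

open Matrix Cfsg.Agent.Helper87.Psl3

variable {F : Type*} [Field F]

local notation "SL3" => Matrix.SpecialLinearGroup (Fin 3) F
local notation "GL2" => GL (Fin 2) F

theorem exists_sylow [Finite F] (hP : IsPGroup 2 (S3 : Subgroup SL3))
    (hN : ∀ g : SL3, g ∈ Subgroup.normalizer ((S3 : Subgroup SL3) : Set SL3) →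
      ∃ s ∈ (S3 : Subgroup SL3), ∃ c : Fˣ, Odd (orderOf c) ∧ g = s * iota (sc c)) :
    ∃ S : Sylow 2 SL3, (S : Subgroup SL3) = S3 := by
  classical
  have : Fintype F := Fintype.ofFinite F
  have : Finite SL3 := inferInstance
  obtain ⟨S, hS⟩ := hP.exists_le_sylow
  refine ⟨S, ?_⟩
  by_contra hne
  have hlt : (S3 : Subgroup SL3) < (S : Subgroup SL3) := lt_of_le_of_ne hS (Ne.symm hne)
  -- the finite 2-group `S` is nilpotent: normalizers grow
  have : Fact (Nat.Prime 2) := ⟨Nat.prime_two⟩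
  have hnil : Group.IsNilpotent ↥(S : Subgroup SL3) := S.2.isNilpotent
  have hnc := Group.normalizerCondition_of_isNilpotent (G := ↥(S : Subgroup SL3))
  have hlt' : ((S3 : Subgroup SL3).subgroupOf (S : Subgroup SL3)) < ⊤ := by
    rw [lt_top_iff_ne_top]
    intro htop
    rw [Subgroup.subgroupOf_eq_top] at htop
    exact (not_le_of_gt hlt) htop
  have hgrow := hnc _ hlt'
  obtain ⟨g, hgN, hgS3⟩ := SetLike.exists_of_lt hgrow
  have hg3 : (g : SL3) ∉ (S3 : Subgroup SL3) := fun h => hgS3 (Subgroup.mem_subgroupOf.2 h)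
  have hgN' : (g : SL3) ∈ Subgroup.normalizer ((S3 : Subgroup SL3) : Set SL3) := by
    rw [Subgroup.mem_normalizer_iff]
    intro x
    rw [Subgroup.mem_normalizer_iff] at hgN
    constructor
    · intro hx
      have := (hgN ⟨x, hS hx⟩).1 (Subgroup.mem_subgroupOf.2 hx)
      exact Subgroup.mem_subgroupOf.1 this
    · intro hx
      have hxS : x ∈ (S : Subgroup SL3) := by
        have h1 : (g : SL3)⁻¹ * ((g : SL3) * x * (g : SL3)⁻¹) * (g : SL3) ∈ (S : Subgroup SL3) :=
          (S : Subgroup SL3).mul_mem ((S : Subgroup SL3).mul_mem ((S : Subgroup SL3).inv_mem g.2) (hS hx)) g.2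
        have h2 : (g : SL3)⁻¹ * ((g : SL3) * x * (g : SL3)⁻¹) * (g : SL3) = x := by group
        rwa [h2] at h1
      have := (hgN ⟨x, hxS⟩).2 (Subgroup.mem_subgroupOf.2 hx)
      exact Subgroup.mem_subgroupOf.1 this
  obtain ⟨s, hs, c, hc, hgsc⟩ := hN (g : SL3) hgN'
  set t : SL3 := iota (sc c) with ht
  have htS : t ∈ (S : Subgroup SL3) := by
    have : t = s⁻¹ * (g : SL3) := by rw [hgsc]; group
    rw [this]
    exact (S : Subgroup SL3).mul_mem ((S : Subgroup SL3).inv_mem (hS hs)) g.2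
  obtain ⟨k, hk⟩ := S.2 ⟨t, htS⟩
  have hk' : t ^ (2 ^ k) = 1 := by
    have := congrArg (fun y : ↥(S : Subgroup SL3) => (y : SL3)) hk
    simpa using this
  have hc' : t ^ (orderOf c) = 1 := by
    rw [ht, ← map_pow, ← map_pow, pow_orderOf_eq_one, map_one, map_one]
  have h1 : orderOf t ∣ 2 ^ k := orderOf_dvd_of_pow_eq_one hk'
  have h2 : orderOf t ∣ orderOf c := orderOf_dvd_of_pow_eq_one hc'
  have hcop : Nat.Coprime (2 ^ k) (orderOf c) :=
    Nat.Coprime.pow_left k (Nat.coprime_two_left.2 hc)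
  have h3 : orderOf t ∣ 1 := by
    have := Nat.dvd_gcd h1 h2
    rwa [hcop.gcd_eq_one] at this
  have ht1 : t = 1 := orderOf_eq_one_iff.1 (Nat.dvd_one.1 h3)
  apply hg3
  rw [hgsc, ht1, mul_one]
  exact hs

end Cfsg.Agent.Helper67.Psl3
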