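import Mathlib
import Cfsg.Agent.Lib.Helper87.Psu3Defs
import Cfsg.Agent.Lib.Helper57.Psl3N1

/-!
# PSU3F piece (N1U) for helper87's server (S5319): `zz` is the unique central involution of `S3U`,
so `N(S3U)` centralizes it.  Also proves the (APIU)-type facts `M0, tau ∈ U2 q`, `zz ∈ SU₃(q)`.
-/

set_option autoImplicit false

namespace Cfsg.Agent.Helper67.Psu3

open Matrix Cfsg Cfsg.Agent.Helper87.Psl3 Cfsg.Agent.Helper87.Psu3 Cfsg.Agent.Helper57.Psl3

variable {K : Type*} [Field K] {q : ℕ}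

local notation "SL3" => Matrix.SpecialLinearGroup (Fin 3) K
local notation "GL2" => GL (Fin 2) K

theorem h67_iotaMat_M0 : iotaMat (M0 : GL2) = !![0,1,0;-1,0,0;0,0,1] := by
  have hd : (Matrix.GeneralLinearGroup.det (M0 : GL2) : Kˣ) = 1 := by
    apply Units.ext
    show ((M0 : GL2) : Matrix (Fin 2) (Fin 2) K).det = 1
    simp [rot, Matrix.det_fin_two]
  ext i j
  fin_cases i <;> fin_cases j <;> simp [iotaMat, hd, rot]

theorem h67_iotaMat_tau : iotaMat (tau : GL2) = !![1,0,0;0,-1,0;0,0,-1] := by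
  have hd : (Matrix.GeneralLinearGroup.det (tau : GL2) : Kˣ) = -1 := by
    apply Units.ext
    show ((tau : GL2) : Matrix (Fin 2) (Fin 2) K).det = ((-1 : Kˣ) : K)
    simp [Matrix.det_fin_two]
  ext i j
  fin_cases i <;> fin_cases j <;> simp [iotaMat, hd]

theorem h67_iotaMat_scneg : iotaMat (sc (-1) : GL2) = !![-1,0,0;0,-1,0;0,0,1] := by
  have hv : ((sc (-1) : GL2) : Matrix (Fin 2) (Fin 2) K) = rot (-1) 0 := by
    rw [h57_sc_val, Units.val_neg, Units.val_one]
  have hd : (Matrix.GeneralLinearGroup.det (sc (-1) : GL2) : Kˣ) = 1 := by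
    apply Units.ext
    show ((sc (-1) : GL2) : Matrix (Fin 2) (Fin 2) K).det = 1
    rw [hv]
    simp [rot, Matrix.det_fin_two]
  ext i j
  fin_cases i <;> fin_cases j <;> simp [iotaMat, hd, hv, rot]

theorem h67_M0_mem_U2 (hodd : q % 2 = 1) : (M0 : GL2) ∈ U2 q := by
  have hq : Odd q := Nat.odd_iff.2 hodd
  rw [mem_U2_iff, mem_SU_iff]
  intro u v
  rw [iota_val, h67_iotaMat_M0]
  simp [hermForm, Fin.sum_univ_three, Matrix.mulVec, dotProduct, hq.neg_pow]
  ring

theorem h67_tau_mem_U2 (hodd : q % 2 = 1) : (tau : GL2) ∈ U2 q := by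
  have hq : Odd q := Nat.odd_iff.2 hodd
  rw [mem_U2_iff, mem_SU_iff]
  intro u v
  rw [iota_val, h67_iotaMat_tau]
  simp [hermForm, Fin.sum_univ_three, Matrix.mulVec, dotProduct, hq.neg_pow]

theorem h67_zz_mem_SU (hodd : q % 2 = 1) : (zz : SL3) ∈ Cfsg.SU 3 K q := by
  have hq : Odd q := Nat.odd_iff.2 hodd
  rw [mem_SU_iff]
  intro u v
  show hermForm 3 K q ((iotaMat (sc (-1) : GL2)) *ᵥ u) ((iotaMat (sc (-1) : GL2)) *ᵥ v) = _
  rw [h67_iotaMat_scneg]
  simp [hermForm, Fin.sum_univ_three, Matrix.mulVec, dotProduct, hq.neg_pow]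

/-- an involution of `S2` commuting with `tau` and `M0` is `-1` -/
theorem h67_central_invol (h2 : (2 : K) ≠ 0) (X : GL2) (hXS : X ∈ S2)
    (hτ : X * tau = tau * X) (hM : X * M0 = M0 * X) (hXX : X * X = 1) (hX1 : X ≠ 1) :
    X = sc (-1) := by
  rcases h57_S2_cases X hXS with h | h
  · obtain ⟨a, b, hab⟩ := (mem_Eu_iff X).1 ((mem_P2_iff _).1 h).1
    have h3 : tau * X * tau⁻¹ = X := by rw [← hτ, mul_inv_cancel_right]
    have h4 := h57_tau_conj_val X a b hab
    rw [h3, hab] at h4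
    have h5 := congrFun (congrFun h4 0) 1
    simp [rot] at h5
    have hb : b = 0 := by
      have h6 : (2 : K) * b = 0 := by linear_combination h5
      exact (mul_eq_zero.mp h6).resolve_left h2
    subst hb
    have h6 : (X : Matrix (Fin 2) (Fin 2) K) * (X : Matrix (Fin 2) (Fin 2) K) = 1 := by
      rw [← Units.val_mul, hXX, Units.val_one]
    rw [hab, rot_mul, ← rot_one] at h6
    have h7 := congrFun (congrFun h6 0) 0
    simp [rot] at h7
    rcases mul_self_eq_one_iff.mp h7 with rfl | rfl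
    · exfalso
      apply hX1
      apply Units.ext
      rw [hab, rot_one, Units.val_one]
    · apply Units.ext
      rw [hab, h57_sc_val, Units.val_neg, Units.val_one]
  · exfalso
    have hM0P : (M0 : GL2) ∈ P2 := h57_M0_mem_P2
    have hcomm : (X * tau) * M0 = M0 * (X * tau) :=
      Eu_comm ((mem_P2_iff _).1 h).1 ((mem_P2_iff _).1 hM0P).1
    have h3 : (tau : GL2) * M0 = M0 * tau := by
      apply mul_left_cancel (a := X)
      calc X * (tau * M0) = (X * tau) * M0 := (mul_assoc _ _ _).symm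
        _ = M0 * (X * tau) := hcomm
        _ = (M0 * X) * tau := (mul_assoc _ _ _).symm
        _ = (X * M0) * tau := by rw [hM]
        _ = X * (M0 * tau) := mul_assoc _ _ _
    have h4 := congrArg (fun Z : GL2 => (Z : Matrix (Fin 2) (Fin 2) K)) h3
    simp only [Units.val_mul, tau_val, M0_val] at h4
    have h5 := congrFun (congrFun h4 0) 1
    simp [rot, Matrix.mul_apply, Fin.sum_univ_two] at h5
    apply h2
    linear_combination h5

theorem normalizer_comm_zzU (h2 : (2 : K) ≠ 0) (hodd : q % 2 = 1) (g : ↥(Cfsg.SU 3 K q))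
    (hg : g ∈ Subgroup.normalizer ((S3U q : Subgroup ↥(Cfsg.SU 3 K q)) : Set ↥(Cfsg.SU 3 K q))) :
    (g : SL3) * zz = zz * (g : SL3) := by
  -- `zz`, `iota M0`, `iota tau` as elements of `S3U`
  have hzzS3 : (zz : SL3) ∈ S3 :=
    Subgroup.mem_map_of_mem iota (h57_P2_le_S2 h57_sc_neg_one_mem_P2)
  set zU : ↥(Cfsg.SU 3 K q) := ⟨zz, h67_zz_mem_SU hodd⟩ with hzU
  have hzU3 : zU ∈ S3U q := (mem_S3U_iff q zU).2 hzzS3
  have hzz2 : (zz : SL3) * zz = 1 := by
    show iota (sc (-1)) * iota (sc (-1)) = 1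
    rw [← map_mul, ← map_mul, neg_mul_neg, one_mul, map_one, map_one]
  -- conjugate
  have h1 : g * zU * g⁻¹ ∈ S3U q := (Subgroup.mem_normalizer_iff.mp hg zU).mp hzU3
  have h1' : (g : SL3) * zz * (g : SL3)⁻¹ ∈ S3 := by
    have := (mem_S3U_iff q _).1 h1
    simpa [hzU] using this
  obtain ⟨X, hXS, hX⟩ := Subgroup.mem_map.mp h1'
  -- `X` commutes with every `Y ∈ S2U`
  have hXc : ∀ Y ∈ (S2U q : Subgroup GL2), X * Y = Y * X := by
    intro Y hY
    apply h57_iota_injective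
    rw [map_mul, map_mul, hX]
    have hYS2 : Y ∈ S2 := hY.1
    have hYU : iota Y ∈ Cfsg.SU 3 K q := hY.2
    set yU : ↥(Cfsg.SU 3 K q) := ⟨iota Y, hYU⟩ with hyU
    have hs : yU ∈ S3U q := (mem_S3U_iff q yU).2 (Subgroup.mem_map_of_mem iota hYS2)
    have hs' : g⁻¹ * yU * g ∈ S3U q := by
      have h0 := (Subgroup.mem_normalizer_iff.mp (Subgroup.inv_mem _ hg) yU).mp hs
      rwa [inv_inv] at h0
    have hs'' : (g : SL3)⁻¹ * iota Y * (g : SL3) ∈ S3 := by
      have := (mem_S3U_iff q _).1 hs'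
      simpa [hyU] using this
    obtain ⟨Y', _, hY'⟩ := Subgroup.mem_map.mp hs''
    have hzc : zz * iota Y' = iota Y' * zz := by
      show iota (sc (-1)) * iota Y' = iota Y' * iota (sc (-1))
      rw [← map_mul, ← map_mul, h57_sc_comm]
    rw [hY'] at hzc
    calc (g : SL3) * zz * (g : SL3)⁻¹ * iota Y
        = (g : SL3) * (zz * ((g : SL3)⁻¹ * iota Y * (g : SL3))) * (g : SL3)⁻¹ := by group
      _ = (g : SL3) * (((g : SL3)⁻¹ * iota Y * (g : SL3)) * zz) * (g : SL3)⁻¹ := by rw [hzc]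
      _ = iota Y * ((g : SL3) * zz * (g : SL3)⁻¹) := by group
  have hτU : (tau : GL2) ∈ S2U q := ⟨h57_tau_mem_S2, h67_tau_mem_U2 hodd⟩
  have hMU : (M0 : GL2) ∈ S2U q := ⟨h57_P2_le_S2 h57_M0_mem_P2, h67_M0_mem_U2 hodd⟩
  have hXX : X * X = 1 := by
    apply h57_iota_injective
    rw [map_mul, hX, map_one]
    calc (g : SL3) * zz * (g : SL3)⁻¹ * ((g : SL3) * zz * (g : SL3)⁻¹)
        = (g : SL3) * (zz * zz) * (g : SL3)⁻¹ := by group
      _ = 1 := by rw [hzz2]; group
  have hX1 : X ≠ 1 := by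
    intro h
    rw [h, map_one] at hX
    have hzz1 : (zz : SL3) = 1 := by
      have e : (zz : SL3) = (g : SL3)⁻¹ * ((g : SL3) * zz * (g : SL3)⁻¹) * (g : SL3) := by group
      rw [e, ← hX]; group
    have h3 : (sc (-1) : GL2) = 1 := h57_iota_injective (by rw [map_one]; exact hzz1)
    have h4 := congrArg (fun Z : GL2 => (Z : Matrix (Fin 2) (Fin 2) K)) h3
    simp only [h57_sc_val, Units.val_one, Units.val_neg] at h4
    rw [← rot_one] at h4
    have h5 := congrFun (congrFun h4 0) 0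
    simp [rot] at h5
    apply h2
    linear_combination -h5
  have hXsc : X = sc (-1) :=
    h67_central_invol h2 X hXS (hXc tau hτU) (hXc M0 hMU) hXX hX1
  rw [hXsc] at hX
  have h5 : (g : SL3) * zz * (g : SL3)⁻¹ = zz := hX.symm
  exact mul_inv_eq_iff_eq_mul.mp h5

end Cfsg.Agent.Helper67.Psu3
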