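import Mathlib
import Cfsg.Agent.Lib.Helper87.Psl3Defs

/-!
# PSU3F piece (N5G) for helper87's server (S5319): a conjugate of `M0` inside the torus `Eu`
is `M0` or `M0⁻¹` (any field with `2 ≠ 0`).
-/

set_option autoImplicit false

namespace Cfsg.Agent.Helper67.Psu3

open Matrix Cfsg.Agent.Helper87.Psl3

variable {K : Type*} [Field K]

local notation "GL2" => GL (Fin 2) K

theorem conj_M0_of_mem_Eu (h2 : (2 : K) ≠ 0) (X : GL2) (h : X * M0 * X⁻¹ ∈ (Eu : Subgroup GL2)) :
    X * M0 * X⁻¹ = M0 ∨ X * M0 * X⁻¹ = M0⁻¹ := by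
  obtain ⟨a, b, hab⟩ := (mem_Eu_iff _).1 h
  -- the square of `X M0 X⁻¹` is `-1`
  have hM0sq : ((M0 : GL2) : Matrix (Fin 2) (Fin 2) K) * ((M0 : GL2) : Matrix (Fin 2) (Fin 2) K)
      = -1 := by
    rw [M0_val, rot_mul]
    ext i j
    fin_cases i <;> fin_cases j <;> simp [rot]
  have hsq : ((X * M0 * X⁻¹ : GL2) : Matrix (Fin 2) (Fin 2) K) *
      ((X * M0 * X⁻¹ : GL2) : Matrix (Fin 2) (Fin 2) K) = -1 := by
    have e : (X * M0 * X⁻¹) * (X * M0 * X⁻¹) = X * (M0 * M0) * X⁻¹ := by group
    have e' := congrArg (fun Y : GL2 => (Y : Matrix (Fin 2) (Fin 2) K)) e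
    simp only [Units.val_mul] at e'
    simp only [Units.val_mul]
    rw [e', hM0sq]
    have hXX : (X : Matrix (Fin 2) (Fin 2) K) * ((X⁻¹ : GL2) : Matrix (Fin 2) (Fin 2) K) = 1 := by
      rw [← Units.val_mul, mul_inv_cancel, Units.val_one]
    rw [Matrix.mul_neg, Matrix.mul_one, Matrix.neg_mul, hXX]
  rw [hab, rot_mul] at hsq
  have e00 := congrFun (congrFun hsq 0) 0
  have e01 := congrFun (congrFun hsq 0) 1
  simp [rot] at e00 e01
  -- e00 : a * a - b * b = -1 ; e01 : a * b + b * a = 0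
  have hab0 : a * b = 0 := by
    have : (2 : K) * (a * b) = 0 := by linear_combination e01
    rcases mul_eq_zero.1 this with h' | h'
    · exact absurd h' h2
    · exact h'
  rcases mul_eq_zero.1 hab0 with ha | hb
  · -- a = 0, b * b = 1
    subst ha
    have hbb : (b - 1) * (b + 1) = 0 := by linear_combination -e00
    rcases mul_eq_zero.1 hbb with hb1 | hb1
    · left
      apply Units.ext
      rw [hab, M0_val]
      have : b = 1 := by linear_combination hb1
      rw [this]
    · right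
      apply Units.ext
      rw [hab]
      have : b = -1 := by linear_combination hb1
      rw [this]
      rfl
  · -- b = 0: then X M0 X⁻¹ is scalar, so M0 is scalar: contradiction
    exfalso
    subst hb
    have hscal : (rot a 0 : Matrix (Fin 2) (Fin 2) K) = a • (1 : Matrix (Fin 2) (Fin 2) K) := by
      ext i j
      fin_cases i <;> fin_cases j <;> simp [rot]
    have e : (M0 : GL2) = X⁻¹ * (X * M0 * X⁻¹) * X := by group
    have e' := congrArg (fun Y : GL2 => (Y : Matrix (Fin 2) (Fin 2) K)) e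
    simp only [Units.val_mul] at e'
    have hab' : (X : Matrix (Fin 2) (Fin 2) K) * ((M0 : GL2) : Matrix (Fin 2) (Fin 2) K) *
        ((X⁻¹ : GL2) : Matrix (Fin 2) (Fin 2) K) = rot a 0 := by
      rw [← Units.val_mul, ← Units.val_mul]; exact hab
    rw [hab', hscal] at e'
    have hXX : ((X⁻¹ : GL2) : Matrix (Fin 2) (Fin 2) K) * (X : Matrix (Fin 2) (Fin 2) K) = 1 := by
      rw [← Units.val_mul, inv_mul_cancel, Units.val_one]
    rw [Matrix.mul_smul, Matrix.mul_one, Matrix.smul_mul, hXX, M0_val] at e'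
    have := congrFun (congrFun e' 0) 1
    simp [rot] at this

end Cfsg.Agent.Helper67.Psu3
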