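import Mathlib
import Cfsg.Agent.Lib.Helper93.RU0

/-!
# helper93 lemma server "RU" (row S2280): piece D1 `W_add`
-/

set_option autoImplicit false

namespace Cfsg.Agent.Helper67.RU

open Matrix Cfsg.Agent.Helper93.RU

variable {F : Type*} [Field F] {m : ℕ}

theorem d1_det (v φ : Fin (m + 3) → F) : (tvM v φ).det = 1 + φ ⬝ᵥ v := by
  unfold tvM
  rw [vecMulVec_eq Unit, det_one_add_replicateCol_mul_replicateRow]

theorem d1_val (v φ : Fin (m + 3) → F) (h : φ ⬝ᵥ v = 0) : (tvS v φ).1 = tvM v φ := by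
  have hdet : (tvM v φ).det = 1 := by rw [d1_det, h, add_zero]
  have : tvS v φ = ⟨tvM v φ, hdet⟩ := by
    unfold tvS
    exact dif_pos hdet
  rw [this]

theorem d1_smul (a : F) (v φ : Fin (m + 3) → F) : tvS (a • v) φ = tvS v (a • φ) := by
  have hM : tvM (a • v) φ = tvM v (a • φ) := by
    unfold tvM
    rw [smul_vecMulVec, vecMulVec_smul]
  by_cases h : (tvM v (a • φ)).det = 1
  · have h' : (tvM (a • v) φ).det = 1 := by rw [hM]; exact h
    have e1 : tvS v (a • φ) = ⟨tvM v (a • φ), h⟩ := by unfold tvS; exact dif_pos h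
    have e2 : tvS (a • v) φ = ⟨tvM (a • v) φ, h'⟩ := by unfold tvS; exact dif_pos h'
    rw [e1, e2]
    exact Subtype.ext hM
  · have h' : ¬ (tvM (a • v) φ).det = 1 := by rw [hM]; exact h
    have e1 : tvS v (a • φ) = 1 := by unfold tvS; exact dif_neg h
    have e2 : tvS (a • v) φ = 1 := by unfold tvS; exact dif_neg h'
    rw [e1, e2]

/-- a functional vanishing on `v` with value `1` on `w ∉ span {v}` -/
theorem d1_exists_functional (v w : Fin (m + 3) → F)
    (hw : w ∉ Submodule.span F ({v} : Set (Fin (m + 3) → F))) :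
    ∃ φ₀ : Fin (m + 3) → F, φ₀ ⬝ᵥ v = 0 ∧ φ₀ ⬝ᵥ w = 1 := by
  obtain ⟨f, hfw, hfp⟩ := Submodule.exists_dual_map_eq_bot_of_notMem hw inferInstance
  have hfv : f v = 0 := by
    have : f v ∈ (Submodule.span F ({v} : Set (Fin (m + 3) → F))).map f :=
      Submodule.mem_map_of_mem (Submodule.mem_span_singleton_self v)
    rw [hfp] at this
    exact (Submodule.mem_bot F).mp this
  have hrep : ∀ u : Fin (m + 3) → F,
      f u = (fun i => f (fun j => if i = j then 1 else 0)) ⬝ᵥ u := by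
    intro u
    rw [LinearMap.pi_apply_eq_sum_univ f u]
    simp only [dotProduct, smul_eq_mul]
    exact Finset.sum_congr rfl (fun i _ => mul_comm _ _)
  refine ⟨(f w)⁻¹ • (fun i => f (fun j => if i = j then 1 else 0)), ?_, ?_⟩
  · rw [smul_dotProduct, ← hrep, hfv, smul_zero]
  · rw [smul_dotProduct, ← hrep, smul_eq_mul, inv_mul_cancel₀ hfw]

/-- (D1) -/
theorem W_add (H : Subgroup (SLm m F)) (v w : Fin (m + 3) → F) (hv : v ∈ Wset H) (hw : w ∈ Wset H) :
    v + w ∈ Wset H := by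
  intro χ hχ
  by_cases hspan : w ∈ Submodule.span F ({v} : Set (Fin (m + 3) → F))
  · obtain ⟨a, rfl⟩ := Submodule.mem_span_singleton.mp hspan
    have e1 : v + a • v = (1 + a) • v := by rw [add_smul, one_smul]
    rw [e1] at hχ ⊢
    rw [d1_smul]
    apply hv
    rw [smul_dotProduct, ← dotProduct_smul]
    exact hχ
  · obtain ⟨φ₀, hφv, hφw⟩ := d1_exists_functional v w hspan
    -- ψ = χ + χ(v) φ₀
    have hψw : (χ + (χ ⬝ᵥ v) • φ₀) ⬝ᵥ w = 0 := by
      rw [add_dotProduct, smul_dotProduct, hφw, smul_eq_mul, mul_one, add_comm, ← dotProduct_add]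
      exact hχ
    have hg : tvS v φ₀ ∈ H := hv φ₀ hφv
    have ht : tvS w (χ + (χ ⬝ᵥ v) • φ₀) ∈ H := hw _ hψw
    have hkey : tvS v φ₀ * tvS w (χ + (χ ⬝ᵥ v) • φ₀) = tvS (v + w) χ * tvS v φ₀ := by
      apply Subtype.ext
      show (tvS v φ₀).1 * (tvS w (χ + (χ ⬝ᵥ v) • φ₀)).1 = (tvS (v + w) χ).1 * (tvS v φ₀).1
      rw [d1_val v φ₀ hφv, d1_val w _ hψw, d1_val (v + w) χ hχ]
      unfold tvM
      simp only [add_mul, mul_add, one_mul, mul_one, Matrix.mul_smul,
        vecMulVec_mul_vecMulVec, hφw, one_smul, vecMulVec_add, add_vecMulVec, vecMulVec_smul]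
      abel
    have : tvS (v + w) χ = tvS v φ₀ * tvS w (χ + (χ ⬝ᵥ v) • φ₀) * (tvS v φ₀)⁻¹ := by
      rw [hkey, mul_inv_cancel_right]
    rw [this]
    exact H.mul_mem (H.mul_mem hg ht) (H.inv_mem hg)

end Cfsg.Agent.Helper67.RU
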