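import Mathlib
import Cfsg.Agent.Lib.Helper93.RU0
import Cfsg.Agent.Lib.Helper82.RUA
import Cfsg.Agent.Lib.Helper12.RW0

/-!
# RW server (helper12, S2279): pieces (R1) (R2) (R3) (R4) (G7) (G7'), by helper67.
-/

set_option autoImplicit false

namespace Cfsg.Agent.Helper67.RW

open Matrix Cfsg.Agent.Helper93.RU Cfsg.Agent.Helper12.RW

variable {F : Type*} [Field F] {m : ℕ}

/-- (R1) action on column vectors -/
theorem tvS_mulVec (v φ x : Fin (m + 3) → F) (h : φ ⬝ᵥ v = 0) :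
    (tvS v φ).1 *ᵥ x = x + (φ ⬝ᵥ x) • v := by
  rw [Cfsg.Agent.Helper82.RU.tvS_val v φ h]
  unfold tvM
  rw [Matrix.add_mulVec, Matrix.one_mulVec]
  congr 1
  ext i
  simp only [Matrix.mulVec, dotProduct, Matrix.vecMulVec_apply, Pi.smul_apply, smul_eq_mul,
    Finset.sum_mul]
  apply Finset.sum_congr rfl
  intro j _
  ring

/-- (R2) action on row vectors -/
theorem tvS_vecMul (v φ y : Fin (m + 3) → F) (h : φ ⬝ᵥ v = 0) :
    y ᵥ* (tvS v φ).1 = y + (y ⬝ᵥ v) • φ := by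
  rw [Cfsg.Agent.Helper82.RU.tvS_val v φ h]
  unfold tvM
  rw [Matrix.vecMul_add, Matrix.vecMul_one]
  congr 1
  ext i
  simp only [Matrix.vecMul, dotProduct, Matrix.vecMulVec_apply, Pi.smul_apply, smul_eq_mul,
    Finset.sum_mul]
  apply Finset.sum_congr rfl
  intro j _
  ring

/-- (R3) same axis: centres add -/
theorem tvS_add_centre (v w φ : Fin (m + 3) → F) (hv : φ ⬝ᵥ v = 0) (hw : φ ⬝ᵥ w = 0) :
    tvS (v + w) φ = tvS v φ * tvS w φ := by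
  have hs : φ ⬝ᵥ (v + w) = 0 := by rw [dotProduct_add, hv, hw, add_zero]
  apply Subtype.ext
  rw [Matrix.SpecialLinearGroup.coe_mul, Cfsg.Agent.Helper82.RU.tvS_val _ _ hs,
    Cfsg.Agent.Helper82.RU.tvS_val _ _ hv, Cfsg.Agent.Helper82.RU.tvS_val _ _ hw]
  unfold tvM
  rw [mul_add, add_mul, add_mul, one_mul, one_mul, mul_one, Matrix.vecMulVec_mul_vecMulVec, hw,
    zero_smul, Matrix.vecMulVec_zero, add_zero, Matrix.add_vecMulVec, add_assoc]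

/-- (R4) the commutator of two transvections `1 + a αᵀ`, `1 + b βᵀ` with `α ⬝ b = 0`
(written out as `x * y * x⁻¹ * y⁻¹`): it is `1 - (β ⬝ a) b αᵀ`. -/
theorem tvS_comm (a α b β : Fin (m + 3) → F) (ha : α ⬝ᵥ a = 0) (hb : β ⬝ᵥ b = 0)
    (hab : α ⬝ᵥ b = 0) :
    tvS a α * tvS b β * (tvS a α)⁻¹ * (tvS b β)⁻¹ = tvS b ((-(β ⬝ᵥ a)) • α) := by
  obtain ⟨_, hc⟩ := Cfsg.Agent.Helper82.RU.tvS_conj (tvS a α) b β hb
  have e1 : (tvS a α).1 *ᵥ b = b := by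
    rw [tvS_mulVec a α b ha, hab, zero_smul, add_zero]
  have e2 : β ᵥ* ((tvS a α)⁻¹).1 = β + (-(β ⬝ᵥ a)) • α := by
    rw [Cfsg.Agent.Helper82.RU.tvS_inv a α ha,
      tvS_vecMul a (-α) β (by rw [neg_dotProduct, ha, neg_zero]), smul_neg, neg_smul]
  rw [hc, e1, e2]
  have h1 : ((-(β ⬝ᵥ a)) • α) ⬝ᵥ b = 0 := by rw [smul_dotProduct, hab, smul_zero]
  rw [← Cfsg.Agent.Helper82.RU.tvS_mul b β _ hb h1, mul_comm_of_tvS b β _ hb h1,
    mul_inv_cancel_right]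
where
  mul_comm_of_tvS (b β γ : Fin (m + 3) → F) (hβ : β ⬝ᵥ b = 0) (hγ : γ ⬝ᵥ b = 0) :
      tvS b β * tvS b γ = tvS b γ * tvS b β := by
    rw [Cfsg.Agent.Helper82.RU.tvS_mul b β γ hβ hγ, Cfsg.Agent.Helper82.RU.tvS_mul b γ β hγ hβ,
      add_comm]

/-- (G7) `Pv 0 = e_{n-1}`, `Qv 0 = e_0` -/
theorem Pv_zero : Pv m F 0 = eV (lastI m) := by
  unfold Pv
  rw [zpow_zero, Matrix.SpecialLinearGroup.coe_one, Matrix.one_mulVec]

/-- (G7') -/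
theorem Qv_zero : Qv m F 0 = eV 0 := by
  unfold Qv
  rw [neg_zero, zpow_zero, Matrix.SpecialLinearGroup.coe_one, Matrix.vecMul_one]

end Cfsg.Agent.Helper67.RW
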