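import Mathlib
import Cfsg.Agent.S1017
import Cfsg.Agent.Lib.Helper17.Sieve
import Cfsg.Agent.Lib.Helper75.FixKill

/-!
# S0983 exercise order 5148 = 2^2 * 3^2 * 11 * 13 (helper67)

`n_11 = 78`, `|N(P)| = 66`, `|C(P)| = 33`, `u ∈ C(P)` of order 3, `f = |Fix_{Syl_11}(u)| ∈ {12, 45}`,
`|C(u)| = f * m'`, `m' = |N(P) ∩ C(u)| ∈ {33, 66}`; `N(P)` normalises `⟨u⟩` and `|N(⟨u⟩)| = d |C(u)|`, `d ∣ 2`,
`d = 1` forces `m' = 66`: in every case `66 f ∣ 5148`, impossible.
-/

set_option autoImplicit false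

namespace Cfsg.Agent.Helper67.SV

open Nat MulAction Cfsg.Agent.Helper17 Cfsg.Agent.Helper17.Sieve

/-- `C(⟨x⟩) = C(x)` -/
theorem h67sv_centralizer_zpowers {G : Type*} [Group G] (x : G) :
    Subgroup.centralizer ((Subgroup.zpowers x : Subgroup G) : Set G) = Subgroup.centralizer ({x} : Set G) := by
  ext g
  rw [Subgroup.mem_centralizer_iff, Subgroup.mem_centralizer_iff]
  constructor
  · intro h y hy
    rw [Set.mem_singleton_iff] at hy
    subst hy
    exact h y (Subgroup.mem_zpowers y)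
  · intro h y hy
    obtain ⟨j, rfl⟩ := Subgroup.mem_zpowers_iff.1 hy
    have hc : Commute x g := h x (Set.mem_singleton x)
    exact (hc.zpow_left j).eq

/-- `|N(⟨x⟩)| = |C(x)| * d` with `d ∣ r - 1` when `x` has prime order `r`. -/
theorem h67sv_card_normalizer_zpowers {G : Type*} [Group G] [Finite G] (x : G) {r : ℕ} (hr : r.Prime)
    (hx : orderOf x = r) :
    ∃ d : ℕ, d ∣ r - 1 ∧ Nat.card (Subgroup.normalizer ((Subgroup.zpowers x : Subgroup G) : Set G)) =
      Nat.card (Subgroup.centralizer ({x} : Set G)) * d := by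
  have key := Subgroup.card_dvd_of_injective _
    (QuotientGroup.kerLift_injective (Subgroup.zpowers x).normalizerMonoidHom)
  rw [Subgroup.normalizerMonoidHom_ker, ← Subgroup.index, ← Subgroup.relIndex] at key
  have hcardZ : Nat.card (Subgroup.zpowers x) = r := by rw [Nat.card_zpowers, hx]
  have haut : Nat.card (MulAut (Subgroup.zpowers x)) = r - 1 := by
    rw [IsCyclic.card_mulAut, hcardZ]
    exact Nat.totient_prime hr
  rw [haut, h67sv_centralizer_zpowers] at key
  have hle : Subgroup.centralizer ({x} : Set G) ≤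
      Subgroup.normalizer ((Subgroup.zpowers x : Subgroup G) : Set G) := by
    rw [← h67sv_centralizer_zpowers]
    exact Subgroup.centralizer_le_normalizer _
  refine ⟨_, key, ?_⟩
  have h1 := Subgroup.relIndex_mul_relIndex (⊥ : Subgroup G) _ _ bot_le hle
  rw [Subgroup.relIndex_bot_left, Subgroup.relIndex_bot_left] at h1
  exact h1.symm

/-- elements of `P ⊔ ⟨u⟩` are `x * u ^ j` when `u` centralises `P` -/
theorem h67sv_mem_sup_of_commute {G : Type*} [Group G] {P : Subgroup G} {u : G}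
    (hc : ∀ x ∈ P, Commute u x) {y : G} (hy : y ∈ P ⊔ Subgroup.zpowers u) :
    ∃ x ∈ P, ∃ j : ℤ, y = x * u ^ j := by
  rw [Subgroup.sup_eq_closure] at hy
  induction hy using Subgroup.closure_induction with
  | mem z hz =>
    rcases hz with hz | hz
    · exact ⟨z, hz, 0, by simp⟩
    · obtain ⟨j, rfl⟩ := Subgroup.mem_zpowers_iff.1 hz
      exact ⟨1, P.one_mem, j, by simp⟩
  | one => exact ⟨1, P.one_mem, 0, by simp⟩
  | mul a b _ _ ha hb =>
    obtain ⟨x, hx, j, rfl⟩ := ha
    obtain ⟨x', hx', j', rfl⟩ := hb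
    refine ⟨x * x', P.mul_mem hx hx', j + j', ?_⟩
    have h1 : Commute (u ^ j) x' := (hc x' hx').zpow_left j
    calc x * u ^ j * (x' * u ^ j') = x * (u ^ j * x') * u ^ j' := by group
      _ = x * (x' * u ^ j) * u ^ j' := by rw [h1.eq]
      _ = x * x' * u ^ (j + j') := by rw [zpow_add]; group
  | inv a _ ha =>
    obtain ⟨x, hx, j, rfl⟩ := ha
    refine ⟨x⁻¹, P.inv_mem hx, -j, ?_⟩
    have h1 : Commute (u ^ j) x := (hc x hx).zpow_left j
    rw [mul_inv_rev, (h1.inv_inv).eq, zpow_neg]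

/-- `N(P)` normalises `⟨u⟩` when `C(P)` has order `p r` and `u ∈ C(P)` has order `r`. -/
theorem h67sv_conj_mem_zpowers {G : Type*} [Group G] [Finite G] {p r : ℕ} [hp : Fact p.Prime]
    [hr : Fact r.Prime] (hpr : p ≠ r) (P : Sylow p G) (hP : Nat.card (P : Subgroup G) = p) (u : G)
    (hu : orderOf u = r) (huC : u ∈ Subgroup.centralizer ((P : Subgroup G) : Set G))
    (hC : Nat.card (Subgroup.centralizer ((P : Subgroup G) : Set G)) = p * r)
    (n : G) (hn : n ∈ Subgroup.normalizer ((P : Subgroup G) : Set G)) :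
    n * u * n⁻¹ ∈ Subgroup.zpowers u := by
  have hPC : (P : Subgroup G) ≤ Subgroup.centralizer ((P : Subgroup G) : Set G) :=
    Cfsg.Agent.S1017.le_centralizer_self P hP
  have hcomm : ∀ x ∈ (P : Subgroup G), Commute u x := fun x hx =>
    (Subgroup.mem_centralizer_iff.1 huC x hx).symm
  have hKC : (P : Subgroup G) ⊔ Subgroup.zpowers u ≤ Subgroup.centralizer ((P : Subgroup G) : Set G) :=
    sup_le hPC ((Subgroup.zpowers_le).2 huC)
  have hpd : p ∣ Nat.card ↥((P : Subgroup G) ⊔ Subgroup.zpowers u) := by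
    conv_lhs => rw [← hP]
    exact Subgroup.card_dvd_of_le le_sup_left
  have hrd : r ∣ Nat.card ↥((P : Subgroup G) ⊔ Subgroup.zpowers u) := by
    have h1 : Nat.card (Subgroup.zpowers u) = r := by rw [Nat.card_zpowers, hu]
    conv_lhs => rw [← h1]
    exact Subgroup.card_dvd_of_le le_sup_right
  have hcop : Nat.Coprime p r := (Nat.coprime_primes hp.out hr.out).2 hpr
  have hprd : p * r ∣ Nat.card ↥((P : Subgroup G) ⊔ Subgroup.zpowers u) :=
    hcop.mul_dvd_of_dvd_of_dvd hpd hrd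
  have hK : (P : Subgroup G) ⊔ Subgroup.zpowers u = Subgroup.centralizer ((P : Subgroup G) : Set G) := by
    apply Subgroup.eq_of_le_of_card_ge hKC
    rw [hC]
    exact Nat.le_of_dvd Nat.card_pos hprd
  -- y ∈ C(P)
  have hyC : n * u * n⁻¹ ∈ Subgroup.centralizer ((P : Subgroup G) : Set G) := by
    rw [Subgroup.mem_centralizer_iff]
    intro x hx
    have hx' : n⁻¹ * x * n ∈ (P : Subgroup G) := by
      have hni : n⁻¹ ∈ Subgroup.normalizer ((P : Subgroup G) : Set G) := Subgroup.inv_mem _ hn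
      have := (Subgroup.mem_normalizer_iff.1 hni x).1 hx
      simpa using this
    have hc := (hcomm _ hx').eq
    calc x * (n * u * n⁻¹) = n * ((n⁻¹ * x * n) * u) * n⁻¹ := by group
      _ = n * (u * (n⁻¹ * x * n)) * n⁻¹ := by rw [hc]
      _ = n * u * n⁻¹ * x := by group
  rw [← hK] at hyC
  obtain ⟨x, hx, j, hxy⟩ := h67sv_mem_sup_of_commute hcomm hyC
  -- y ^ r = 1
  have hyr : (n * u * n⁻¹) ^ r = 1 := by
    rw [conj_pow, ← hu, pow_orderOf_eq_one]; group
  have hcj : Commute x (u ^ j) := ((hcomm x hx).zpow_left j).symm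
  have hur : (u ^ j) ^ r = 1 := by
    rw [← zpow_natCast, ← zpow_mul, mul_comm, zpow_mul, zpow_natCast, ← hu, pow_orderOf_eq_one, one_zpow]
  have hxr : x ^ r = 1 := by
    have h1 := hyr
    rw [hxy, hcj.mul_pow, hur, mul_one] at h1
    exact h1
  have hxp : x ^ p = 1 := by
    have h1 : (⟨x, hx⟩ : (P : Subgroup G)) ^ Nat.card (P : Subgroup G) = 1 := pow_card_eq_one'
    rw [hP] at h1
    have h2 := congrArg Subtype.val h1
    simpa using h2
  have hx1 : x = 1 := by
    have h1 : orderOf x ∣ r := orderOf_dvd_of_pow_eq_one hxr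
    have h2 : orderOf x ∣ p := orderOf_dvd_of_pow_eq_one hxp
    have h3 : orderOf x ∣ Nat.gcd p r := Nat.dvd_gcd h2 h1
    rw [hcop] at h3
    exact orderOf_eq_one_iff.1 (Nat.dvd_one.1 h3)
  rw [hxy, hx1, one_mul]
  exact Subgroup.zpow_mem _ (Subgroup.mem_zpowers u) j

theorem no_5148.{u} : NoSimple.{u} 5148 := by
  intro G _ _ _ hna hn0
  have : Fact (Nat.Prime 11) := ⟨by norm_num⟩
  have : Fact (Nat.Prime 3) := ⟨by norm_num⟩
  have hn : Nat.card G = 11 ^ 1 * 468 := by rw [hn0]; norm_num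
  have hpm : ¬ 11 ∣ 468 := by norm_num
  obtain ⟨P⟩ : Nonempty (Sylow 11 G) := inferInstance
  have hPc : Nat.card (P : Subgroup G) = 11 := by
    have := sylow_card_eq P hn hpm
    simpa using this
  obtain ⟨hdm, hdp⟩ := sylow_count (G := G) hn hpm
  have hnb := Cfsg.Agent.Helper75.FixKill.not_bad hna 11 1 468 one_ne_zero (by norm_num) hn hpm
  have hd : Nat.card (Sylow 11 G) = 78 := by
    have key : ∀ d ∈ List.range 469, d ∣ 468 → d % 11 = 1 →
        ¬ Bad (11 ^ 1 * 468) 11 1 468 d → d = 78 := by decide +kernel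
    have hle := Nat.le_of_dvd (by norm_num) hdm
    exact key _ (List.mem_range.2 (by omega)) hdm hdp hnb
  have hNd := card_normalizer_mul_sylow_count P
  rw [hd, hn0] at hNd
  have hN : Nat.card ↥(Subgroup.normalizer ((P : Subgroup G) : Set G)) = 66 := by omega
  obtain ⟨e, he1, he2, he3⟩ := exists_e P hPc (by rw [hn0]; norm_num)
  rw [hN] at he3
  have hC : Nat.card ↥(Subgroup.centralizer ((P : Subgroup G) : Set G)) = 33 := by
    have hle : e ≤ 10 := Nat.le_of_dvd (by norm_num) he1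
    have he0 : e ≠ 0 := by rintro rfl; omega
    interval_cases e <;> omega
  -- an element of order 3 in C(P)
  obtain ⟨u', hu'⟩ := exists_prime_orderOf_dvd_card'
    (G := ↥(Subgroup.centralizer ((P : Subgroup G) : Set G))) 3 (by rw [hC]; norm_num)
  have hu : orderOf (u' : G) = 3 := by rw [Subgroup.orderOf_coe]; exact hu'
  have huC : (u' : G) ∈ Subgroup.centralizer ((P : Subgroup G) : Set G) := u'.2
  obtain ⟨u, hudef⟩ : ∃ u : G, u = (u' : G) := ⟨_, rfl⟩
  rw [← hudef] at hu huC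
  have hu1 : u ≠ 1 := Cfsg.Agent.S1017.ne_one_of_orderOf_prime u Nat.prime_three hu
  have h2lt : 2 < Nat.card G := by rw [hn0]; norm_num
  -- the fixed points of u on Syl_11
  have hf1 := Cfsg.Agent.S1017.card_fixedBy_sylow_modEq P hPc u huC
  have hf2 := Cfsg.Agent.S1017.card_modEq_card_fixedBy (α := Sylow 11 G) u hu
  have hf3 := Cfsg.Agent.S1017.card_fixedBy_le (α := Sylow 11 G) u
  have hf4 := Cfsg.Agent.S1017.card_fixedBy_ne (α := Sylow 11 G)
    (Cfsg.Agent.S1017.sylow_action_nontrivial (by rw [hd]; norm_num)) u hu1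
  rw [hd] at hf2 hf3 hf4
  unfold Nat.ModEq at hf1 hf2
  have hf : Nat.card (fixedBy (Sylow 11 G) u) = 12 ∨ Nat.card (fixedBy (Sylow 11 G) u) = 45 := by
    omega
  have hbig : Nat.card (Sylow 11 G) - 1 < 11 * (Nat.card (fixedBy (Sylow 11 G) u) - 1) := by
    rw [hd]; rcases hf with h | h <;> rw [h] <;> norm_num
  have hcard := Cfsg.Agent.S1017.card_centralizer_eq P hPc u huC hbig
  -- m'
  have hm1 : Nat.card ↥(Subgroup.normalizer ((P : Subgroup G) : Set G) ⊓
      Subgroup.centralizer ({u} : Set G)) ∣ 66 := by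
    rw [← hN]; exact Subgroup.card_dvd_of_le inf_le_left
  have hm2 : 33 ∣ Nat.card ↥(Subgroup.normalizer ((P : Subgroup G) : Set G) ⊓
      Subgroup.centralizer ({u} : Set G)) := by
    have hPle : (P : Subgroup G) ≤ Subgroup.normalizer ((P : Subgroup G) : Set G) ⊓
        Subgroup.centralizer ({u} : Set G) :=
      le_inf Subgroup.le_normalizer ((Cfsg.Agent.S1017.le_centralizer_singleton_iff _ u).2 huC)
    have hpd : 11 ∣ Nat.card ↥(Subgroup.normalizer ((P : Subgroup G) : Set G) ⊓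
        Subgroup.centralizer ({u} : Set G)) := by
      conv_lhs => rw [← hPc]
      exact Subgroup.card_dvd_of_le hPle
    have humem : u ∈ Subgroup.normalizer ((P : Subgroup G) : Set G) ⊓
        Subgroup.centralizer ({u} : Set G) := by
      refine ⟨Subgroup.centralizer_le_normalizer _ huC, ?_⟩
      show u ∈ Subgroup.centralizer ({u} : Set G)
      rw [Subgroup.mem_centralizer_iff]
      intro y hy
      rw [Set.mem_singleton_iff] at hy
      rw [hy]
    have hrd : 3 ∣ Nat.card ↥(Subgroup.normalizer ((P : Subgroup G) : Set G) ⊓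
        Subgroup.centralizer ({u} : Set G)) := by
      rw [← hu]
      exact Subgroup.orderOf_dvd_natCard _ humem
    omega
  -- N(P) normalises ⟨u⟩
  have hNPle : Subgroup.normalizer ((P : Subgroup G) : Set G) ≤
      Subgroup.normalizer ((Subgroup.zpowers u : Subgroup G) : Set G) := by
    rw [Subgroup.le_normalizer_iff]
    intro n hn' k hk
    obtain ⟨j, rfl⟩ := Subgroup.mem_zpowers_iff.1 hk
    have e : n * u ^ j * n⁻¹ = (n * u * n⁻¹) ^ j := (conj_zpow).symm
    rw [e]
    exact zpow_mem (h67sv_conj_mem_zpowers (p := 11) (r := 3) (by norm_num) P hPc u hu huC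
      (by rw [hC]) n hn') j
  obtain ⟨d, hd2, hNu⟩ := h67sv_card_normalizer_zpowers u Nat.prime_three hu
  have hdvdN : Nat.card ↥(Subgroup.normalizer ((Subgroup.zpowers u : Subgroup G) : Set G)) ∣ 5148 := by
    rw [← hn0]; exact Subgroup.card_subgroup_dvd_card _
  have hdvdC : Nat.card ↥(Subgroup.centralizer ({u} : Set G)) ∣ 5148 := by
    rw [← hn0]; exact Subgroup.card_subgroup_dvd_card _
  have hle : Subgroup.centralizer ({u} : Set G) ≤
      Subgroup.normalizer ((Subgroup.zpowers u : Subgroup G) : Set G) := by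
    rw [← h67sv_centralizer_zpowers]
    exact Subgroup.centralizer_le_normalizer _
  have hd' : d = 1 ∨ d = 2 := (Nat.dvd_prime Nat.prime_two).1 hd2
  obtain ⟨f, hfdef⟩ : ∃ f : ℕ, f = Nat.card (fixedBy (Sylow 11 G) u) := ⟨_, rfl⟩
  obtain ⟨m', hmdef⟩ : ∃ m' : ℕ, m' = Nat.card ↥(Subgroup.normalizer ((P : Subgroup G) : Set G) ⊓
      Subgroup.centralizer ({u} : Set G)) := ⟨_, rfl⟩
  rw [← hfdef] at hf hcard
  rw [← hmdef] at hm1 hm2 hcard
  have hmpos : 0 < m' := by rw [hmdef]; exact Nat.card_pos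
  have hm' : m' = 33 ∨ m' = 66 := by
    obtain ⟨k, hk⟩ := hm2
    have hle66 : m' ≤ 66 := Nat.le_of_dvd (by norm_num) hm1
    have hk12 : k = 1 ∨ k = 2 := by omega
    rcases hk12 with rfl | rfl <;> omega
  rcases hd' with rfl | rfl
  · -- N(⟨u⟩) = C(u) ⊇ N(P): m' = 66
    have heq : Subgroup.centralizer ({u} : Set G) =
        Subgroup.normalizer ((Subgroup.zpowers u : Subgroup G) : Set G) :=
      Subgroup.eq_of_le_of_card_ge hle (by rw [hNu, mul_one])
    have hNC : Subgroup.normalizer ((P : Subgroup G) : Set G) ≤ Subgroup.centralizer ({u} : Set G) := by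
      rw [heq]; exact hNPle
    have hm66 : m' = 66 := by rw [hmdef, inf_eq_left.2 hNC, hN]
    rw [hcard, hm66] at hdvdC
    rcases hf with rfl | rfl <;> norm_num at hdvdC
  · rw [hNu, hcard] at hdvdN
    rcases hf with rfl | rfl <;> rcases hm' with rfl | rfl <;> norm_num at hdvdN

end Cfsg.Agent.Helper67.SV
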