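import Mathlib
import Cfsg.Agent.Lib.Helper67.Basic
import Cfsg.Agent.Lib.Helper67.BaerSuzuki

set_option autoImplicit false

namespace Cfsg.Agent.Helper67

universe u

/-- No non-identity element of odd order is inverted by an element of the group. -/
def NoRealOdd (H : Type u) [Group H] : Prop :=
  ∀ x g : H, g * x * g⁻¹ = x⁻¹ → Odd (orderOf x) → x = 1

/-- Every `2`-element lies in every Sylow `2`-subgroup. -/
def TwoClosed (H : Type u) [Group H] : Prop :=
  ∀ x : H, (∃ k : ℕ, orderOf x = 2 ^ k) → ∀ Q : Sylow 2 H, x ∈ Q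

theorem NoRealOdd.subgroup {H : Type u} [Group H] (h : NoRealOdd H) (K : Subgroup H) :
    NoRealOdd K := by
  intro x g hg hodd
  have h1 : (g : H) * (x : H) * (g : H)⁻¹ = (x : H)⁻¹ := by
    have := congrArg Subtype.val hg
    simpa using this
  have h2 := h (x : H) (g : H) h1 (by rwa [Subgroup.orderOf_coe])
  exact Subtype.ext h2

/-- conjugation by an inverting element inverts powers -/
theorem conj_zpow_of_inverts {H : Type*} [Group H] {a c : H} (h : a * c * a⁻¹ = c⁻¹) (i : ℤ) :
    a * c ^ i * a⁻¹ = (c ^ i)⁻¹ := by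
  have := map_zpow (MulAut.conj a) c i
  simp only [MulAut.conj_apply] at this
  rw [this, h, inv_zpow]

section hard

variable {H : Type u} [Group H] [Finite H]

omit [Finite H] in
/-- The quotient of `H = ⟨x, v⟩` by `N` with `x², v² ∈ N` when `xv` is a `2`-element mod `N`. -/
theorem isPGroup_two_of_dihedral_quotient (N : Subgroup H) [N.Normal] (hN : IsPGroup 2 N)
    (x v : H) (hx : x * x ∈ N) (hv : v * v ∈ N) (htop : Subgroup.closure {x, v} = (⊤ : Subgroup H))
    (hc : ∃ k : ℕ, orderOf ((QuotientGroup.mk' N x) * (QuotientGroup.mk' N v)) = 2 ^ k) :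
    IsPGroup 2 H := by
  set π := QuotientGroup.mk' N with hπ
  set a := π x with ha
  set b := π v with hb
  set c := a * b with hcdef
  have haa : a * a = 1 := by
    rw [ha, ← map_mul, hπ, QuotientGroup.mk'_apply, QuotientGroup.eq_one_iff]; exact hx
  have hbb : b * b = 1 := by
    rw [hb, ← map_mul, hπ, QuotientGroup.mk'_apply, QuotientGroup.eq_one_iff]; exact hv
  have hainv : a⁻¹ = a := inv_eq_of_mul_eq_one_left haa
  have hbinv : b⁻¹ = b := inv_eq_of_mul_eq_one_left hbb
  have hinv : a * c * a⁻¹ = c⁻¹ := by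
    rw [hcdef, mul_inv_rev, hainv, hbinv, ← mul_assoc, haa, one_mul]
  -- the quotient is a 2-group
  have hza : IsPGroup 2 (Subgroup.zpowers a) := by
    by_cases h1 : a = 1
    · apply IsPGroup.of_card (n := 0)
      rw [Nat.card_zpowers]
      simp [h1]
    · apply IsPGroup.of_card (n := 1)
      rw [Nat.card_zpowers, pow_one]
      exact orderOf_eq_prime (by rw [pow_two]; exact haa) h1
  have hzc : IsPGroup 2 (Subgroup.zpowers c) := by
    obtain ⟨k, hk⟩ := hc
    apply IsPGroup.of_card (n := k)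
    rw [Nat.card_zpowers]; exact hk
  have hnorm : Subgroup.zpowers a ≤ Subgroup.normalizer ((Subgroup.zpowers c : Subgroup (H ⧸ N)) : Set (H ⧸ N)) := by
    rw [Subgroup.zpowers_le, Subgroup.mem_normalizer_iff]
    intro h
    constructor
    · intro hh
      obtain ⟨i, rfl⟩ := Subgroup.mem_zpowers_iff.1 hh
      rw [conj_zpow_of_inverts hinv]
      exact inv_mem (Subgroup.zpow_mem_zpowers c i)
    · intro hh
      obtain ⟨i, hi⟩ := Subgroup.mem_zpowers_iff.1 hh
      have : h = a⁻¹ * c ^ i * a := by rw [hi]; simp [mul_assoc]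
      rw [this]
      have h2 : a⁻¹ * c ^ i * a = a * c ^ i * a⁻¹ := by rw [hainv]
      rw [h2, conj_zpow_of_inverts hinv]
      exact inv_mem (Subgroup.zpow_mem_zpowers c i)
  have hsup := IsPGroup.to_sup_of_normal_right' hza hzc hnorm
  have htopq : (⊤ : Subgroup (H ⧸ N)) ≤ Subgroup.zpowers a ⊔ Subgroup.zpowers c := by
    have h1 : (⊤ : Subgroup (H ⧸ N)) = Subgroup.map π ⊤ := by
      rw [← MonoidHom.range_eq_map]
      exact (MonoidHom.range_eq_top.2 (QuotientGroup.mk'_surjective N)).symm
    rw [h1, ← htop, MonoidHom.map_closure, Subgroup.closure_le]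
    rintro _ ⟨y, hy, rfl⟩
    rcases hy with rfl | rfl
    · exact (le_sup_left : Subgroup.zpowers a ≤ _) (Subgroup.mem_zpowers a)
    · have : π y = a⁻¹ * c := by rw [hcdef, ← mul_assoc, inv_mul_cancel, one_mul]
      rw [this]
      exact mul_mem ((le_sup_left : Subgroup.zpowers a ≤ _) (inv_mem (Subgroup.mem_zpowers a)))
        ((le_sup_right : Subgroup.zpowers c ≤ _) (Subgroup.mem_zpowers c))
  have hQ : IsPGroup 2 (H ⧸ N) := by
    intro g
    obtain ⟨k, hk⟩ := hsup ⟨g, htopq (Subgroup.mem_top g)⟩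
    refine ⟨k, ?_⟩
    have := congrArg Subtype.val hk
    simpa using this
  intro h
  obtain ⟨i, hi⟩ := hQ (π h)
  have hmem : h ^ 2 ^ i ∈ N := by
    rw [← QuotientGroup.eq_one_iff, ← hi]; rfl
  obtain ⟨j, hj⟩ := hN ⟨h ^ 2 ^ i, hmem⟩
  refine ⟨i + j, ?_⟩
  have := congrArg Subtype.val hj
  simp only [Subgroup.coe_pow, Subgroup.coe_one] at this
  rw [pow_add, pow_mul]; exact this

/-- If an odd prime divides the order of `xv` mod `N`, some element of odd prime order is
inverted: contradiction with `NoRealOdd`. -/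
theorem false_of_odd_prime_dvd (hnr : NoRealOdd H) (N : Subgroup H) [N.Normal]
    (hN : IsPGroup 2 N) (x v : H) (hx : x * x ∈ N) (hv : v * v ∈ N)
    (r : ℕ) (hr : r.Prime) (hr2 : r ≠ 2)
    (hrc : r ∣ orderOf ((QuotientGroup.mk' N x) * (QuotientGroup.mk' N v))) : False := by
  have : Fact r.Prime := ⟨hr⟩
  set π := QuotientGroup.mk' N with hπ
  set a := π x with ha
  set b := π v with hb
  set c := a * b with hcdef
  have haa : a * a = 1 := by
    rw [ha, ← map_mul, hπ, QuotientGroup.mk'_apply, QuotientGroup.eq_one_iff]; exact hx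
  have hbb : b * b = 1 := by
    rw [hb, ← map_mul, hπ, QuotientGroup.mk'_apply, QuotientGroup.eq_one_iff]; exact hv
  have hainv : a⁻¹ = a := inv_eq_of_mul_eq_one_left haa
  have hbinv : b⁻¹ = b := inv_eq_of_mul_eq_one_left hbb
  have hinv : a * c * a⁻¹ = c⁻¹ := by
    rw [hcdef, mul_inv_rev, hainv, hbinv, ← mul_assoc, haa, one_mul]
  set y := x * v with hy
  have hπy : π y = c := by rw [hy, map_mul]
  have hry : r ∣ orderOf y := by
    have := orderOf_map_dvd π y
    rw [hπy] at this
    exact hrc.trans this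
  set z0 := y ^ (orderOf y / r) with hz0def
  have hz0 : orderOf z0 = r := orderOf_pow_orderOf_div (orderOf_pos y).ne' hry
  set d := π z0 with hd
  have hdc : d = c ^ ((orderOf y / r : ℕ) : ℤ) := by
    rw [hd, hz0def, map_pow, hπy, zpow_natCast]
  have had : a * d * a⁻¹ = d⁻¹ := by
    rw [hdc]; exact conj_zpow_of_inverts hinv _
  set L : Subgroup H := Subgroup.comap π (Subgroup.zpowers d) with hL
  have hz0L : z0 ∈ L := Subgroup.mem_comap.2 (Subgroup.mem_zpowers d)
  have hu0L : x * z0 * x⁻¹ ∈ L := by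
    rw [hL, Subgroup.mem_comap, map_mul, map_mul, map_inv, ← ha, ← hd, had]
    exact inv_mem (Subgroup.mem_zpowers d)
  set z0' : L := ⟨z0, hz0L⟩ with hz0'
  set u0' : L := ⟨x * z0 * x⁻¹, hu0L⟩ with hu0'
  have ho1 : orderOf z0' = r := by
    rw [← Subgroup.orderOf_coe]; exact hz0
  have ho2 : orderOf u0' = r := by
    rw [← Subgroup.orderOf_coe]
    have := (MulAut.conj x).orderOf_eq z0
    rw [MulAut.conj_apply] at this
    rw [← hz0]; exact this
  have hp1 : IsPGroup r (Subgroup.zpowers z0') := by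
    apply IsPGroup.of_card (n := 1); rw [Nat.card_zpowers, pow_one]; exact ho1
  have hp2 : IsPGroup r (Subgroup.zpowers u0') := by
    apply IsPGroup.of_card (n := 1); rw [Nat.card_zpowers, pow_one]; exact ho2
  obtain ⟨P, hP⟩ := hp1.exists_le_sylow
  obtain ⟨P', hP'⟩ := hp2.exists_le_sylow
  obtain ⟨l, hl⟩ := MulAction.exists_smul_eq L P' P
  have h1 : l * u0' * l⁻¹ ∈ P := by
    have : l * u0' * l⁻¹ ∈ ((l • P' : Sylow r L) : Subgroup L) := by
      rw [sylow_smul_coe]
      exact conj_mem_cj (hP' (Subgroup.mem_zpowers u0'))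
    rw [hl] at this
    exact this
  have h2 : z0' ∈ P := hP (Subgroup.mem_zpowers z0')
  set t : L := l * u0' * l⁻¹ * z0' with ht
  have htP : t ∈ P := mul_mem h1 h2
  have hπl : π (l : H) ∈ Subgroup.zpowers d := l.2
  have htN : (t : H) ∈ N := by
    rw [← QuotientGroup.eq_one_iff]
    show π (t : H) = 1
    have e1 : (t : H) = (l : H) * (x * z0 * x⁻¹) * (l : H)⁻¹ * z0 := by
      rw [ht]; simp [hu0', hz0']
    rw [e1, map_mul, map_mul, map_mul, map_mul, map_mul, map_inv, map_inv, ← ha, ← hd, had]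
    obtain ⟨i, hi⟩ := Subgroup.mem_zpowers_iff.1 hπl
    rw [← hi]
    have hcomm : Commute (d ^ i) d⁻¹ := ((Commute.refl d).zpow_left i).inv_right
    rw [hcomm.eq]; simp
  -- t has 2-power order and r-power order
  obtain ⟨j, hj⟩ := hN ⟨(t : H), htN⟩
  obtain ⟨k, hk⟩ := P.isPGroup' ⟨t, htP⟩
  have hj' : t ^ 2 ^ j = 1 := by
    have := congrArg Subtype.val hj
    apply Subtype.ext
    simpa using this
  have hk' : t ^ r ^ k = 1 := by
    have := congrArg Subtype.val hk
    simpa using this
  have ht1 : t = 1 := by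
    have d1 := orderOf_dvd_of_pow_eq_one hj'
    have d2 := orderOf_dvd_of_pow_eq_one hk'
    have hcop : Nat.Coprime (2 ^ j) (r ^ k) :=
      Nat.Coprime.pow _ _ ((Nat.coprime_primes Nat.prime_two hr).2 (Ne.symm hr2))
    have := Nat.eq_one_of_dvd_coprimes hcop d1 d2
    exact orderOf_eq_one_iff.1 this
  -- so l x inverts z0
  have hfinal : ((l : H) * x) * z0 * ((l : H) * x)⁻¹ = z0⁻¹ := by
    have e1 : (t : H) = (l : H) * (x * z0 * x⁻¹) * (l : H)⁻¹ * z0 := by
      rw [ht]; simp [hu0', hz0']
    have e2 : (t : H) = 1 := by rw [ht1]; rfl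
    rw [e1] at e2
    have := eq_inv_of_mul_eq_one_left e2
    rw [← this]; simp [mul_assoc]
  have hz01 := hnr z0 ((l : H) * x) hfinal (by rw [hz0]; exact hr.odd_of_ne_two hr2)
  rw [hz01, orderOf_one] at hz0
  exact hr.one_lt.ne hz0

end hard

theorem twoClosed_of_noRealOdd : ∀ n : ℕ, ∀ (H : Type u) [Group H] [Finite H],
    Nat.card H = n → NoRealOdd H → TwoClosed H := by
  intro n
  induction n using Nat.strong_induction_on with
  | _ n ih =>
    intro H _ _ hn hnr
    set N : Subgroup H := ⨅ Q : Sylow 2 H, (Q : Subgroup H) with hN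
    have hNnormal : N.Normal := by
      refine ⟨fun m hm g => ?_⟩
      rw [hN, Subgroup.mem_iInf] at hm ⊢
      intro Q
      have := hm (g⁻¹ • Q)
      rw [sylow_smul_coe, mem_cj, inv_inv] at this
      exact this
    have hN2 : IsPGroup 2 N := by
      obtain ⟨Q0⟩ : Nonempty (Sylow 2 H) := inferInstance
      exact Q0.isPGroup'.to_le (iInf_le _ Q0)
    have claim : ∀ k : ℕ, ∀ x : H, orderOf x = 2 ^ k → x ∈ N := by
      intro k
      induction k with
      | zero =>
        intro x hx
        rw [pow_zero, orderOf_eq_one_iff] at hx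
        rw [hx]; exact one_mem _
      | succ k ihk =>
        intro x hx
        have hx2 : x * x ∈ N := by
          apply ihk
          rw [← pow_two, orderOf_pow_of_dvd two_ne_zero (by rw [hx, pow_succ]; exact Dvd.intro_left _ rfl),
            hx, pow_succ]
          exact Nat.mul_div_cancel _ (by norm_num)
        rw [hN, Subgroup.mem_iInf]
        intro Q
        apply baer_suzuki_elt
        intro g
        set v := g * x * g⁻¹ with hv
        have hv2 : v * v ∈ N := by
          have : v * v = g * (x * x) * g⁻¹ := by rw [hv]; simp [mul_assoc]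
          rw [this]
          exact hNnormal.conj_mem _ hx2 g
        have hov : orderOf v = 2 ^ (k + 1) := by
          have := (MulAut.conj g).orderOf_eq x
          rw [MulAut.conj_apply] at this
          rw [hv, this, hx]
        set K := Subgroup.zpowers x ⊔ Subgroup.zpowers v with hKdef
        have hxK : x ∈ K := (le_sup_left : Subgroup.zpowers x ≤ K) (Subgroup.mem_zpowers x)
        have hvK : v ∈ K := (le_sup_right : Subgroup.zpowers v ≤ K) (Subgroup.mem_zpowers v)
        by_cases hK : K = ⊤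
        · have htop : Subgroup.closure {x, v} = (⊤ : Subgroup H) := by
            rw [← hK, hKdef, Set.insert_eq, Subgroup.closure_union, ← Subgroup.zpowers_eq_closure,
              ← Subgroup.zpowers_eq_closure]
          have hH2 : IsPGroup 2 H := by
            by_cases hc : ∃ k : ℕ,
                orderOf ((QuotientGroup.mk' N x) * (QuotientGroup.mk' N v)) = 2 ^ k
            · exact isPGroup_two_of_dihedral_quotient N hN2 x v hx2 hv2 htop hc
            · exfalso
              obtain ⟨r, hr, hrd, hr2⟩ : ∃ r : ℕ, r.Prime ∧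
                  r ∣ orderOf ((QuotientGroup.mk' N x) * (QuotientGroup.mk' N v)) ∧ r ≠ 2 := by
                by_contra hcon
                push Not at hcon
                apply hc
                exact ⟨_, Nat.eq_prime_pow_of_unique_prime_dvd (orderOf_pos _).ne'
                  (fun {d} hd hdvd => hcon d hd hdvd)⟩
              exact false_of_odd_prime_dvd hnr N hN2 x v hx2 hv2 r hr hr2 hrd
          exact hH2.to_subgroup K
        · have hlt : Nat.card K < n := by
            rw [← hn, ← Subgroup.card_top (G := H)]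
            exact card_lt_card_of_lt (lt_top_iff_ne_top.2 hK)
          have hKc := ih (Nat.card K) hlt K rfl (hnr.subgroup K)
          obtain ⟨S⟩ : Nonempty (Sylow 2 K) := inferInstance
          have h1 := hKc ⟨x, hxK⟩ ⟨k + 1, by rw [← Subgroup.orderOf_coe]; exact hx⟩ S
          have h2 := hKc ⟨v, hvK⟩ ⟨k + 1, by rw [← Subgroup.orderOf_coe]; exact hov⟩ S
          have hle : K ≤ (S : Subgroup K).map K.subtype := by
            apply sup_le
            · rw [Subgroup.zpowers_le]; exact ⟨⟨x, hxK⟩, h1, rfl⟩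
            · rw [Subgroup.zpowers_le]; exact ⟨⟨v, hvK⟩, h2, rfl⟩
          exact (S.isPGroup'.map K.subtype).to_le hle
    rintro x ⟨k, hk⟩ Q
    have := claim k x hk
    rw [hN, Subgroup.mem_iInf] at this
    exact this Q

/-- **Theorem**: if no non-identity element of odd order is inverted by a group element,
the Sylow `2`-subgroups are normal. -/
theorem sylow_two_normal_of_noRealOdd {H : Type u} [Group H] [Finite H] (h : NoRealOdd H)
    (P : Sylow 2 H) : (P : Subgroup H).Normal := by
  have tc := twoClosed_of_noRealOdd _ H rfl h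
  refine ⟨fun m hm g => ?_⟩
  obtain ⟨k, hk⟩ := (IsPGroup.iff_orderOf.1 P.isPGroup') ⟨m, hm⟩
  rw [← Subgroup.orderOf_coe] at hk
  apply tc (g * m * g⁻¹) ⟨k, ?_⟩ P
  have := (MulAut.conj g).orderOf_eq m
  rw [MulAut.conj_apply] at this
  rw [this]; exact hk


section extras

variable {H : Type*} [Group H]

theorem inv_conj_of_inverts {g x : H} (h : g * x * g⁻¹ = x⁻¹) : g⁻¹ * x * (g⁻¹)⁻¹ = x⁻¹ := by
  have h1 : x = g⁻¹ * x⁻¹ * g := by rw [← h]; simp [mul_assoc]
  have h2 := congrArg Inv.inv h1
  rw [inv_inv]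
  rw [h2]; simp [mul_assoc]

theorem mem_normalizer_zpowers_of_inverts {g x : H} (h : g * x * g⁻¹ = x⁻¹) :
    g ∈ Subgroup.normalizer ((Subgroup.zpowers x : Subgroup H) : Set H) := by
  rw [Subgroup.mem_normalizer_iff]
  intro y
  constructor
  · intro hy
    obtain ⟨i, rfl⟩ := Subgroup.mem_zpowers_iff.1 hy
    rw [conj_zpow_of_inverts h]
    exact inv_mem (Subgroup.zpow_mem_zpowers x i)
  · intro hy
    obtain ⟨i, hi⟩ := Subgroup.mem_zpowers_iff.1 hy
    have : y = g⁻¹ * x ^ i * (g⁻¹)⁻¹ := by rw [hi]; simp [mul_assoc]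
    rw [this, conj_zpow_of_inverts (inv_conj_of_inverts h)]
    exact inv_mem (Subgroup.zpow_mem_zpowers x i)

theorem eq_one_of_inverts_of_commute {g x : H} (h : g * x * g⁻¹ = x⁻¹) (hc : g * x = x * g)
    (hodd : Odd (orderOf x)) : x = 1 := by
  have hxx : x = x⁻¹ := by rw [← h, hc]; simp
  have hx2 : x ^ 2 = 1 := by
    rw [pow_two]
    nth_rewrite 2 [hxx]
    simp
  have hd : orderOf x ∣ 2 := orderOf_dvd_of_pow_eq_one hx2
  have : orderOf x = 1 := by
    rcases (Nat.dvd_prime Nat.prime_two).1 hd with h1 | h2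
    · exact h1
    · rw [h2] at hodd; exact absurd hodd (by decide)
  exact orderOf_eq_one_iff.1 this

end extras

end Cfsg.Agent.Helper67
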